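import Mathlib

/-!
# Congruence orbits of symmetric matrices over a finite field of odd order

Every non-zero symmetric matrix has at least `(q ^ n - 1) / 2` congruent matrices.
-/

set_option autoImplicit false

open Matrix

namespace CfsgLib.MinDeg

variable {F : Type*} [Field F] {n : ℕ}

/-- An invertible matrix with a prescribed non-zero column. -/
theorem exists_gl_col [DecidableEq F] (i : Fin n) {a : Fin n → F} (ha : a ≠ 0) :
    ∃ A : GL (Fin n) F, (A : Matrix (Fin n) (Fin n) F).mulVec (Pi.single i 1) = a := by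
  obtain ⟨k, hk⟩ := Function.ne_iff.1 ha
  let M : Matrix (Fin n) (Fin n) F := ((1 : Matrix (Fin n) (Fin n) F).updateCol k a).submatrix id (Equiv.swap i k)
  have hdet : M.det ≠ 0 := by
    simp only [M]
    rw [Matrix.det_permute', ← Matrix.cramer_apply, Matrix.cramer_one]
    refine mul_ne_zero ?_ hk
    rcases Int.units_eq_one_or (Equiv.Perm.sign (Equiv.swap i k)) with e | e <;> simp [e]
  refine ⟨Matrix.GeneralLinearGroup.mkOfDetNeZero M hdet, funext fun j => ?_⟩
  show (M.mulVec (Pi.single i 1)) j = a j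
  rw [Matrix.mulVec_single_one]
  simp [M, Matrix.updateCol_apply]

/-- Two non-zero vectors differ by an invertible matrix. -/
theorem exists_gl_mulVec [DecidableEq F] {v w : Fin n → F} (hv : v ≠ 0) (hw : w ≠ 0) :
    ∃ A : GL (Fin n) F, (A : Matrix (Fin n) (Fin n) F).mulVec v = w := by
  obtain ⟨i, -⟩ := Function.ne_iff.1 hv
  obtain ⟨A, hA⟩ := exists_gl_col i hv
  obtain ⟨B, hB⟩ := exists_gl_col i hw
  refine ⟨B * A⁻¹, ?_⟩
  conv_lhs => rw [← hA]
  rw [Matrix.mulVec_mulVec, ← Units.val_mul, inv_mul_cancel_right, hB]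

theorem two_ne_zero_of_odd [Fintype F] (h : Odd (Fintype.card F)) : (2 : F) ≠ 0 := by
  intro h2
  have : ringChar F = 2 := by
    haveI := ringChar.charP F
    have h3 : ((2 : ℕ) : F) = 0 := by exact_mod_cast h2
    rcases (Nat.dvd_prime Nat.prime_two).1 ((ringChar.spec F 2).1 h3) with h4 | h4
    · exact absurd h4 (CharP.ringChar_ne_one)
    · exact h4
  exact (Nat.not_even_iff_odd.2 h) (FiniteField.even_card_of_char_two this |> Nat.even_iff.2)

variable [Fintype F] [DecidableEq F]

/-- A non-zero symmetric matrix is anisotropic somewhere. -/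
theorem exists_anisotropic (h2 : (2 : F) ≠ 0) {B : Matrix (Fin n) (Fin n) F} (hB : B.IsSymm)
    (h : B ≠ 0) : ∃ a : Fin n → F, a ⬝ᵥ B *ᵥ a ≠ 0 := by
  by_contra hall
  push Not at hall
  apply h
  have hd : ∀ i, B i i = 0 := fun i => by
    have := hall (Pi.single i 1)
    simpa [Matrix.mulVec_single, single_dotProduct] using this
  ext i j
  have := hall (Pi.single i 1 + Pi.single j 1)
  simp [Matrix.mulVec_add, Matrix.mulVec_single, single_dotProduct, add_dotProduct, hd,
    hB.apply i j] at this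
  have e : (2 : F) * B i j = 0 := by linear_combination this
  exact (mul_eq_zero.1 e).resolve_left h2

/-- The form takes every non-zero value, unless it has rank one. -/
theorem rank_one_or_surj (hodd : Odd (Fintype.card F)) {B : Matrix (Fin n) (Fin n) F}
    (hB : B.IsSymm) (h : B ≠ 0) :
    (∃ (c : F) (v : Fin n → F), c ≠ 0 ∧ v ≠ 0 ∧ B = c • vecMulVec v v) ∨
      ∀ c : F, c ≠ 0 → ∃ a : Fin n → F, a ⬝ᵥ B *ᵥ a = c := by
  have h2 := two_ne_zero_of_odd hodd
  obtain ⟨a, ha⟩ := exists_anisotropic h2 hB h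
  set c₀ := a ⬝ᵥ B *ᵥ a with hc₀
  have hsymm : ∀ x y : Fin n → F, x ⬝ᵥ B *ᵥ y = y ⬝ᵥ B *ᵥ x := fun x y => by
    rw [dotProduct_comm y (B *ᵥ x), Matrix.dotProduct_mulVec, ← Matrix.mulVec_transpose, hB.eq]
  let v := B *ᵥ a
  by_cases hcase : B = c₀⁻¹ • vecMulVec v v
  · left
    refine ⟨c₀⁻¹, v, inv_ne_zero ha, fun hv => ha ?_, hcase⟩
    show a ⬝ᵥ v = 0
    rw [hv, dotProduct_zero]
  · right
    obtain ⟨b, hb1, hb2⟩ : ∃ b, a ⬝ᵥ B *ᵥ b = 0 ∧ b ⬝ᵥ B *ᵥ b ≠ 0 := by
      let B₁ := B - c₀⁻¹ • vecMulVec v v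
      have hB1 : B₁.IsSymm := by
        unfold Matrix.IsSymm
        simp [B₁, hB.eq, Matrix.transpose_vecMulVec]
      obtain ⟨x, hx⟩ := exists_anisotropic h2 hB1 (sub_ne_zero.2 hcase)
      have hval : x ⬝ᵥ B₁ *ᵥ x = x ⬝ᵥ B *ᵥ x - c₀⁻¹ * (a ⬝ᵥ B *ᵥ x) ^ 2 := by
        simp only [B₁, Matrix.sub_mulVec, Matrix.smul_mulVec, Matrix.vecMulVec_mulVec,
          dotProduct_sub, dotProduct_smul]
        rw [show v ⬝ᵥ x = a ⬝ᵥ B *ᵥ x by rw [dotProduct_comm, hsymm a x],
          show x ⬝ᵥ v = a ⬝ᵥ B *ᵥ x from hsymm x a]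
        simp
        left; ring
      refine ⟨x - ((a ⬝ᵥ B *ᵥ x) * c₀⁻¹) • a, ?_, ?_⟩
      · rw [Matrix.mulVec_sub, Matrix.mulVec_smul, dotProduct_sub, dotProduct_smul, ← hc₀,
          smul_eq_mul, mul_assoc, inv_mul_cancel₀ ha, mul_one, sub_self]
      · convert hx using 1
        rw [hval]
        simp only [Matrix.mulVec_sub, Matrix.mulVec_smul, dotProduct_sub, dotProduct_smul,
          sub_dotProduct, smul_dotProduct, ← hc₀, smul_eq_mul, hsymm x a]
        field_simp
        ring
    intro c _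
    set d := b ⬝ᵥ B *ᵥ b with hd
    obtain ⟨x, y, hxy⟩ := FiniteField.exists_root_sum_quadratic
      (f := Polynomial.C c₀ * Polynomial.X ^ 2)
      (g := Polynomial.C d * Polynomial.X ^ 2 - Polynomial.C c)
      (by rw [Polynomial.degree_C_mul_X_pow 2 ha]; rfl)
      (by rw [Polynomial.degree_sub_eq_left_of_degree_lt] <;>
            rw [Polynomial.degree_C_mul_X_pow 2 hb2]
          · rfl
          · exact Polynomial.degree_C_le.trans_lt (by norm_num))
      (Nat.odd_iff.1 hodd)
    simp only [Polynomial.eval_mul, Polynomial.eval_C, Polynomial.eval_pow, Polynomial.eval_X,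
      Polynomial.eval_sub] at hxy
    refine ⟨x • a + y • b, ?_⟩
    simp only [Matrix.mulVec_add, Matrix.mulVec_smul, dotProduct_add, add_dotProduct,
      dotProduct_smul, smul_dotProduct, smul_eq_mul, hsymm b a, hb1, ← hc₀, ← hd]
    linear_combination hxy

/-- Each non-zero symmetric matrix has at least `(q ^ n - 1) / 2` congruent matrices. -/
theorem sym_orbit (hodd : Odd (Fintype.card F)) {B : Matrix (Fin n) (Fin n) F}
    (hB : B.IsSymm) (h : B ≠ 0) :
    ∃ O : Set (Matrix (Fin n) (Fin n) F), (Fintype.card F ^ n - 1) / 2 ≤ O.ncard ∧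
      ∀ B' ∈ O, ∃ A : GL (Fin n) F, B' = (A : Matrix (Fin n) (Fin n) F)ᵀ * B * (A : Matrix (Fin n) (Fin n) F) := by
  classical
  refine ⟨{B' | ∃ A : GL (Fin n) F, B' = (A : Matrix (Fin n) (Fin n) F)ᵀ * B * (A : Matrix (Fin n) (Fin n) F)},
    ?_, fun B' hB' => hB'⟩
  set O := {B' | ∃ A : GL (Fin n) F, B' = (A : Matrix (Fin n) (Fin n) F)ᵀ * B * (A : Matrix (Fin n) (Fin n) F)}
    with hO
  rcases rank_one_or_surj hodd hB h with ⟨c, v, hc, hv, rfl⟩ | hsurj
  · let W := Finset.univ.filter fun w : Fin n → F => w ≠ 0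
    have hW : W.card = Fintype.card F ^ n - 1 := by
      simp only [W, Finset.filter_ne', Finset.card_erase_of_mem (Finset.mem_univ _), Finset.card_univ]
      simp
    have hle := Finset.card_le_mul_card_image (f := fun w : Fin n → F => c • vecMulVec w w) W 2
      fun M hM => by
        obtain ⟨w₀, hw₀, rfl⟩ := Finset.mem_image.1 hM
        refine (Finset.card_le_card (t := {w₀, -w₀}) fun w hw => ?_).trans Finset.card_le_two
        simp only [Finset.mem_filter] at hw
        have hM := smul_right_injective _ hc hw.2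
        have hij : ∀ i j, w i * w j = w₀ i * w₀ j := fun i j => by
          simpa [vecMulVec_apply] using congrFun (congrFun hM i) j
        obtain ⟨i, hi⟩ := Function.ne_iff.1 (Finset.mem_filter.1 hw₀).2
        have hi' : w₀ i ≠ 0 := hi
        rcases mul_self_eq_mul_self_iff.1 (hij i i) with h1 | h1
        · simp only [Finset.mem_insert, Finset.mem_singleton]
          refine Or.inl (funext fun j => mul_left_cancel₀ hi' ?_)
          rw [← hij, h1]
        · simp only [Finset.mem_insert, Finset.mem_singleton]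
          refine Or.inr (funext fun j => mul_left_cancel₀ hi' ?_)
          have := hij i j
          rw [h1] at this
          rw [Pi.neg_apply]
          linear_combination -this
    have hsub : (↑(W.image fun w : Fin n → F => c • vecMulVec w w) : Set _) ⊆ O := by
      intro M hM
      obtain ⟨w, hw, rfl⟩ := Finset.mem_image.1 hM
      obtain ⟨M, hMv⟩ := exists_gl_mulVec hv (Finset.mem_filter.1 hw).2
      refine ⟨⟨(M : Matrix (Fin n) (Fin n) F)ᵀ, ((M⁻¹ : GL (Fin n) F) : Matrix (Fin n) (Fin n) F)ᵀ,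
        by rw [← transpose_mul, ← Units.val_mul, inv_mul_cancel, Units.val_one, transpose_one],
        by rw [← transpose_mul, ← Units.val_mul, mul_inv_cancel, Units.val_one, transpose_one]⟩, ?_⟩
      show c • vecMulVec w w = _
      rw [Matrix.mul_smul, Matrix.smul_mul, Matrix.transpose_transpose,
        Matrix.mul_vecMulVec, Matrix.vecMulVec_mul, Matrix.vecMul_transpose, hMv]
    have h3 := Set.ncard_le_ncard hsub (Set.toFinite _)
    rw [Set.ncard_coe_finset] at h3
    omega
  · rcases Nat.eq_zero_or_pos n with rfl | hn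
    · simp
    have : NeZero n := ⟨hn.ne'⟩
    let W := Finset.univ.filter fun w : Fin n → F => w 0 ≠ 0
    have hW : W.card = (Fintype.card F - 1) * Fintype.card F ^ (n - 1) := by
      have e : W = Fintype.piFinset (fun i : Fin n => if i = 0 then Finset.univ.erase (0 : F) else Finset.univ) := by
        ext w
        simp only [W, Finset.mem_filter, Finset.mem_univ, true_and, Fintype.mem_piFinset]
        constructor
        · intro hw i
          split_ifs with hi
          · subst hi; simp [hw]
          · simp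
        · intro hw
          simpa using hw 0
      rw [e, Fintype.card_piFinset, ← Finset.mul_prod_erase _ _ (Finset.mem_univ (0 : Fin n)),
        if_pos rfl, Finset.prod_congr rfl (fun i hi => by rw [if_neg (Finset.ne_of_mem_erase hi)])]
      simp
    have hsec : ∀ w ∈ W, ∃ M ∈ O, M *ᵥ Pi.single 0 1 = w := by
      intro w hw
      have hw0 := (Finset.mem_filter.1 hw).2
      obtain ⟨a, ha⟩ := hsurj (w 0) hw0
      have ha0 : a ≠ 0 := fun h0 => hw0 (by rw [← ha, h0]; simp)
      obtain ⟨A, hA⟩ := exists_gl_col (F := F) 0 ha0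
      set B' := (A : Matrix (Fin n) (Fin n) F)ᵀ * B * (A : Matrix (Fin n) (Fin n) F) with hB'
      let u := B' *ᵥ Pi.single 0 1
      have hu0 : u 0 = w 0 := by
        have : u 0 = Pi.single 0 1 ⬝ᵥ u := by simp [single_dotProduct]
        rw [this]
        simp only [u, hB', ← Matrix.mulVec_mulVec, hA]
        rw [Matrix.dotProduct_mulVec, Matrix.vecMul_transpose, hA, ha]
      let t : Fin n → F := (w 0)⁻¹ • (w - u)
      have ht0 : t 0 = 0 := by simp [t, hu0]
      let T : Matrix (Fin n) (Fin n) F := 1 + vecMulVec (Pi.single 0 1) t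
      have hT : T.det ≠ 0 := by
        simp only [T]
        rw [Matrix.vecMulVec_eq Unit, Matrix.det_one_add_replicateCol_mul_replicateRow]
        simp [dotProduct_single, ht0]
      refine ⟨Tᵀ * B' * T, ⟨A * Matrix.GeneralLinearGroup.mkOfDetNeZero T hT, ?_⟩, ?_⟩
      · show Tᵀ * B' * T = ((A : Matrix (Fin n) (Fin n) F) * T)ᵀ * B * ((A : Matrix (Fin n) (Fin n) F) * T)
        simp only [hB', Matrix.transpose_mul, Matrix.mul_assoc]
      · rw [← Matrix.mulVec_mulVec, ← Matrix.mulVec_mulVec]
        have hTe : T *ᵥ Pi.single 0 1 = Pi.single 0 1 := by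
          simp only [T]
          rw [Matrix.add_mulVec, Matrix.one_mulVec, Matrix.vecMulVec_mulVec]
          simp [dotProduct_single, ht0]
        rw [hTe]
        show Tᵀ *ᵥ u = w
        simp only [T, Matrix.transpose_add, Matrix.transpose_one, Matrix.transpose_vecMulVec,
          Matrix.add_mulVec, Matrix.one_mulVec, Matrix.vecMulVec_mulVec, single_dotProduct, hu0]
        funext j
        simp [t]
        field_simp
        ring
    choose! s hs1 hs2 using hsec
    have h3 : W.card ≤ O.ncard := by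
      rw [← Set.ncard_coe_finset]
      refine Set.ncard_le_ncard_of_injOn s (fun w hw => hs1 w hw) (fun w hw w' hw' e => ?_) (Set.toFinite _)
      rw [← hs2 w hw, ← hs2 w' hw', e]
    have h4 : 2 ≤ Fintype.card F := Fintype.one_lt_card
    have h5 : Fintype.card F ^ n = Fintype.card F ^ (n - 1) * Fintype.card F := by
      rw [← pow_succ, Nat.sub_add_cancel hn]
    have h6 : Fintype.card F ^ n ≤ 2 * ((Fintype.card F - 1) * Fintype.card F ^ (n - 1)) := by
      rw [h5, mul_comm (Fintype.card F ^ (n - 1)), ← mul_assoc]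
      exact Nat.mul_le_mul_right _ (by omega)
    omega

end CfsgLib.MinDeg
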