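import Cfsg.Agent.Lib.Classical.HermField
import Cfsg.Agent.Lib.KnownB.MinDeg.SymOrbit

/-!
# Congruence orbits of Hermitian matrices over a finite field with `q ^ 2` elements

A non-zero Hermitian matrix has at least `(q ^ (2 m) - 1) / (q + 1)` images `A* B A` with `det A` fixed
by the conjugation.
-/

set_option autoImplicit false

open Matrix CfsgLib.Classical

namespace CfsgLib.MinDeg

variable {F : Type*} [Field F] {σ : F →+* F}

/-- The conjugate transpose. -/
def cT {a b : Type*} (σ : F →+* F) (M : Matrix a b F) : Matrix b a F := (M.map σ)ᵀ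

theorem cT_mul {a b c : Type*} [Fintype b] (M : Matrix a b F) (N : Matrix b c F) :
    cT σ (M * N) = cT σ N * cT σ M := by
  simp [cT, Matrix.map_mul, transpose_mul]

theorem cT_apply {a b : Type*} (M : Matrix a b F) (i : b) (j : a) : cT σ M i j = σ (M j i) := rfl

theorem cT_add {a b : Type*} (M N : Matrix a b F) : cT σ (M + N) = cT σ M + cT σ N :=
  Matrix.ext fun i j => map_add σ _ _

theorem cT_one {a : Type*} [DecidableEq a] : cT σ (1 : Matrix a a F) = 1 := by
  ext i j
  by_cases h : i = j
  · subst h; simp [cT_apply]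
  · simp [cT_apply, Matrix.one_apply_ne h, Matrix.one_apply_ne (Ne.symm h)]

theorem cT_zero {a b : Type*} : cT σ (0 : Matrix a b F) = 0 :=
  Matrix.ext fun _ _ => map_zero σ

theorem cT_cT (hc : IsConjugation σ) {a b : Type*} (M : Matrix a b F) : cT σ (cT σ M) = M :=
  Matrix.ext fun i j => hc.invol _

theorem det_cT {a : Type*} [Fintype a] [DecidableEq a] (M : Matrix a a F) :
    (cT σ M).det = σ M.det := by
  rw [cT, det_transpose, RingHom.map_det, RingHom.mapMatrix_apply]

theorem cT_mulVec {a b : Type*} [Fintype b] (M : Matrix a b F) (v : b → F) (i : a) :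
    σ ((M *ᵥ v) i) = ((M.map σ) *ᵥ (σ ∘ v)) i := RingHom.map_mulVec σ M v i

variable {m : ℕ}

/-- An invertible matrix with prescribed column and determinant one. -/
theorem exists_det_one_col [DecidableEq F] (hm : 2 ≤ m) (i : Fin m) {a : Fin m → F} (ha : a ≠ 0) :
    ∃ A : GL (Fin m) F, (A : Matrix (Fin m) (Fin m) F).det = 1 ∧
      (A : Matrix (Fin m) (Fin m) F).mulVec (Pi.single i 1) = a := by
  obtain ⟨A, hA⟩ := exists_gl_col i ha
  have : Nontrivial (Fin m) := Fin.nontrivial_iff_two_le.2 hm
  obtain ⟨j, hji⟩ := exists_ne i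
  have hdA : (A : Matrix (Fin m) (Fin m) F).det ≠ 0 := A.det_ne_zero
  let D : Matrix (Fin m) (Fin m) F :=
    Matrix.diagonal (Function.update 1 j (A : Matrix (Fin m) (Fin m) F).det⁻¹)
  have hD : D.det = (A : Matrix (Fin m) (Fin m) F).det⁻¹ := by
    simp [D, Matrix.det_diagonal, Finset.prod_update_of_mem]
  refine ⟨A * Matrix.GeneralLinearGroup.mkOfDetNeZero D (by rw [hD]; exact inv_ne_zero hdA), ?_, ?_⟩
  · show ((A : Matrix (Fin m) (Fin m) F) * D).det = 1
    rw [det_mul, hD, mul_inv_cancel₀ hdA]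
  · show ((A : Matrix (Fin m) (Fin m) F) * D) *ᵥ _ = a
    rw [← Matrix.mulVec_mulVec, show D *ᵥ Pi.single i 1 = Pi.single i 1 by
      funext k
      simp only [D, Matrix.mulVec_diagonal, Pi.single_apply]
      split_ifs with hk
      · subst hk; simp [Function.update_of_ne hji.symm]
      · simp]
    exact hA

theorem exists_det_one_mulVec [DecidableEq F] (hm : 2 ≤ m) {v w : Fin m → F} (hv : v ≠ 0)
    (hw : w ≠ 0) : ∃ A : GL (Fin m) F, (A : Matrix (Fin m) (Fin m) F).det = 1 ∧
      (A : Matrix (Fin m) (Fin m) F).mulVec v = w := by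
  obtain ⟨i, -⟩ := Function.ne_iff.1 hv
  obtain ⟨A, hA1, hA⟩ := exists_det_one_col hm i hv
  obtain ⟨B, hB1, hB⟩ := exists_det_one_col hm i hw
  refine ⟨B * A⁻¹, ?_, ?_⟩
  · have h : ((A⁻¹ : GL (Fin m) F) : Matrix (Fin m) (Fin m) F).det * (A : Matrix (Fin m) (Fin m) F).det = 1 := by
      rw [← det_mul, ← Units.val_mul, inv_mul_cancel, Units.val_one, det_one]
    rw [hA1, mul_one] at h
    rw [Units.val_mul, det_mul, h, hB1, mul_one]
  · conv_lhs => rw [← hA]
    rw [Matrix.mulVec_mulVec, ← Units.val_mul, inv_mul_cancel_right, hB]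

/-- The transvection clearing or setting a first column. -/
theorem shear_col [NeZero m] {M : Matrix (Fin m) (Fin m) F} (hc : IsConjugation σ) {c : F} (hc0 : c ≠ 0)
    (u : Fin m → F) (hu : M *ᵥ Pi.single 0 1 = u) (hu0 : u 0 = c) {w : Fin m → F} (hw0 : w 0 = c) :
    ∃ T : Matrix (Fin m) (Fin m) F, T.det = 1 ∧ T *ᵥ Pi.single 0 1 = Pi.single 0 1 ∧
      (cT σ T * M * T) *ᵥ Pi.single 0 1 = w := by
  classical
  let t : Fin m → F := fun j => σ ((w j - u j) / c)
  have ht0 : t 0 = 0 := by simp [t, hu0, hw0]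
  refine ⟨1 + vecMulVec (Pi.single 0 1) t, ?_, ?_, ?_⟩
  · rw [Matrix.vecMulVec_eq Unit, Matrix.det_one_add_replicateCol_mul_replicateRow]
    simp [dotProduct_single, ht0]
  · rw [Matrix.add_mulVec, Matrix.one_mulVec, Matrix.vecMulVec_mulVec]
    simp [dotProduct_single, ht0]
  · rw [← Matrix.mulVec_mulVec, show (1 + vecMulVec (Pi.single (0 : Fin m) (1 : F)) t) *ᵥ Pi.single (0 : Fin m) (1 : F) = Pi.single (0 : Fin m) (1 : F) by
      rw [Matrix.add_mulVec, Matrix.one_mulVec, Matrix.vecMulVec_mulVec]
      simp [dotProduct_single, ht0]]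
    rw [← Matrix.mulVec_mulVec, hu, cT_add, cT_one, Matrix.add_mulVec, Matrix.one_mulVec]
    funext j
    have e : (cT σ (vecMulVec (Pi.single (0 : Fin m) (1 : F)) t) *ᵥ u) j = σ (t j) * c := by
      simp only [Matrix.mulVec, dotProduct, cT_apply, vecMulVec_apply]
      rw [Finset.sum_eq_single 0 (fun b _ hb => by simp [Pi.single_eq_of_ne hb]) (by simp)]
      simp [hu0]
    rw [Pi.add_apply, e]
    simp only [t, hc.invol]
    rw [div_mul_cancel₀ _ hc0]
    ring

/-- A Hermitian matrix in block form is moved by an element fixing the first basis vector. -/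
theorem exists_moving [NeZero m] [Finite F] (hc : IsConjugation σ) (hm : 2 ≤ m)
    (h4 : m = 2 → ∃ t : F, σ t = t ∧ t ≠ 0 ∧ t * t ≠ 1)
    {M : Matrix (Fin m) (Fin m) F} (hM : cT σ M = M) {c : F}
    (hcol : M *ᵥ Pi.single 0 1 = Pi.single 0 c)
    (hne : M ≠ Matrix.single 0 0 c) :
    ∃ S : Matrix (Fin m) (Fin m) F, σ S.det = S.det ∧ S.det ≠ 0 ∧
      S *ᵥ Pi.single 0 1 = Pi.single 0 1 ∧ cT σ S *ᵥ Pi.single 0 1 = Pi.single 0 1 ∧
      cT σ S * M * S ≠ M := by
  classical
  have hMi0 : ∀ i, i ≠ 0 → M i 0 = 0 := fun i hi => by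
    have := congrFun hcol i
    simpa [Matrix.mulVec_single_one, Pi.single_eq_of_ne hi] using this
  have hM0i : ∀ i, i ≠ 0 → M 0 i = 0 := fun i hi => by
    rw [← hM, cT_apply, hMi0 i hi, map_zero]
  have h00 : M 0 0 = c := by simpa [Matrix.mulVec_single_one] using congrFun hcol 0
  have hexists : ∃ i j, i ≠ 0 ∧ j ≠ 0 ∧ M i j ≠ 0 := by
    by_contra hall
    push Not at hall
    refine hne (Matrix.ext fun i j => ?_)
    by_cases hi : i = 0 <;> by_cases hj : j = 0
    · subst hi hj; simp [h00]
    · subst hi; rw [hM0i j hj]; simp [Matrix.single_apply, Ne.symm hj]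
    · subst hj; rw [hMi0 i hi]; simp [Matrix.single_apply, Ne.symm hi]
    · rw [hall i j hi hj]; simp [Matrix.single_apply, Ne.symm hi]
  have htrans : ∀ (i j : Fin m) (x : F), i ≠ j → i ≠ 0 → j ≠ 0 →
      (1 + Matrix.single i j x).det = 1 ∧ (1 + Matrix.single i j x) *ᵥ Pi.single 0 1 = Pi.single 0 1 ∧
      cT σ (1 + Matrix.single i j x) *ᵥ Pi.single 0 1 = Pi.single 0 1 ∧
      (cT σ (1 + Matrix.single i j x) * M * (1 + Matrix.single i j x) : Matrix (Fin m) (Fin m) F) i j = M i j + M i i * x ∧
      (cT σ (1 + Matrix.single i j x) * M * (1 + Matrix.single i j x) : Matrix (Fin m) (Fin m) F) j j =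
        M j j + σ x * M i j + M j i * x + σ x * M i i * x := by
    intro i j x hij hi hj
    have hs : cT σ (Matrix.single i j x) = Matrix.single j i (σ x) := by
      ext a b
      by_cases h : i = b ∧ j = a
      · obtain ⟨rfl, rfl⟩ := h; simp [cT_apply]
      · have h' : ¬(j = a ∧ i = b) := fun e => h ⟨e.2, e.1⟩
        simp [cT_apply, Matrix.single_apply, h, h']
    refine ⟨?_, ?_, ?_, ?_, ?_⟩
    · have h := Matrix.det_transvection_of_ne i j hij x
      simpa [Matrix.transvection] using h
    · rw [Matrix.add_mulVec, Matrix.one_mulVec]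
      simp only [Matrix.mulVec_single_one]
      funext a
      simp [Matrix.single_apply, hj]
    · rw [cT_add, cT_one, hs, Matrix.add_mulVec, Matrix.one_mulVec]
      simp only [Matrix.mulVec_single_one]
      funext a
      simp [Matrix.single_apply, hi]
    · rw [cT_add, cT_one, hs]
      simp [Matrix.add_mul, Matrix.mul_add, Matrix.single_apply, Matrix.mul_apply, Matrix.one_apply, hij, hij.symm, ite_mul, mul_ite, Finset.sum_add_distrib]
      simp only [mul_add, mul_ite, mul_one, mul_zero, Finset.sum_add_distrib, Finset.sum_ite_eq,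
        Finset.sum_ite_eq', Finset.mem_univ, if_true]
    · rw [cT_add, cT_one, hs]
      simp [Matrix.add_mul, Matrix.mul_add, Matrix.single_apply, Matrix.mul_apply, Matrix.one_apply, hij, hij.symm, ite_mul, mul_ite,
        Finset.sum_add_distrib]
      simp only [mul_add, add_mul, mul_ite, ite_mul, zero_mul, mul_one, mul_zero, Finset.sum_add_distrib, Finset.sum_ite_eq,
        Finset.sum_ite_eq', Finset.mem_univ, if_true]
      ring
  by_cases hdiag : ∃ i, i ≠ 0 ∧ M i i ≠ 0
  · obtain ⟨i, hi, hii⟩ := hdiag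
    by_cases h2 : m = 2
    · obtain ⟨t, htσ, ht0, ht1⟩ := h4 h2
      refine ⟨Matrix.diagonal (Function.update 1 i t), ?_, ?_, ?_, ?_, ?_⟩
      · simp [Matrix.det_diagonal, Finset.prod_update_of_mem, htσ]
      · simp [Matrix.det_diagonal, Finset.prod_update_of_mem, ht0]
      · funext k
        rw [Matrix.mulVec_diagonal]
        by_cases hk : k = 0
        · subst hk; simp [Function.update_of_ne (Ne.symm hi)]
        · simp [Pi.single_eq_of_ne hk]
      · funext k
        simp only [Matrix.mulVec_single_one, Matrix.col_apply, cT_apply]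
        by_cases hk : k = 0
        · subst hk; simp [Function.update_of_ne (Ne.symm hi)]
        · simp [Pi.single_eq_of_ne hk, Ne.symm hk]
      · intro e
        have e' := congrFun (congrFun e i) i
        rw [Matrix.mul_diagonal, cT, Matrix.diagonal_map (map_zero σ), Matrix.diagonal_transpose,
          Matrix.diagonal_mul] at e'
        simp [htσ] at e'
        exact ht1 (mul_right_cancel₀ hii (by linear_combination e'))
    · obtain ⟨j, hj0, hji⟩ : ∃ j : Fin m, j ≠ 0 ∧ j ≠ i := by
        by_contra hall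
        push Not at hall
        have : (Finset.univ : Finset (Fin m)) ⊆ {0, i} := fun k _ => by
          by_cases hk : k = 0
          · simp [hk]
          · simp [hall k hk]
        have := (Finset.card_le_card this).trans Finset.card_le_two
        simp at this
        omega
      obtain ⟨hd, h1, h2', hij, -⟩ := htrans i j 1 hji.symm hi hj0
      refine ⟨_, by rw [hd, map_one], by rw [hd]; exact one_ne_zero, h1, h2', fun e => hii ?_⟩
      rw [e] at hij
      linear_combination -hij
  · push Not at hdiag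
    obtain ⟨j, i, hj, hi, hji⟩ := hexists
    have hne' : i ≠ j := fun e => hji (e ▸ hdiag j hj)
    obtain ⟨y, hy⟩ := hc.exists_trace_ne_zero
    obtain ⟨hd, h1, h2', -, hjj⟩ := htrans i j (y / M j i) hne' hi hj
    refine ⟨_, by rw [hd, map_one], by rw [hd]; exact one_ne_zero, h1, h2', fun e => hy ?_⟩
    rw [e, hdiag i hi] at hjj
    have hij : M i j = σ (M j i) := by rw [← cT_apply (σ := σ) M i j, hM]
    rw [hij, ← map_mul, div_mul_cancel₀ _ hji, mul_div_cancel₀ _ hji] at hjj
    linear_combination -hjj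

variable [Fintype F] [DecidableEq F] {q : ℕ}

/-- The orbit bound for Hermitian matrices. -/
theorem herm_orbit (hF : Fintype.card F = q ^ 2) (hσ : ∀ x, σ x = x ^ q) (hc : IsConjugation σ)
    (hm : 2 ≤ m) (hq : m = 2 → 4 ≤ q) {B : Matrix (Fin m) (Fin m) F} (hB : cT σ B = B) (h0 : B ≠ 0) :
    ∃ O : Set (Matrix (Fin m) (Fin m) F), (q ^ (2 * m) - 1) / (q + 1) ≤ O.ncard ∧
      ∀ B' ∈ O, ∃ A : GL (Fin m) F, σ (A : Matrix (Fin m) (Fin m) F).det = (A : Matrix (Fin m) (Fin m) F).det ∧
        B' = cT σ (A : Matrix (Fin m) (Fin m) F) * B * (A : Matrix (Fin m) (Fin m) F) := by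
  classical
  have : NeZero m := ⟨by omega⟩
  have hq2 := two_le_of_card_sq hF
  refine ⟨{B' | ∃ A : GL (Fin m) F, σ (A : Matrix (Fin m) (Fin m) F).det = (A : Matrix (Fin m) (Fin m) F).det ∧
    B' = cT σ (A : Matrix (Fin m) (Fin m) F) * B * (A : Matrix (Fin m) (Fin m) F)}, ?_, fun B' hB' => hB'⟩
  set O := {B' | ∃ A : GL (Fin m) F, σ (A : Matrix (Fin m) (Fin m) F).det = (A : Matrix (Fin m) (Fin m) F).det ∧
    B' = cT σ (A : Matrix (Fin m) (Fin m) F) * B * (A : Matrix (Fin m) (Fin m) F)} with hO
  have hcardV : Fintype.card (Fin m → F) = q ^ (2 * m) := by simp [hF, ← pow_mul]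
  by_cases hrank : ∃ (c : F) (v : Fin m → F), c ≠ 0 ∧ v ≠ 0 ∧ B = c • vecMulVec v (σ ∘ v)
  · obtain ⟨c, v, hc0, hv, rfl⟩ := hrank
    let W := Finset.univ.filter fun w : Fin m → F => w ≠ 0
    have hW : W.card = q ^ (2 * m) - 1 := by
      simp only [W, Finset.filter_ne', Finset.card_erase_of_mem (Finset.mem_univ _), Finset.card_univ,
        hcardV]
    have hker := (frob_cards hF hσ hc).2
    have hle := Finset.card_le_mul_card_image
      (f := fun w : Fin m → F => c • vecMulVec w (σ ∘ w)) W (q + 1) fun M hM => by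
        obtain ⟨w₀, hw₀, rfl⟩ := Finset.mem_image.1 hM
        obtain ⟨i, hi⟩ := Function.ne_iff.1 (Finset.mem_filter.1 hw₀).2
        have hi' : w₀ i ≠ 0 := hi
        have hσi : σ (w₀ i) ≠ 0 := (map_ne_zero σ).2 hi'
        refine le_trans ?_ (hker.le)
        rw [Nat.card_eq_fintype_card]
        have key : ∀ w : Fin m → F, c • vecMulVec w (σ ∘ w) = c • vecMulVec w₀ (σ ∘ w₀) →
            ∃ z : (normHom σ).ker, w = ((z : Fˣ) : F) • w₀ := by
          intro w hw
          have hij : ∀ a b, w a * σ (w b) = w₀ a * σ (w₀ b) := fun a b => by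
            simpa [vecMulVec_apply] using congrFun (congrFun (smul_right_injective _ hc0 hw) a) b
          have hwi : w i ≠ 0 := fun e => by
            have := hij i i
            rw [e, zero_mul] at this
            exact mul_ne_zero hi' hσi this.symm
          have hσw : σ (w i) ≠ 0 := (map_ne_zero σ).2 hwi
          refine ⟨⟨Units.mk0 (w i / w₀ i) (div_ne_zero hwi hi'), MonoidHom.mem_ker.2 (Units.ext ?_)⟩, ?_⟩
          · rw [CfsgLib.Classical.normHom_apply]
            simp only [Units.val_mk0, Units.val_one, map_div₀]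
            rw [div_mul_div_comm, hij, div_self (mul_ne_zero hi' hσi)]
          · funext a
            simp only [Units.val_mk0, Pi.smul_apply, smul_eq_mul]
            refine mul_right_cancel₀ hσw ?_
            rw [hij a i]
            field_simp
            linear_combination (w₀ a) * (hij i i).symm
        refine (Finset.card_le_card (t := Finset.univ.image fun z : (normHom σ).ker => ((z : Fˣ) : F) • w₀)
          fun w hw => ?_).trans Finset.card_image_le
        obtain ⟨z, hz⟩ := key w (Finset.mem_filter.1 hw).2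
        exact Finset.mem_image.2 ⟨z, Finset.mem_univ _, hz.symm⟩
    have hsub : (↑(W.image fun w : Fin m → F => c • vecMulVec w (σ ∘ w)) : Set _) ⊆ O := by
      intro M hM
      obtain ⟨w, hw, rfl⟩ := Finset.mem_image.1 hM
      obtain ⟨M, hM1, hMv⟩ := exists_det_one_mulVec hm hv (Finset.mem_filter.1 hw).2
      let A : GL (Fin m) F := ⟨cT σ (M : Matrix (Fin m) (Fin m) F), cT σ ((M⁻¹ : GL (Fin m) F) : Matrix (Fin m) (Fin m) F),
        by rw [← cT_mul, ← Units.val_mul, inv_mul_cancel, Units.val_one, cT_one],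
        by rw [← cT_mul, ← Units.val_mul, mul_inv_cancel, Units.val_one, cT_one]⟩
      refine ⟨A, ?_, ?_⟩
      · show σ (cT σ (M : Matrix (Fin m) (Fin m) F)).det = (cT σ (M : Matrix (Fin m) (Fin m) F)).det
        rw [det_cT, hM1, map_one, map_one]
      · show c • vecMulVec w (σ ∘ w) = _
        rw [Matrix.mul_smul, Matrix.smul_mul, Matrix.mul_vecMulVec, Matrix.vecMulVec_mul]
        congr 2
        · show w = cT σ (cT σ (M : Matrix (Fin m) (Fin m) F)) *ᵥ v
          rw [cT_cT hc, hMv]
        · funext j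
          show σ (w j) = ((σ ∘ v) ᵥ* (cT σ (M : Matrix (Fin m) (Fin m) F))) j
          rw [← hMv, cT_mulVec, cT, Matrix.vecMul_transpose]
    have h3 := Set.ncard_le_ncard hsub (Set.toFinite _)
    rw [Set.ncard_coe_finset] at h3
    rw [Nat.div_le_iff_le_mul_add_pred (by omega)]
    calc q ^ (2 * m) - 1 = W.card := hW.symm
      _ ≤ (q + 1) * O.ncard := hle.trans (Nat.mul_le_mul_left _ h3)
      _ ≤ _ := Nat.le_add_right _ _
  · push Not at hrank
    -- the form has a value which is not zero
    have hval : ∀ c : F, σ c = c → c ≠ 0 → ∃ a : Fin m → F, (σ ∘ a) ⬝ᵥ B *ᵥ a = c := by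
      obtain ⟨a₀, ha₀⟩ : ∃ a : Fin m → F, (σ ∘ a) ⬝ᵥ B *ᵥ a ≠ 0 := by
        by_contra hall
        push Not at hall
        apply h0
        have hd : ∀ i, B i i = 0 := fun i => by
          have := hall (Pi.single i 1)
          have e : σ ∘ (Pi.single i (1 : F) : Fin m → F) = Pi.single i 1 := by
            funext k; by_cases hk : k = i <;> simp [Pi.single_apply, hk]
          simpa [e, Matrix.mulVec_single, single_dotProduct] using this
        ext i j
        by_contra hij
        obtain ⟨y, hy⟩ := hc.exists_trace_ne_zero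
        apply hy
        have := hall (Pi.single i 1 + Pi.single j (y / B i j))
        have e : σ ∘ (Pi.single i (1 : F) + Pi.single j (y / B i j) : Fin m → F) =
            Pi.single i 1 + Pi.single j (σ (y / B i j)) := by
          funext k
          simp only [Function.comp_apply, Pi.add_apply, map_add, Pi.single_apply]
          split_ifs <;> simp
        simp only [e, Matrix.mulVec_add, dotProduct_add, add_dotProduct, Matrix.mulVec_single,
          single_dotProduct] at this
        have hBji : B j i = σ (B i j) := by rw [← cT_apply (σ := σ) B j i, hB]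
        simp [hd, hBji] at this
        rw [div_mul_cancel₀ _ ((map_ne_zero σ).2 hij), mul_comm (B i j), mul_assoc, inv_mul_cancel₀ hij, mul_one] at this
        linear_combination this
      have hfix : σ ((σ ∘ a₀) ⬝ᵥ B *ᵥ a₀) = (σ ∘ a₀) ⬝ᵥ B *ᵥ a₀ := by
        simp only [dotProduct, Matrix.mulVec, Function.comp_apply, map_sum, map_mul, hc.invol,
          Finset.mul_sum]
        rw [Finset.sum_comm]
        refine Finset.sum_congr rfl fun i _ => Finset.sum_congr rfl fun j _ => ?_
        rw [← cT_apply (σ := σ) B i j, hB]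
        ring
      intro c hcσ _
      obtain ⟨l, hl⟩ := hc.exists_norm_eq (a := c / ((σ ∘ a₀) ⬝ᵥ B *ᵥ a₀))
        (by rw [map_div₀, hcσ, hfix])
      refine ⟨l • a₀, ?_⟩
      have e : σ ∘ (l • a₀) = σ l • (σ ∘ a₀) := funext fun k => map_mul σ _ _
      rw [e, Matrix.mulVec_smul, dotProduct_smul, smul_dotProduct, smul_eq_mul, smul_eq_mul, ← mul_assoc,
        hl, div_mul_cancel₀ _ ha₀]
    let W := Finset.univ.filter fun w : Fin m → F => σ (w 0) = w 0 ∧ w 0 ≠ 0
    have hW : (q - 1) * (q ^ 2) ^ (m - 1) ≤ W.card := by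
      have e : W = Fintype.piFinset (fun i : Fin m =>
          if i = 0 then Finset.univ.filter (fun x : F => σ x = x ∧ x ≠ 0) else Finset.univ) := by
        ext w
        simp only [W, Finset.mem_filter, Finset.mem_univ, true_and, Fintype.mem_piFinset]
        constructor
        · intro hw i
          split_ifs with hi
          · subst hi; simp [hw]
          · simp
        · intro hw
          simpa using hw 0
      rw [e, Fintype.card_piFinset, ← Finset.mul_prod_erase _ _ (Finset.mem_univ (0 : Fin m)),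
        if_pos rfl, Finset.prod_congr rfl (fun i hi => by rw [if_neg (Finset.ne_of_mem_erase hi)])]
      simp only [Finset.prod_const, Finset.card_univ, Finset.card_erase_of_mem (Finset.mem_univ _),
        Fintype.card_fin, hF]
      refine Nat.mul_le_mul_right _ ?_
      rw [← (frob_cards hF hσ hc).1, Nat.card_eq_fintype_card]
      refine Finset.card_le_card_of_injOn (fun u : fixedUnits σ => ((u : Fˣ) : F)) (fun u _ => ?_) ?_
      · simp only [Finset.coe_filter, Set.mem_setOf_eq, Finset.mem_univ, true_and]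
        exact ⟨u.2, Units.ne_zero _⟩
      · intro u _ u' _ h; exact Subtype.ext (Units.ext h)
    have hsec : ∀ w ∈ W, ∃ M ∈ O, M *ᵥ Pi.single 0 1 = w := fun w hw => by
      obtain ⟨hwσ, hw0⟩ := (Finset.mem_filter.1 hw).2
      obtain ⟨a, ha⟩ := hval _ hwσ hw0
      have ha0 : a ≠ 0 := fun h => hw0 (by rw [← ha, h]; simp)
      obtain ⟨A, hA1, hA⟩ := exists_det_one_col (F := F) hm 0 ha0
      obtain ⟨T, hT1, -, hTw⟩ := shear_col hc hw0
        (M := cT σ (A : Matrix (Fin m) (Fin m) F) * B * (A : Matrix (Fin m) (Fin m) F)) _ rfl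
        (by
          rw [← Matrix.mulVec_mulVec, hA, ← Matrix.mulVec_mulVec, ← ha]
          have hak : ∀ k, a k = (A : Matrix (Fin m) (Fin m) F) k 0 := fun k => by
            rw [← hA, Matrix.mulVec_single_one]
            rfl
          simp only [Matrix.mulVec, dotProduct, cT_apply, Function.comp_apply, hak]) (w := w) rfl
      exact ⟨_, ⟨A * Matrix.GeneralLinearGroup.mkOfDetNeZero T (by rw [hT1]; exact one_ne_zero),
        by show σ ((A : Matrix (Fin m) (Fin m) F) * T).det = ((A : Matrix (Fin m) (Fin m) F) * T).det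
           rw [det_mul, hA1, hT1, mul_one, map_one],
        by show _ = cT σ ((A : Matrix (Fin m) (Fin m) F) * T) * B * ((A : Matrix (Fin m) (Fin m) F) * T)
           simp only [cT_mul, Matrix.mul_assoc]⟩, hTw⟩
    -- two different elements in each fibre
    have hpair : ∀ w ∈ W, ∃ M₁ ∈ O, ∃ M₂ ∈ O, M₁ ≠ M₂ ∧ M₁ *ᵥ Pi.single 0 1 = w ∧ M₂ *ᵥ Pi.single 0 1 = w := by
      intro w hw
      obtain ⟨hwσ, hw0⟩ := (Finset.mem_filter.1 hw).2
      obtain ⟨M₁, ⟨A, hA, rfl⟩, hcol⟩ := hsec w hw
      set M₁ := cT σ (A : Matrix (Fin m) (Fin m) F) * B * (A : Matrix (Fin m) (Fin m) F) with hM₁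
      obtain ⟨T, hT1, hTe, hT⟩ := shear_col hc hw0 w hcol rfl (w := Pi.single 0 (w 0)) (by simp)
      set N := cT σ T * M₁ * T with hN
      have hNherm : cT σ N = N := by
        simp only [hN, hM₁, cT_mul, cT_cT hc, hB, Matrix.mul_assoc]
      let P : GL (Fin m) F := A * Matrix.GeneralLinearGroup.mkOfDetNeZero T (by rw [hT1]; exact one_ne_zero)
      have hP : N = cT σ (P : Matrix (Fin m) (Fin m) F) * B * (P : Matrix (Fin m) (Fin m) F) := by
        show N = cT σ ((A : Matrix (Fin m) (Fin m) F) * T) * B * ((A : Matrix (Fin m) (Fin m) F) * T)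
        simp only [hN, hM₁, cT_mul, Matrix.mul_assoc]
      have hNne : N ≠ Matrix.single 0 0 (w 0) := by
        intro e
        refine hrank (w 0) (cT σ ((P⁻¹ : GL (Fin m) F) : Matrix (Fin m) (Fin m) F) *ᵥ Pi.single 0 1) hw0 ?_ ?_
        · intro hz
          have := congrArg (fun z => cT σ (P : Matrix (Fin m) (Fin m) F) *ᵥ z) hz
          simp only [Matrix.mulVec_mulVec, ← cT_mul, ← Units.val_mul, inv_mul_cancel, Units.val_one,
            cT_one, Matrix.one_mulVec, Matrix.mulVec_zero] at this
          simpa using congrFun this 0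
        · have e1 : B = cT σ ((P⁻¹ : GL (Fin m) F) : Matrix (Fin m) (Fin m) F) * N *
              ((P⁻¹ : GL (Fin m) F) : Matrix (Fin m) (Fin m) F) := by
            rw [hP, ← Matrix.mul_assoc, ← Matrix.mul_assoc, ← cT_mul, ← Units.val_mul, mul_inv_cancel,
              Units.val_one, cT_one, Matrix.one_mul, Matrix.mul_assoc, ← Units.val_mul, mul_inv_cancel,
              Units.val_one, Matrix.mul_one]
          rw [e, show Matrix.single (0 : Fin m) (0 : Fin m) (w 0) =
              (w 0) • vecMulVec (Pi.single 0 1) (Pi.single 0 1) by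
            rw [← Matrix.single_eq_single_vecMulVec_single, Matrix.smul_single, smul_eq_mul, mul_one]] at e1
          rw [e1, Matrix.mul_smul, Matrix.smul_mul, Matrix.mul_vecMulVec, Matrix.vecMulVec_mul]
          congr 2
          funext j
          simp [Matrix.mulVec_single_one, Matrix.vecMul, cT_apply, hc.invol]
      obtain ⟨S, hSσ, hS0, hSe, hSe', hSne⟩ := exists_moving hc hm (fun h2 => by
          have hfc := (frob_cards hF hσ hc).1
          have h3 := hq h2
          by_contra hall
          push Not at hall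
          have : Nat.card (fixedUnits σ) ≤ 2 := card_roots_pow_le 2 two_pos _ fun u hu => by
            refine Units.ext ?_
            rw [Units.val_pow_eq_pow_val, Units.val_one, pow_two]
            exact hall _ hu (Units.ne_zero u)
          omega) hNherm hT hNne
      obtain ⟨T', hT'1, hT'e, hT'⟩ := shear_col hc hw0 (M := N) (Pi.single 0 (w 0)) hT (by simp) (w := w) rfl
      refine ⟨cT σ T' * N * T', ?_, cT σ T' * (cT σ S * N * S) * T', ?_, fun e => hSne ?_, hT', ?_⟩
      · refine ⟨P * Matrix.GeneralLinearGroup.mkOfDetNeZero T' (by rw [hT'1]; exact one_ne_zero), ?_, ?_⟩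
        · show σ (((A : Matrix (Fin m) (Fin m) F) * T) * T').det = (((A : Matrix (Fin m) (Fin m) F) * T) * T').det
          simp only [det_mul, hT1, hT'1, mul_one, hA]
        · show _ = cT σ ((P : Matrix (Fin m) (Fin m) F) * T') * B * ((P : Matrix (Fin m) (Fin m) F) * T')
          simp only [cT_mul, hP, Matrix.mul_assoc]
      · refine ⟨P * Matrix.GeneralLinearGroup.mkOfDetNeZero (S * T')
          (by rw [det_mul, hT'1, mul_one]; exact hS0), ?_, ?_⟩
        · show σ (((A : Matrix (Fin m) (Fin m) F) * T) * (S * T')).det =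
            (((A : Matrix (Fin m) (Fin m) F) * T) * (S * T')).det
          simp only [det_mul, hT1, hT'1, mul_one, map_mul, hA, hSσ]
        · show _ = cT σ ((P : Matrix (Fin m) (Fin m) F) * (S * T')) * B * ((P : Matrix (Fin m) (Fin m) F) * (S * T'))
          simp only [cT_mul, hP, Matrix.mul_assoc]
      · have hu : IsUnit T' := by
          rw [Matrix.isUnit_iff_isUnit_det, hT'1]; exact isUnit_one
        have hu' : IsUnit (cT σ T') := by
          rw [Matrix.isUnit_iff_isUnit_det, det_cT, hT'1, map_one]; exact isUnit_one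
        exact (hu'.mul_right_inj.1 (hu.mul_left_inj.1 e)).symm
      · have e2 : (cT σ S * N * S) *ᵥ Pi.single 0 1 = Pi.single 0 (w 0) := by
          rw [← Matrix.mulVec_mulVec, hSe, ← Matrix.mulVec_mulVec, hT,
            show (Pi.single 0 (w 0) : Fin m → F) = w 0 • Pi.single 0 1 by
              rw [← Pi.single_smul, smul_eq_mul, mul_one],
            Matrix.mulVec_smul, hSe']
        rw [← Matrix.mulVec_mulVec, hT'e, ← Matrix.mulVec_mulVec, e2]
        have e3 := hT'
        rw [← Matrix.mulVec_mulVec, hT'e, ← Matrix.mulVec_mulVec, hT] at e3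
        exact e3
    choose! f₁ hf₁ f₂ hf₂ hne h₁ h₂ using hpair
    have h3 : 2 * W.card ≤ O.ncard := by
      have : (↑(W.image f₁ ∪ W.image f₂) : Set _) ⊆ O := by
        intro M hM
        simp only [Finset.coe_union, Finset.coe_image, Set.mem_union, Set.mem_image, Finset.mem_coe] at hM
        rcases hM with ⟨w, hw, rfl⟩ | ⟨w, hw, rfl⟩
        · exact hf₁ w hw
        · exact hf₂ w hw
      refine le_trans ?_ (Set.ncard_le_ncard this (Set.toFinite _))
      rw [Set.ncard_coe_finset, Finset.card_union_of_disjoint, Finset.card_image_of_injOn,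
        Finset.card_image_of_injOn]
      · omega
      · intro w hw w' hw' e; rw [← h₂ w hw, ← h₂ w' hw', e]
      · intro w hw w' hw' e; rw [← h₁ w hw, ← h₁ w' hw', e]
      · rw [Finset.disjoint_left]
        intro M hM1 hM2
        obtain ⟨w, hw, rfl⟩ := Finset.mem_image.1 hM1
        obtain ⟨w', hw', e⟩ := Finset.mem_image.1 hM2
        have : w' = w := by rw [← h₂ w' hw', e, h₁ w hw]
        subst this
        exact hne w' hw e.symm
    rw [Nat.div_le_iff_le_mul_add_pred (by omega)]
    obtain ⟨r, rfl⟩ : ∃ r, m = r + 2 := ⟨m - 2, by omega⟩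
    obtain ⟨s, rfl⟩ : ∃ s, q = s + 1 := ⟨q - 1, by omega⟩
    simp only [Nat.add_sub_cancel, show r + 2 - 1 = r + 1 from rfl] at hW
    have e : (s + 1) ^ (2 * (r + 2)) = ((s + 1) ^ 2) ^ (r + 1) * (s + 1) ^ 2 := by
      rw [← pow_succ, ← pow_mul]
    have key : (s + 1) ^ 2 ≤ (s + 1 + 1) * (2 * s) := by nlinarith
    calc (s + 1) ^ (2 * (r + 2)) - 1 ≤ (s + 1) ^ (2 * (r + 2)) := Nat.sub_le _ _
      _ ≤ (s + 1 + 1) * (2 * (s * ((s + 1) ^ 2) ^ (r + 1))) := by
        rw [e]
        calc ((s + 1) ^ 2) ^ (r + 1) * (s + 1) ^ 2 ≤ ((s + 1) ^ 2) ^ (r + 1) * ((s + 1 + 1) * (2 * s)) :=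
              Nat.mul_le_mul_left _ key
          _ = _ := by ring
      _ ≤ (s + 1 + 1) * O.ncard := Nat.mul_le_mul_left _ (le_trans (by omega) h3)
      _ ≤ _ := Nat.le_add_right _ _

end CfsgLib.MinDeg
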