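import Mathlib

/-!
# Degree bounds from orbits on the characters of an abelian subgroup

If a representation is non-trivial on the image of a finite abelian group `X`, and every non-trivial
character of `X` has at least `B` images under elements normalising the image, then the degree of the
representation is at least `B`.
-/

set_option autoImplicit false

namespace CfsgLib.MinDeg

variable {G : Type*} [Group G] {X : Type*} [AddCommGroup X] [Finite X]
  {V : Type*} [AddCommGroup V] [Module ℂ V]

/-- The weight space of a character. -/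
def weightSpace (ρ : Representation ℂ G V) (u : X → G) (χ : AddChar X ℂ) : Submodule ℂ V where
  carrier := {v | ∀ a, ρ (u a) v = χ a • v}
  add_mem' := fun {v w} hv hw a => by rw [map_add, hv a, hw a, smul_add]
  zero_mem' := fun a => by simp
  smul_mem' := fun c v hv a => by rw [map_smul, hv a, smul_comm]

theorem mem_weightSpace {ρ : Representation ℂ G V} {u : X → G} {χ : AddChar X ℂ} {v : V} :
    v ∈ weightSpace ρ u χ ↔ ∀ a, ρ (u a) v = χ a • v := Iff.rfl

theorem u_zero {u : X → G} (hu : ∀ a b, u (a + b) = u a * u b) : u 0 = 1 := by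
  have h := hu 0 0
  rw [add_zero] at h
  exact mul_eq_left.1 h.symm

/-- A representation non-trivial on the image has a non-trivial weight. -/
theorem exists_weight (ρ : Representation ℂ G V) (u : X → G) (hu : ∀ a b, u (a + b) = u a * u b)
    (hnt : ∃ a, ρ (u a) ≠ 1) : ∃ χ : AddChar X ℂ, χ ≠ 0 ∧ weightSpace ρ u χ ≠ ⊥ := by
  classical
  cases nonempty_fintype X
  let Pr : AddChar X ℂ → Module.End ℂ V := fun χ =>
    (Fintype.card X : ℂ)⁻¹ • ∑ b, χ (-b) • ρ (u b)
  have hq0 : (Fintype.card X : ℂ) ≠ 0 := Nat.cast_ne_zero.2 Fintype.card_ne_zero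
  have hPr : ∀ χ v, Pr χ v ∈ weightSpace ρ u χ := by
    intro χ v c
    simp only [Pr, LinearMap.smul_apply, map_smul, LinearMap.coe_sum, Finset.sum_apply, map_sum,
      Finset.smul_sum, smul_smul, ← Module.End.mul_apply, ← map_mul, ← hu]
    refine Fintype.sum_equiv (Equiv.addLeft c) _ _ fun b => ?_
    simp only [Equiv.coe_addLeft]
    congr 1
    rw [mul_left_comm (χ c), ← AddChar.map_add_eq_mul χ c]
    congr 2
    abel
  have hsum : ∀ v, ∑ χ, Pr χ v = v := by
    intro v
    simp only [Pr, LinearMap.smul_apply, LinearMap.coe_sum, Finset.sum_apply, ← Finset.smul_sum]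
    rw [Finset.sum_comm]
    simp only [← Finset.sum_smul, AddChar.sum_apply_eq_ite, neg_eq_zero]
    rw [Finset.sum_eq_single 0 (fun b _ hb => by simp [hb]) (by simp)]
    simp [u_zero hu, smul_smul, inv_mul_cancel₀ hq0]
  by_contra hall
  push Not at hall
  obtain ⟨a, ha⟩ := hnt
  refine ha (LinearMap.ext fun v => ?_)
  have h : v = Pr 0 v := by
    conv_lhs => rw [← hsum v]
    refine Finset.sum_eq_single 0 (fun χ _ hχ => ?_) (by simp)
    have h1 := hPr χ v
    rw [hall χ hχ] at h1
    simpa using h1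
  rw [Module.End.one_apply, h, (mem_weightSpace.1 (hPr 0 v)) a]
  simp

variable [FiniteDimensional ℂ V]

/-- Distinct non-zero weight spaces are independent. -/
theorem card_le_finrank_of_weights (ρ : Representation ℂ G V) (u : X → G)
    (S : Set (AddChar X ℂ)) (hS : ∀ χ ∈ S, weightSpace ρ u χ ≠ ⊥) :
    S.ncard ≤ Module.finrank ℂ V := by
  classical
  cases nonempty_fintype X
  have hex : ∀ χ : S, ∃ v, v ∈ weightSpace ρ u χ ∧ v ≠ 0 := fun χ =>
    Submodule.exists_mem_ne_zero_of_ne_bot (hS χ χ.2)
  choose v hv hv0 using hex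
  have hli : LinearIndependent ℂ v := by
    refine (Fintype.linearIndependent_iff (R := ℂ) (v := v)).2 fun g hg j => ?_
    have h := congrArg (fun w => ∑ b, (j : AddChar X ℂ) (-b) • ρ (u b) w) hg
    simp only [map_sum, map_smul, Finset.smul_sum, map_zero, smul_zero, Finset.sum_const_zero,
      mem_weightSpace.1 (hv _) _, smul_smul] at h
    rw [Finset.sum_comm] at h
    simp only [← Finset.sum_smul] at h
    have key : ∀ i : S, ∑ b, (j : AddChar X ℂ) (-b) * (g i * (i : AddChar X ℂ) b) =
        if i = j then (Fintype.card X : ℂ) * g i else 0 := by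
      intro i
      have e : ∀ b, (j : AddChar X ℂ) (-b) * (g i * (i : AddChar X ℂ) b) =
          g i * ((i : AddChar X ℂ) - (j : AddChar X ℂ)) b := fun b => by
        rw [AddChar.sub_apply, AddChar.map_neg_eq_inv]
        ring
      simp only [e, ← Finset.mul_sum, AddChar.sum_eq_ite, sub_eq_zero, Subtype.coe_inj]
      split_ifs <;> ring
    simp only [key, ite_smul, zero_smul, Finset.sum_ite_eq', Finset.mem_univ, if_true] at h
    rcases smul_eq_zero.1 h with h | h
    · exact (mul_eq_zero.1 h).resolve_left (Nat.cast_ne_zero.2 Fintype.card_ne_zero)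
    · exact absurd h (hv0 j)
  have h := hli.fintype_card_le_finrank
  rwa [← Nat.card_eq_fintype_card, Nat.card_coe_set_eq] at h

/-- The orbit bound. -/
theorem orbit_bound (ρ : Representation ℂ G V) (u : X → G) (hu : ∀ a b, u (a + b) = u a * u b)
    (hnt : ∃ a, ρ (u a) ≠ 1) (B : ℕ)
    (horb : ∀ χ : AddChar X ℂ, χ ≠ 0 → ∃ S : Set (AddChar X ℂ), B ≤ S.ncard ∧
      ∀ χ' ∈ S, ∃ (l : G) (f : X → X), (∀ a, l * u a = u (f a) * l) ∧ ∀ a, χ' a = χ (f a)) :
    B ≤ Module.finrank ℂ V := by
  obtain ⟨χ, hχ, hne⟩ := exists_weight ρ u hu hnt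
  obtain ⟨S, hB, hS⟩ := horb χ hχ
  refine hB.trans (card_le_finrank_of_weights ρ u S fun χ' hχ' => ?_)
  obtain ⟨l, f, hl, hf⟩ := hS χ' hχ'
  obtain ⟨v, hv, hv0⟩ := Submodule.exists_mem_ne_zero_of_ne_bot hne
  refine fun h => hv0 ?_
  have hmem : ρ l⁻¹ v ∈ weightSpace ρ u χ' := fun a => by
    rw [← Module.End.mul_apply, ← map_mul,
      show u a * l⁻¹ = l⁻¹ * u (f a) by rw [eq_inv_mul_iff_mul_eq, ← mul_assoc, hl, mul_inv_cancel_right],
      map_mul, Module.End.mul_apply, mem_weightSpace.1 hv (f a), map_smul, hf]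
  rw [h, Submodule.mem_bot] at hmem
  have := congrArg (ρ l) hmem
  rwa [← Module.End.mul_apply, ← map_mul, mul_inv_cancel, map_one, Module.End.one_apply,
    map_zero] at this

end CfsgLib.MinDeg
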