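import Cfsg.Agent.Lib.Classical.SympMatrix
import Cfsg.Agent.Lib.KnownB.MinDeg.OrbitBound
import Cfsg.Agent.Lib.KnownB.MinDeg.SymOrbit

/-!
# The Siegel parabolic of the symplectic group and the degree bound `(q ^ n - 1) / 2`
-/

set_option autoImplicit false

open Matrix CfsgLib.Classical

namespace CfsgLib.MinDeg

variable {F : Type*} [Field F] {n : ℕ}

variable (F n) in
/-- Symmetric matrices. -/
def symMat : AddSubgroup (Matrix (Fin n) (Fin n) F) where
  carrier := {S | Sᵀ = S}
  add_mem' := fun {a b} ha hb => by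
    rw [Set.mem_setOf_eq] at *
    rw [transpose_add, ha, hb]
  zero_mem' := by simp
  neg_mem' := fun {a} ha => by
    rw [Set.mem_setOf_eq] at *
    rw [transpose_neg, ha]

theorem symMat_eq (S : symMat F n) : (S : Matrix (Fin n) (Fin n) F)ᵀ = S := S.2

/-- The Siegel unipotent element. -/
def siegel (S : symMat F n) : symplecticGroup (Fin n) F :=
  ⟨fromBlocks 1 (S : Matrix (Fin n) (Fin n) F) 0 1, by
    rw [SymplecticGroup.mem_iff, Matrix.fromBlocks_transpose, Matrix.J, Matrix.fromBlocks_multiply,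
      Matrix.fromBlocks_multiply]
    simp [symMat_eq]⟩

theorem siegel_coe (S : symMat F n) :
    (siegel S : Matrix (Fin n ⊕ Fin n) (Fin n ⊕ Fin n) F) = fromBlocks 1 (S : Matrix (Fin n) (Fin n) F) 0 1 := rfl

theorem siegel_add (S T : symMat F n) : siegel (S + T) = siegel S * siegel T := by
  refine Subtype.ext ?_
  show fromBlocks 1 _ 0 1 = fromBlocks 1 _ 0 1 * fromBlocks 1 _ 0 1
  rw [Matrix.fromBlocks_multiply]
  simp [add_comm]

theorem gl_inv_mul_transpose (A : GL (Fin n) F) :
    (A : Matrix (Fin n) (Fin n) F)ᵀ * ((A⁻¹ : GL (Fin n) F) : Matrix (Fin n) (Fin n) F)ᵀ = 1 := by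
  rw [← transpose_mul, ← Units.val_mul, inv_mul_cancel, Units.val_one, transpose_one]

theorem gl_transpose_mul_inv (A : GL (Fin n) F) :
    ((A⁻¹ : GL (Fin n) F) : Matrix (Fin n) (Fin n) F)ᵀ * (A : Matrix (Fin n) (Fin n) F)ᵀ = 1 := by
  rw [← transpose_mul, ← Units.val_mul, mul_inv_cancel, Units.val_one, transpose_one]

/-- The Levi element. -/
def levi (A : GL (Fin n) F) : symplecticGroup (Fin n) F :=
  ⟨fromBlocks (A : Matrix (Fin n) (Fin n) F) 0 0 ((A⁻¹ : GL (Fin n) F) : Matrix (Fin n) (Fin n) F)ᵀ, by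
    rw [SymplecticGroup.mem_iff, Matrix.fromBlocks_transpose, Matrix.J, Matrix.fromBlocks_multiply,
      Matrix.fromBlocks_multiply]
    simp only [Matrix.transpose_transpose, Matrix.zero_mul, Matrix.mul_zero, add_zero, zero_add,
      Matrix.mul_neg, Matrix.neg_mul, Matrix.mul_one, Matrix.transpose_zero, neg_zero]
    rw [← Units.val_mul, mul_inv_cancel, Units.val_one, gl_transpose_mul_inv]⟩

theorem levi_coe (A : GL (Fin n) F) :
    (levi A : Matrix (Fin n ⊕ Fin n) (Fin n ⊕ Fin n) F) =
      fromBlocks (A : Matrix (Fin n) (Fin n) F) 0 0 ((A⁻¹ : GL (Fin n) F) : Matrix (Fin n) (Fin n) F)ᵀ := rfl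

/-- The congruence action on symmetric matrices. -/
def congS (A : Matrix (Fin n) (Fin n) F) (S : symMat F n) : symMat F n :=
  ⟨A * (S : Matrix (Fin n) (Fin n) F) * Aᵀ, by
    show (_)ᵀ = _
    rw [transpose_mul, transpose_mul, transpose_transpose, symMat_eq, Matrix.mul_assoc]⟩

theorem levi_siegel (A : GL (Fin n) F) (S : symMat F n) :
    levi A * siegel S = siegel (congS (A : Matrix (Fin n) (Fin n) F) S) * levi A := by
  refine Subtype.ext ?_
  show fromBlocks _ _ _ _ * fromBlocks _ _ _ _ = fromBlocks _ _ _ _ * fromBlocks _ _ _ _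
  rw [Matrix.fromBlocks_multiply, Matrix.fromBlocks_multiply]
  have h := gl_inv_mul_transpose A
  simp only [Matrix.coe_units_inv] at h
  simp [congS, Matrix.mul_assoc, h]

/-- The transvection of a basis vector inside the Siegel subgroup. -/
def rootS (i : Fin n) (c : F) : symMat F n :=
  ⟨Matrix.single i i c, by show (_)ᵀ = _; rw [Matrix.transpose_single]⟩

theorem siegel_rootS (i : Fin n) (c : F) :
    (siegel (rootS i c) : Matrix (Fin n ⊕ Fin n) (Fin n ⊕ Fin n) F) =
      Cfsg.sympTransvection n (Pi.single (.inl i) 1) c := by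
  refine Matrix.ext_of_mulVec_single fun k => ?_
  rw [siegel_coe, sympTransvection_mulVec, tv_apply, sympBil_apply, sympForm_eq,
    Matrix.fromBlocks_mulVec]
  funext j
  rcases j with j | j <;> rcases k with k | k <;>
    simp [rootS, Pi.single_apply, Matrix.mulVec, dotProduct, Matrix.single_apply, Matrix.one_apply] <;>
    split_ifs <;> simp_all

variable [Fintype F] [DecidableEq F]

theorem ker_eq_top_of_siegel {H : Type*} [Monoid H] (f : symplecticGroup (Fin n) F →* H) (hn : 1 ≤ n)
    (h : ∀ S, f (siegel S) = 1) : f.ker = ⊤ := by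
  rw [eq_top_iff, ← closure_sympTransvection F n, Subgroup.closure_le]
  rintro A ⟨w, c, hA⟩
  rw [SetLike.mem_coe, MonoidHom.mem_ker]
  by_cases hw : w = 0
  · have : A = 1 := by
      refine Subtype.ext (hA.trans (Matrix.ext_of_mulVec_single fun k => ?_))
      rw [sympTransvection_mulVec, tv_apply, hw]
      simp only [smul_zero, add_zero, Submonoid.coe_one, OneMemClass.coe_one, Matrix.one_mulVec]
    rw [this, map_one]
  · let i : Fin n := ⟨0, hn⟩
    obtain ⟨g, hg⟩ := sp_transitive n (u := Pi.single (.inl i) 1) (u' := w) (by simp) hw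
    have hB : ∀ B : symplecticGroup (Fin n) F,
        (B : Matrix (Fin n ⊕ Fin n) (Fin n ⊕ Fin n) F) = Cfsg.sympTransvection n (Pi.single (.inl i) 1) c →
        g * B = A * g := by
      intro B hB
      refine Subtype.ext (Matrix.ext_of_mulVec_single fun k => ?_)
      show (g.1 * B.1) *ᵥ _ = (A.1 * g.1) *ᵥ _
      rw [hA, hB, ← Matrix.mulVec_mulVec, ← Matrix.mulVec_mulVec, sympTransvection_mulVec,
        sympTransvection_mulVec, tv_apply, tv_apply, Matrix.mulVec_add, Matrix.mulVec_smul, hg,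
        sympBil_apply, sympBil_apply]
      congr 2
      rw [← hg]
      rw [(mem_symplecticGroup_iff_preserves n).1 g.2]
    have hex : ∃ B : symplecticGroup (Fin n) F, f B = 1 ∧
        (B : Matrix (Fin n ⊕ Fin n) (Fin n ⊕ Fin n) F) = Cfsg.sympTransvection n (Pi.single (.inl i) 1) c :=
      ⟨_, h _, siegel_rootS i c⟩
    obtain ⟨B, hB1, hB2⟩ := hex
    have := congrArg f (hB B hB2)
    rw [map_mul, map_mul, hB1, mul_one] at this
    calc f A = f A * f (g * g⁻¹) := by rw [mul_inv_cancel, map_one, mul_one]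
      _ = f g * f g⁻¹ := by rw [map_mul, ← mul_assoc, ← this]
      _ = 1 := by rw [← map_mul, mul_inv_cancel, map_one]

/-- Every character of the symmetric matrices comes from a symmetric matrix. -/
theorem exists_sym_char (hodd : Odd (Fintype.card F)) {ψ : AddChar F ℂ} (hψ : ψ ≠ 0)
    (χ : AddChar (symMat F n) ℂ) : ∃ B : symMat F n, ∀ S : symMat F n,
      χ S = ψ (Matrix.trace ((B : Matrix (Fin n) (Fin n) F) * (S : Matrix (Fin n) (Fin n) F))) := by
  let Φ : symMat F n → AddChar (symMat F n) ℂ := fun B =>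
    ψ.compAddMonoidHom
      { toFun := fun S => Matrix.trace ((B : Matrix (Fin n) (Fin n) F) * (S : Matrix (Fin n) (Fin n) F))
        map_zero' := by simp
        map_add' := fun S T => by simp [Matrix.mul_add] }
  suffices hb : Function.Bijective Φ by
    obtain ⟨B, hB⟩ := hb.2 χ
    exact ⟨B, fun S => by rw [← hB]; rfl⟩
  rw [Nat.bijective_iff_injective_and_card]
  refine ⟨fun B B' h => ?_, ?_⟩
  · refine Subtype.ext (sub_eq_zero.1 ?_)
    set D := (B : Matrix (Fin n) (Fin n) F) - (B' : Matrix (Fin n) (Fin n) F) with hD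
    have hDs : ∀ i j, D i j = D j i := fun i j => by
      have := (symMat F n).sub_mem B.2 B'.2
      exact (congrFun (congrFun this j) i : _)
    have hz : ∀ S : symMat F n, ψ (Matrix.trace (D * (S : Matrix (Fin n) (Fin n) F))) = 1 := by
      intro S
      have e : ψ (Matrix.trace ((B : Matrix (Fin n) (Fin n) F) * (S : Matrix (Fin n) (Fin n) F))) =
          ψ (Matrix.trace ((B' : Matrix (Fin n) (Fin n) F) * (S : Matrix (Fin n) (Fin n) F))) :=
        DFunLike.congr_fun h S
      rw [hD, Matrix.sub_mul, Matrix.trace_sub, sub_eq_add_neg, AddChar.map_add_eq_mul,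
        AddChar.map_neg_eq_inv, e, mul_inv_cancel₀]
      exact (ψ.val_isUnit _).ne_zero
    obtain ⟨x, hx⟩ := AddChar.ne_zero_iff.1 hψ
    ext i j
    by_contra hij
    have hs : (Matrix.single i j (x / (2 * D i j)) + Matrix.single j i (x / (2 * D i j))) ∈ symMat F n := by
      show (_)ᵀ = _
      rw [transpose_add, transpose_single, transpose_single, add_comm]
    refine hx ?_
    have e := hz ⟨_, hs⟩
    rwa [Matrix.mul_add, Matrix.trace_add, Matrix.trace_mul_single, Matrix.trace_mul_single,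
      op_smul_eq_mul, op_smul_eq_mul, hDs j i, ← two_mul, ← mul_assoc, mul_div_cancel₀] at e
    exact mul_ne_zero (two_ne_zero_of_odd hodd) hij
  · cases nonempty_fintype (symMat F n)
    rw [Nat.card_eq_fintype_card, Nat.card_eq_fintype_card, AddChar.card_eq]

/-- A representation of `Sp(2n, q)`, `q` odd, which is non-trivial has degree at least `(q ^ n - 1) / 2`. -/
theorem sp_degree_bound (hn : 1 ≤ n) (hodd : Odd (Fintype.card F)) {V : Type*} [AddCommGroup V]
    [Module ℂ V] [FiniteDimensional ℂ V] (ρ : Representation ℂ (symplecticGroup (Fin n) F) V)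
    (hnt : ρ.ker ≠ ⊤) : (Fintype.card F ^ n - 1) / 2 ≤ Module.finrank ℂ V := by
  classical
  obtain ⟨ψ, hψ1⟩ := AddChar.exists_apply_ne_zero.2 (one_ne_zero (α := F))
  have hψ : ψ ≠ 0 := AddChar.ne_zero_iff.2 ⟨1, hψ1⟩
  refine orbit_bound ρ siegel siegel_add ?_ _ fun χ hχ => ?_
  · by_contra h
    push Not at h
    exact hnt (ker_eq_top_of_siegel (F := F) (n := n) ρ hn h)
  obtain ⟨B, hB⟩ := exists_sym_char hodd hψ χ
  have hB0 : (B : Matrix (Fin n) (Fin n) F) ≠ 0 := fun h0 => hχ (by
    refine DFunLike.ext _ _ fun S => ?_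
    rw [hB, h0]
    simp)
  obtain ⟨O, hO, hOA⟩ := sym_orbit hodd (B := (B : Matrix (Fin n) (Fin n) F)) B.2 hB0
  have hOsym : ∀ B' ∈ O, B' ∈ symMat F n := fun B' hB' => by
    obtain ⟨A, rfl⟩ := hOA B' hB'
    show (_)ᵀ = _
    rw [transpose_mul, transpose_mul, transpose_transpose, symMat_eq, Matrix.mul_assoc]
  refine ⟨{χ' | ∃ B' ∈ O, ∀ S : symMat F n,
    χ' S = ψ (Matrix.trace (B' * (S : Matrix (Fin n) (Fin n) F)))}, hO.trans ?_, fun χ' hχ' => ?_⟩
  · rw [← Nat.card_coe_set_eq, ← Nat.card_coe_set_eq]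
    have hex : ∀ B' : O, ∃ χ' : AddChar (symMat F n) ℂ, ∀ S : symMat F n,
        χ' S = ψ (Matrix.trace ((B' : Matrix (Fin n) (Fin n) F) * (S : Matrix (Fin n) (Fin n) F))) :=
      fun B' => ⟨ψ.compAddMonoidHom
        { toFun := fun S => Matrix.trace ((B' : Matrix (Fin n) (Fin n) F) * (S : Matrix (Fin n) (Fin n) F))
          map_zero' := by simp
          map_add' := fun S T => by simp [Matrix.mul_add] }, fun S => rfl⟩
    choose c hc using hex
    refine Nat.card_le_card_of_injective (fun B' : O => ⟨c B', ⟨B'.1, B'.2, hc B'⟩⟩) ?_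
    intro B1 B2 h
    have h' : c B1 = c B2 := congrArg Subtype.val h
    obtain ⟨B1', hB1⟩ := exists_sym_char hodd hψ (c B1)
    refine Subtype.ext (sub_eq_zero.1 ?_)
    by_contra hne
    have hs := (symMat F n).sub_mem (hOsym _ B1.2) (hOsym _ B2.2)
    obtain ⟨i, hi⟩ := Function.ne_iff.1 hne
    obtain ⟨j, hij⟩ := Function.ne_iff.1 hi
    obtain ⟨x, hx⟩ := AddChar.ne_zero_iff.1 hψ
    set D := (B1 : Matrix (Fin n) (Fin n) F) - (B2 : Matrix (Fin n) (Fin n) F) with hD
    let S : symMat F n := ⟨Matrix.single i j (x / (2 * D i j)) + Matrix.single j i (x / (2 * D i j)), by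
      show (_)ᵀ = _
      rw [transpose_add, transpose_single, transpose_single, add_comm]⟩
    have e : ψ (Matrix.trace (D * (S : Matrix (Fin n) (Fin n) F))) = 1 := by
      rw [hD, Matrix.sub_mul, Matrix.trace_sub, sub_eq_add_neg, AddChar.map_add_eq_mul,
        AddChar.map_neg_eq_inv, ← hc B1 S, ← hc B2 S, h', mul_inv_cancel₀]
      exact ((c B2).val_isUnit _).ne_zero
    refine hx ?_
    have hji : D j i = D i j := (congrFun (congrFun hs i) j : _)
    rw [Matrix.mul_add, Matrix.trace_add, Matrix.trace_mul_single, Matrix.trace_mul_single,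
      op_smul_eq_mul, op_smul_eq_mul, hji,
      ← two_mul, ← mul_assoc, mul_div_cancel₀ _ (mul_ne_zero (two_ne_zero_of_odd hodd) hij)] at e
    exact e
  · obtain ⟨B', hB', hχB'⟩ := hχ'
    obtain ⟨A, rfl⟩ := hOA B' hB'
    refine ⟨levi A, congS (A : Matrix (Fin n) (Fin n) F), levi_siegel A, fun S => ?_⟩
    rw [hχB', hB]
    congr 1
    simp only [congS]
    rw [Matrix.mul_assoc, Matrix.mul_assoc, Matrix.trace_mul_comm]
    simp only [Matrix.mul_assoc]

end CfsgLib.MinDeg
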