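import Cfsg.Agent.Lib.Classical.SympMatrix
import Cfsg.Agent.Lib.KnownB.MinDeg.SymOrbit

/-!
# The Schrödinger operators of a finite field of odd order and their symplectic intertwiners
-/

set_option autoImplicit false

open Matrix CfsgLib.Classical

namespace CfsgLib.MinDeg

variable {F : Type*} [Field F] [Fintype F] {n : ℕ}

/-- The Schrödinger operator of a vector. -/
def schr (ψ : AddChar F ℂ) (v : Fin n ⊕ Fin n → F) : Module.End ℂ ((Fin n → F) → ℂ) where
  toFun f x := ψ ((v ∘ Sum.inl) ⬝ᵥ x + (v ∘ Sum.inr) ⬝ᵥ (v ∘ Sum.inl) / 2) * f (x + v ∘ Sum.inr)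
  map_add' f g := by funext x; simp [mul_add]
  map_smul' c f := by funext x; simp [mul_left_comm]

theorem schr_apply (ψ : AddChar F ℂ) (v : Fin n ⊕ Fin n → F) (f : (Fin n → F) → ℂ) (x : Fin n → F) :
    schr ψ v f x =
      ψ ((v ∘ Sum.inl) ⬝ᵥ x + (v ∘ Sum.inr) ⬝ᵥ (v ∘ Sum.inl) / 2) * f (x + v ∘ Sum.inr) := rfl

theorem sympForm_dot (v w : Fin n ⊕ Fin n → F) :
    Cfsg.sympForm n F v w =
      (v ∘ Sum.inr) ⬝ᵥ (w ∘ Sum.inl) - (v ∘ Sum.inl) ⬝ᵥ (w ∘ Sum.inr) := by
  rw [sympForm_eq, Finset.sum_sub_distrib]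
  simp [dotProduct]

theorem schr_mul (h2 : (2 : F) ≠ 0) (ψ : AddChar F ℂ) (v w : Fin n ⊕ Fin n → F) :
    schr ψ v * schr ψ w = ψ (Cfsg.sympForm n F v w / 2) • schr ψ (v + w) := by
  refine LinearMap.ext fun f => funext fun x => ?_
  simp only [Module.End.mul_apply, LinearMap.smul_apply, Pi.smul_apply, smul_eq_mul, schr_apply,
    Pi.add_comp, ← mul_assoc, ← AddChar.map_add_eq_mul, sympForm_dot, dotProduct_add,
    add_dotProduct, add_assoc]
  congr 2
  rw [dotProduct_comm (w ∘ Sum.inl) (v ∘ Sum.inr), dotProduct_comm (v ∘ Sum.inl) (w ∘ Sum.inr)]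
  field_simp
  ring

theorem schr_zero (ψ : AddChar F ℂ) : schr ψ (0 : Fin n ⊕ Fin n → F) = 1 := by
  refine LinearMap.ext fun f => funext fun x => ?_
  simp [schr_apply, show ((0 : Fin n ⊕ Fin n → F) ∘ Sum.inl) = 0 from rfl,
    show ((0 : Fin n ⊕ Fin n → F) ∘ Sum.inr) = 0 from rfl]

variable {ψ : AddChar F ℂ}

theorem exists_dot_ne (hψ : ψ ≠ 0) {d : Fin n → F} (hd : d ≠ 0) :
    ∃ b : Fin n → F, ψ (b ⬝ᵥ d) ≠ 1 := by
  classical
  obtain ⟨i, hi⟩ := Function.ne_iff.1 hd
  obtain ⟨x, hx⟩ := AddChar.ne_zero_iff.1 hψ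
  exact ⟨Pi.single i (x / d i), by rwa [single_dotProduct, div_mul_cancel₀ _ hi]⟩

theorem sum_dot (hψ : ψ ≠ 0) (d : Fin n → F) [DecidableEq (Fin n → F)] :
    ∑ b : Fin n → F, ψ (b ⬝ᵥ d) = if d = 0 then (Fintype.card (Fin n → F) : ℂ) else 0 := by
  split_ifs with hd
  · simp [hd]
  · let χ : AddChar (Fin n → F) ℂ := ψ.compAddMonoidHom
      { toFun := fun b => b ⬝ᵥ d, map_zero' := zero_dotProduct _, map_add' := fun a b => add_dotProduct a b d }
    have hχ : χ ≠ 0 := by
      obtain ⟨b, hb⟩ := exists_dot_ne hψ hd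
      exact AddChar.ne_zero_iff.2 ⟨b, hb⟩
    exact AddChar.sum_eq_zero_iff_ne_zero.2 hχ

/-- An invariant subspace of all Schrödinger operators is trivial. -/
theorem schr_invariant (hψ : ψ ≠ 0) (U : Submodule ℂ ((Fin n → F) → ℂ))
    (hU : ∀ v, ∀ f ∈ U, schr ψ v f ∈ U) : U = ⊥ ∨ U = ⊤ := by
  classical
  by_cases h : U = ⊥
  · exact Or.inl h
  right
  obtain ⟨f, hf, hf0⟩ := Submodule.exists_mem_ne_zero_of_ne_bot h
  obtain ⟨x₀, hx₀⟩ := Function.ne_iff.1 hf0
  have h1 : (Pi.single x₀ (1 : ℂ) : (Fin n → F) → ℂ) ∈ U := by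
    have e : (Pi.single x₀ (1 : ℂ) : (Fin n → F) → ℂ) =
        ((Fintype.card (Fin n → F) : ℂ) * f x₀)⁻¹ •
          ∑ b : Fin n → F, ψ (b ⬝ᵥ (-x₀)) • schr ψ (Sum.elim b 0) f := by
      funext x
      simp only [Pi.smul_apply, Finset.sum_apply, schr_apply, smul_eq_mul, Sum.elim_comp_inl,
        Sum.elim_comp_inr, zero_dotProduct, zero_div, add_zero, ← mul_assoc, ← AddChar.map_add_eq_mul,
        ← dotProduct_add, ← Finset.sum_mul, sum_dot hψ]
      by_cases hx : x = x₀
      · subst hx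
        have : (Fintype.card (Fin n → F) : ℂ) ≠ 0 := Nat.cast_ne_zero.2 Fintype.card_ne_zero
        simp at hx₀
        simp only [Pi.single_eq_same, neg_add_cancel, if_true]
        field_simp
      · rw [Pi.single_eq_of_ne hx, if_neg (by rw [neg_add_eq_zero]; exact Ne.symm hx)]
        ring
    rw [e]
    exact U.smul_mem _ (U.sum_mem fun b _ => U.smul_mem _ (hU _ _ hf))
  have h2 : ∀ y : Fin n → F, (Pi.single y (1 : ℂ) : (Fin n → F) → ℂ) ∈ U := by
    intro y
    convert hU (Sum.elim 0 (x₀ - y)) _ h1 using 1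
    funext x
    simp only [schr_apply, Sum.elim_comp_inl, Sum.elim_comp_inr, zero_dotProduct, dotProduct_zero,
      zero_div, add_zero, AddChar.map_zero_eq_one, one_mul, Pi.single_apply]
    refine if_congr ⟨fun e => by rw [e]; abel, fun e => ?_⟩ rfl rfl
    calc x = x + (x₀ - y) - (x₀ - y) := by abel
      _ = y := by rw [e]; abel
  rw [eq_top_iff]
  intro g _
  rw [show g = ∑ y : Fin n → F, g y • (Pi.single y (1 : ℂ) : (Fin n → F) → ℂ) by
    funext x; simp [Pi.single_apply]]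
  exact U.sum_mem fun y _ => U.smul_mem _ (h2 y)

/-- An operator commuting with all Schrödinger operators is a scalar. -/
theorem schr_commutant (hψ : ψ ≠ 0) (T : Module.End ℂ ((Fin n → F) → ℂ))
    (h : ∀ v, T * schr ψ v = schr ψ v * T) : ∃ c : ℂ, T = c • 1 := by
  obtain ⟨c, hc⟩ := Module.End.exists_eigenvalue T
  refine ⟨c, LinearMap.ext fun f => ?_⟩
  have hinv : ∀ v, ∀ g ∈ T.eigenspace c, schr ψ v g ∈ T.eigenspace c := fun v g hg => by
    rw [Module.End.mem_eigenspace_iff] at hg ⊢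
    rw [← Module.End.mul_apply, h v, Module.End.mul_apply, hg, map_smul]
  rcases schr_invariant hψ _ hinv with h0 | h0
  · exact absurd h0 hc
  · have : f ∈ T.eigenspace c := h0 ▸ Submodule.mem_top
    simpa using Module.End.mem_eigenspace_iff.1 this

/-- `T` intertwines the operators along `g`. -/
def Intertwines (ψ : AddChar F ℂ) (g : symplecticGroup (Fin n) F)
    (T : Module.End ℂ ((Fin n → F) → ℂ)) : Prop :=
  ∀ v, T * schr ψ v = schr ψ ((g : Matrix (Fin n ⊕ Fin n) (Fin n ⊕ Fin n) F) *ᵥ v) * T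

theorem Intertwines.mul {g h : symplecticGroup (Fin n) F} {T U : Module.End ℂ ((Fin n → F) → ℂ)}
    (hT : Intertwines ψ g T) (hU : Intertwines ψ h U) : Intertwines ψ (g * h) (T * U) := fun v => by
  rw [mul_assoc, hU v, ← mul_assoc, hT, mul_assoc, Matrix.mulVec_mulVec]
  rfl

theorem intertwines_one : Intertwines ψ (1 : symplecticGroup (Fin n) F) 1 := fun v => by simp

theorem Intertwines.isUnit (hψ : ψ ≠ 0) {g : symplecticGroup (Fin n) F}
    {T : Module.End ℂ ((Fin n → F) → ℂ)} (hT : Intertwines ψ g T) (h0 : T ≠ 0) : IsUnit T := by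
  rw [LinearMap.isUnit_iff_ker_eq_bot]
  refine (schr_invariant hψ (LinearMap.ker T) fun v f hf => ?_).resolve_right
    fun h => h0 (LinearMap.ker_eq_top.1 h)
  rw [LinearMap.mem_ker] at hf ⊢
  rw [← Module.End.mul_apply, hT v, Module.End.mul_apply, hf, map_zero]

theorem trace_schr (hψ : ψ ≠ 0) (v : Fin n ⊕ Fin n → F) [DecidableEq (Fin n ⊕ Fin n → F)] :
    LinearMap.trace ℂ ((Fin n → F) → ℂ) (schr ψ v) =
      if v = 0 then (Fintype.card (Fin n → F) : ℂ) else 0 := by
  classical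
  split_ifs with hv
  · subst hv
    rw [schr_zero, LinearMap.trace_one, Module.finrank_fintype_fun_eq_card]
  rw [LinearMap.trace_eq_matrix_trace ℂ (Pi.basisFun ℂ (Fin n → F)), Matrix.trace]
  simp only [Matrix.diag_apply, LinearMap.toMatrix_apply, Pi.basisFun_repr, Pi.basisFun_apply,
    schr_apply, Pi.single_apply, add_eq_left]
  by_cases ha : v ∘ Sum.inr = 0
  · have hb : v ∘ Sum.inl ≠ 0 := fun hb => hv (funext fun i => by
      rcases i with i | i
      · exact congrFun hb i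
      · exact congrFun ha i)
    simp only [ha, if_true, mul_one, zero_dotProduct, zero_div, add_zero, dotProduct_comm (v ∘ Sum.inl)]
    rw [sum_dot hψ, if_neg hb]
  · simp [ha]

theorem exists_intertwiner (hodd : Odd (Fintype.card F)) (hψ : ψ ≠ 0)
    (g : symplecticGroup (Fin n) F) :
    ∃ T : Module.End ℂ ((Fin n → F) → ℂ), IsUnit T ∧ Intertwines ψ g T := by
  classical
  have h2 := two_ne_zero_of_odd hodd
  have hg : g ∈ Subgroup.closure {A : symplecticGroup (Fin n) F | ∃ (w : Fin n ⊕ Fin n → F) (c : F),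
      (A : Matrix (Fin n ⊕ Fin n) (Fin n ⊕ Fin n) F) = Cfsg.sympTransvection n w c} := by
    rw [closure_sympTransvection]; exact Subgroup.mem_top _
  induction hg using Subgroup.closure_induction with
  | one => exact ⟨1, isUnit_one, intertwines_one⟩
  | mul a b _ _ ha hb =>
    obtain ⟨T, hTu, hT⟩ := ha
    obtain ⟨U, hUu, hU⟩ := hb
    exact ⟨T * U, hTu.mul hUu, hT.mul hU⟩
  | inv a _ ha =>
    obtain ⟨_, ⟨T, rfl⟩, hT⟩ := ha
    refine ⟨(↑T⁻¹ : Module.End ℂ _), Units.isUnit _, fun v => ?_⟩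
    have h := hT (((a⁻¹ : symplecticGroup (Fin n) F) : Matrix (Fin n ⊕ Fin n) (Fin n ⊕ Fin n) F) *ᵥ v)
    rw [Matrix.mulVec_mulVec, sp_mul_inv, Matrix.one_mulVec] at h
    calc (↑T⁻¹ : Module.End ℂ _) * schr ψ v
        = ↑T⁻¹ * (schr ψ v * ↑T) * ↑T⁻¹ := by simp [mul_assoc]
      _ = _ := by rw [← h]; simp [← mul_assoc]
  | mem A hA =>
    obtain ⟨w, c, hA⟩ := hA
    have hact : ∀ v, (A : Matrix (Fin n ⊕ Fin n) (Fin n ⊕ Fin n) F) *ᵥ v =
        v + (c * Cfsg.sympForm n F v w) • w := fun v => by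
      rw [hA, sympTransvection_mulVec, tv_apply, sympBil_apply]
    by_cases hcw : c = 0 ∨ w = 0
    · refine ⟨1, isUnit_one, fun v => ?_⟩
      rw [hact]
      rcases hcw with rfl | rfl <;> simp
    push Not at hcw
    obtain ⟨hc, hw⟩ := hcw
    let T : Module.End ℂ ((Fin n → F) → ℂ) := ∑ s : F, ψ (s ^ 2 / (2 * c)) • schr ψ (s • w)
    have htr : LinearMap.trace ℂ _ T ≠ 0 := by
      simp only [T, map_sum, map_smul, trace_schr hψ, smul_eq_zero, hw, or_false]
      rw [Finset.sum_eq_single 0 (fun s _ hs => by simp [hs]) (by simp)]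
      simp
    have hT : Intertwines ψ A T := by
      intro v
      rw [hact]
      simp only [T, Finset.sum_mul, Finset.mul_sum, smul_mul_assoc, mul_smul_comm,
        schr_mul h2, smul_smul, ← AddChar.map_add_eq_mul]
      refine Fintype.sum_equiv (Equiv.subRight (c * Cfsg.sympForm n F v w)) _ _ fun s => ?_
      simp only [Equiv.subRight_apply]
      set μ := Cfsg.sympForm n F v w with hμ
      have e1 : Cfsg.sympForm n F (s • w) v = -(s * μ) := by
        rw [hμ, ← sympBil_apply, ← sympBil_apply, map_smul, LinearMap.smul_apply,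
          ← (sympBil_isAlt n).neg v w, smul_eq_mul]
        ring
      have e2 : Cfsg.sympForm n F (v + (c * μ) • w) ((s - c * μ) • w) = (s - c * μ) * μ := by
        rw [hμ, ← sympBil_apply, ← sympBil_apply]
        simp [sympBil_isAlt n w]
      rw [e1, e2, show v + (c * μ) • w + (s - c * μ) • w = s • w + v by rw [sub_smul]; abel]
      congr 2
      field_simp
      ring
    exact ⟨T, hT.isUnit hψ fun h => htr (by rw [h, map_zero]), hT⟩

end CfsgLib.MinDeg
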