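import Cfsg.Agent.Lib.KnownB.MinDeg.HermOrbit

/-!
# Congruence orbits of Hermitian matrices under the whole general linear group

A non-zero Hermitian matrix over a field with `q ^ 2` elements has at least `(q ^ (2 m) - 1) / (q + 1)`
congruent matrices, for every `m` and every `q`.
-/

set_option autoImplicit false

open Matrix CfsgLib.Classical

namespace CfsgLib.MinDeg

variable {F : Type*} [Field F] {σ : F →+* F} {m : ℕ}

/-- A non-zero Hermitian matrix takes a non-zero value. -/
theorem exists_value_ne_zero (hc : IsConjugation σ) {B : Matrix (Fin m) (Fin m) F} (hB : cT σ B = B)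
    (h0 : B ≠ 0) : ∃ a : Fin m → F, (σ ∘ a) ⬝ᵥ B *ᵥ a ≠ 0 := by
  classical
  by_contra hall
  push Not at hall
  apply h0
  have hd : ∀ i, B i i = 0 := fun i => by
    have := hall (Pi.single i 1)
    have e : σ ∘ (Pi.single i (1 : F) : Fin m → F) = Pi.single i 1 := by
      funext k; by_cases hk : k = i <;> simp [Pi.single_apply, hk]
    simpa [e, Matrix.mulVec_single, single_dotProduct] using this
  ext i j
  by_contra hij
  obtain ⟨y, hy⟩ := hc.exists_trace_ne_zero
  apply hy
  have := hall (Pi.single i 1 + Pi.single j (y / B i j))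
  have e : σ ∘ (Pi.single i (1 : F) + Pi.single j (y / B i j) : Fin m → F) =
      Pi.single i 1 + Pi.single j (σ (y / B i j)) := by
    funext k
    simp only [Function.comp_apply, Pi.add_apply, map_add, Pi.single_apply]
    split_ifs <;> simp
  simp only [e, Matrix.mulVec_add, dotProduct_add, add_dotProduct, Matrix.mulVec_single,
    single_dotProduct] at this
  have hBji : B j i = σ (B i j) := by rw [← cT_apply (σ := σ) B j i, hB]
  simp [hd, hBji] at this
  rw [div_mul_cancel₀ _ ((map_ne_zero σ).2 hij), mul_comm (B i j), mul_assoc, inv_mul_cancel₀ hij, mul_one] at this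
  linear_combination this

theorem value_fixed (hc : IsConjugation σ) {B : Matrix (Fin m) (Fin m) F} (hB : cT σ B = B)
    (a : Fin m → F) : σ ((σ ∘ a) ⬝ᵥ B *ᵥ a) = (σ ∘ a) ⬝ᵥ B *ᵥ a := by
  simp only [dotProduct, Matrix.mulVec, Function.comp_apply, map_sum, map_mul, hc.invol, Finset.mul_sum]
  rw [Finset.sum_comm]
  refine Finset.sum_congr rfl fun i _ => Finset.sum_congr rfl fun j _ => ?_
  rw [← cT_apply (σ := σ) B i j, hB]
  ring

/-- Moving a vector to another one by a matrix fixing the first row. -/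
theorem exists_fix_row [NeZero m] {u w : Fin m → F} (hu0 : u 0 = 0) (hw0 : w 0 = 0) (hu : u ≠ 0) (hw : w ≠ 0) :
    ∃ G : GL (Fin m) F, (∀ j, (G : Matrix (Fin m) (Fin m) F) 0 j = (1 : Matrix (Fin m) (Fin m) F) 0 j) ∧
      (G : Matrix (Fin m) (Fin m) F) *ᵥ u = w := by
  classical
  obtain ⟨f, hf0, hfu, hfw⟩ : ∃ f : Fin m → F, f 0 = 0 ∧ f ⬝ᵥ u = 1 ∧ f ⬝ᵥ w ≠ 0 := by
    by_cases hi : ∃ i, u i ≠ 0 ∧ w i ≠ 0
    · obtain ⟨i, hui, hwi⟩ := hi
      have hi0 : i ≠ 0 := fun e => hui (e ▸ hu0)
      refine ⟨Pi.single i (u i)⁻¹, Pi.single_eq_of_ne (Ne.symm hi0) _, ?_, ?_⟩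
      · rw [single_dotProduct, inv_mul_cancel₀ hui]
      · rw [single_dotProduct]; exact mul_ne_zero (inv_ne_zero hui) hwi
    · push Not at hi
      obtain ⟨i, hui⟩ := Function.ne_iff.1 hu
      obtain ⟨j, hwj⟩ := Function.ne_iff.1 hw
      have hui' : u i ≠ 0 := hui
      have hwj' : w j ≠ 0 := hwj
      have hwi : w i = 0 := hi i hui'
      have huj : u j = 0 := by by_contra h; exact hwj' (hi j h)
      have hi0 : i ≠ 0 := fun e => hui' (e ▸ hu0)
      have hj0 : j ≠ 0 := fun e => hwj' (e ▸ hw0)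
      refine ⟨Pi.single i (u i)⁻¹ + Pi.single j 1, ?_, ?_, ?_⟩
      · simp [Pi.single_eq_of_ne (Ne.symm hi0), Pi.single_eq_of_ne (Ne.symm hj0)]
      · simp [add_dotProduct, single_dotProduct, inv_mul_cancel₀ hui', huj]
      · simpa [add_dotProduct, single_dotProduct, hwi] using hwj'
  have hdet : (1 + vecMulVec (w - u) f).det ≠ 0 := by
    rw [Matrix.vecMulVec_eq Unit, Matrix.det_one_add_replicateCol_mul_replicateRow, dotProduct_sub, hfu]
    simpa using hfw
  refine ⟨Matrix.GeneralLinearGroup.mkOfDetNeZero _ hdet, fun j => ?_, ?_⟩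
  · show (1 + vecMulVec (w - u) f : Matrix (Fin m) (Fin m) F) 0 j = _
    simp [vecMulVec_apply, hu0, hw0]
  · show (1 + vecMulVec (w - u) f : Matrix (Fin m) (Fin m) F) *ᵥ u = w
    rw [Matrix.add_mulVec, Matrix.one_mulVec, Matrix.vecMulVec_mulVec, hfu]
    simp

variable [Fintype F] [DecidableEq F] {q : ℕ}

/-- The congruence orbit bound. -/
theorem herm_orbit_gl (hF : Fintype.card F = q ^ 2) (hσ : ∀ x, σ x = x ^ q) (hc : IsConjugation σ)
    {B : Matrix (Fin m) (Fin m) F} (hB : cT σ B = B) (h0 : B ≠ 0) :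
    ∃ O : Set (Matrix (Fin m) (Fin m) F), (q ^ (2 * m) - 1) / (q + 1) ≤ O.ncard ∧
      ∀ B' ∈ O, ∃ A : GL (Fin m) F, B' = cT σ (A : Matrix (Fin m) (Fin m) F) * B * (A : Matrix (Fin m) (Fin m) F) := by
  classical
  haveI : NeZero m := ⟨by rintro rfl; exact h0 (Matrix.ext fun i => i.elim0)⟩
  have hq2 := two_le_of_card_sq hF
  set O := {B' | ∃ A : GL (Fin m) F,
    B' = cT σ (A : Matrix (Fin m) (Fin m) F) * B * (A : Matrix (Fin m) (Fin m) F)} with hO
  refine ⟨O, ?_, fun B' h => h⟩
  -- composition of congruences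
  have htrans : ∀ M ∈ O, ∀ A : GL (Fin m) F,
      cT σ (A : Matrix (Fin m) (Fin m) F) * M * (A : Matrix (Fin m) (Fin m) F) ∈ O := by
    rintro M ⟨A₀, rfl⟩ A
    exact ⟨A₀ * A, by simp [cT_mul, Matrix.mul_assoc]⟩
  have hherm : ∀ M ∈ O, cT σ M = M := by
    rintro M ⟨A₀, rfl⟩
    simp only [cT_mul, cT_cT hc, hB, Matrix.mul_assoc]
  have hmem : B ∈ O := ⟨1, by simp [cT_one]⟩
  -- the first column can be prescribed to a non-isotropic value
  have hsec : ∀ M ∈ O, ∀ a : Fin m → F, (σ ∘ a) ⬝ᵥ M *ᵥ a ≠ 0 → ∀ w : Fin m → F,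
      w 0 = (σ ∘ a) ⬝ᵥ M *ᵥ a → ∃ M' ∈ O, M' *ᵥ Pi.single 0 1 = w := by
    intro M hM a ha w hw
    obtain ⟨A, hA⟩ := exists_gl_col (0 : Fin m) (a := a) (fun e => ha (by rw [e]; simp))
    obtain ⟨T, hT1, -, hT⟩ := shear_col hc ha
      (M := cT σ (A : Matrix (Fin m) (Fin m) F) * M * (A : Matrix (Fin m) (Fin m) F)) _ rfl
      (by
        rw [← Matrix.mulVec_mulVec, hA, ← Matrix.mulVec_mulVec]
        have hak : ∀ k, a k = (A : Matrix (Fin m) (Fin m) F) k 0 := fun k => by
          rw [← hA, Matrix.mulVec_single_one]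
          rfl
        simp only [Matrix.mulVec, dotProduct, cT_apply, Function.comp_apply, hak]) (w := w) hw
    exact ⟨_, htrans _ (htrans M hM A) (Matrix.GeneralLinearGroup.mkOfDetNeZero T (by rw [hT1]; exact one_ne_zero)), hT⟩
  obtain ⟨a₀, ha₀⟩ := exists_value_ne_zero hc hB h0
  set c := (σ ∘ a₀) ⬝ᵥ B *ᵥ a₀ with hcdef
  have hcfix : σ c = c := value_fixed hc hB a₀
  obtain ⟨M, hMO, hMcol⟩ := hsec B hmem a₀ ha₀ (Pi.single 0 c) (by simp; rfl)
  have hMherm := hherm M hMO
  have hMi0 : ∀ i, M i 0 = (Pi.single (0 : Fin m) c : Fin m → F) i := fun i => by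
    have := congrFun hMcol i
    simpa [Matrix.mulVec_single_one] using this
  have hM0i : ∀ i, M 0 i = (Pi.single (0 : Fin m) c : Fin m → F) i := fun i => by
    rw [← hMherm, cT_apply, hMi0 i]
    by_cases h : i = 0
    · subst h; simp [hcfix]
    · simp [Pi.single_eq_of_ne h]
  have hcardV : Fintype.card (Fin m → F) = q ^ (2 * m) := by simp [hF, ← pow_mul]
  by_cases hrank : M = c • vecMulVec (Pi.single (0 : Fin m) 1) (σ ∘ Pi.single (0 : Fin m) 1)
  · let W := Finset.univ.filter fun w : Fin m → F => w ≠ 0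
    have hW : W.card = q ^ (2 * m) - 1 := by
      simp only [W, Finset.filter_ne', Finset.card_erase_of_mem (Finset.mem_univ _), Finset.card_univ,
        hcardV]
    have hker := (frob_cards hF hσ hc).2
    have hc0 : c ≠ 0 := ha₀
    have hle := Finset.card_le_mul_card_image
      (f := fun w : Fin m → F => c • vecMulVec w (σ ∘ w)) W (q + 1) fun M hM => by
        obtain ⟨w₀, hw₀, rfl⟩ := Finset.mem_image.1 hM
        obtain ⟨i, hi⟩ := Function.ne_iff.1 (Finset.mem_filter.1 hw₀).2
        have hi' : w₀ i ≠ 0 := hi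
        have hσi : σ (w₀ i) ≠ 0 := (map_ne_zero σ).2 hi'
        refine le_trans ?_ (hker.le)
        rw [Nat.card_eq_fintype_card]
        have key : ∀ w : Fin m → F, c • vecMulVec w (σ ∘ w) = c • vecMulVec w₀ (σ ∘ w₀) →
            ∃ z : (normHom σ).ker, w = ((z : Fˣ) : F) • w₀ := by
          intro w hw
          have hij : ∀ a b, w a * σ (w b) = w₀ a * σ (w₀ b) := fun a b => by
            simpa [vecMulVec_apply] using congrFun (congrFun (smul_right_injective _ hc0 hw) a) b
          have hwi : w i ≠ 0 := fun e => by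
            have := hij i i
            rw [e, zero_mul] at this
            exact mul_ne_zero hi' hσi this.symm
          have hσw : σ (w i) ≠ 0 := (map_ne_zero σ).2 hwi
          refine ⟨⟨Units.mk0 (w i / w₀ i) (div_ne_zero hwi hi'), MonoidHom.mem_ker.2 (Units.ext ?_)⟩, ?_⟩
          · rw [CfsgLib.Classical.normHom_apply]
            simp only [Units.val_mk0, Units.val_one, map_div₀]
            rw [div_mul_div_comm, hij, div_self (mul_ne_zero hi' hσi)]
          · funext a
            simp only [Units.val_mk0, Pi.smul_apply, smul_eq_mul]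
            refine mul_right_cancel₀ hσw ?_
            rw [hij a i]
            field_simp
            linear_combination (w₀ a) * (hij i i).symm
        refine (Finset.card_le_card (t := Finset.univ.image fun z : (normHom σ).ker => ((z : Fˣ) : F) • w₀)
          fun w hw => ?_).trans Finset.card_image_le
        obtain ⟨z, hz⟩ := key w (Finset.mem_filter.1 hw).2
        exact Finset.mem_image.2 ⟨z, Finset.mem_univ _, hz.symm⟩
    have hsub : (↑(W.image fun w : Fin m → F => c • vecMulVec w (σ ∘ w)) : Set _) ⊆ O := by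
      intro M' hM'
      obtain ⟨w, hw, rfl⟩ := Finset.mem_image.1 hM'
      obtain ⟨G, hG⟩ := exists_gl_col (0 : Fin m) (Finset.mem_filter.1 hw).2
      let A : GL (Fin m) F := ⟨cT σ (G : Matrix (Fin m) (Fin m) F), cT σ ((G⁻¹ : GL (Fin m) F) : Matrix (Fin m) (Fin m) F),
        by rw [← cT_mul, ← Units.val_mul, inv_mul_cancel, Units.val_one, cT_one],
        by rw [← cT_mul, ← Units.val_mul, mul_inv_cancel, Units.val_one, cT_one]⟩
      have h1 := htrans M hMO A
      rw [hrank, Matrix.mul_smul, Matrix.smul_mul, Matrix.mul_vecMulVec, Matrix.vecMulVec_mul] at h1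
      convert h1 using 3
      · show w = cT σ (cT σ (G : Matrix (Fin m) (Fin m) F)) *ᵥ Pi.single 0 1
        rw [cT_cT hc, hG]
      · funext j
        show σ (w j) = ((σ ∘ Pi.single (0 : Fin m) 1) ᵥ* (cT σ (G : Matrix (Fin m) (Fin m) F))) j
        rw [← hG, cT_mulVec, cT, Matrix.vecMul_transpose]
    have h3 := Set.ncard_le_ncard hsub (Set.toFinite _)
    rw [Set.ncard_coe_finset] at h3
    rw [Nat.div_le_iff_le_mul_add_pred (by omega)]
    calc q ^ (2 * m) - 1 = W.card := hW.symm
      _ ≤ (q + 1) * O.ncard := hle.trans (Nat.mul_le_mul_left _ h3)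
      _ ≤ _ := Nat.le_add_right _ _
  · -- an isotropic vector which is not in the radical
    have hc0 : c ≠ 0 := ha₀
    set M'' := M - Matrix.single 0 0 c with hM''
    have hM''0 : ∀ i, M'' i 0 = 0 ∧ M'' 0 i = 0 := fun i => by
      rw [hM'', Matrix.sub_apply, Matrix.sub_apply, hMi0, hM0i]
      by_cases h : i = 0
      · subst h; simp
      · simp [Pi.single_eq_of_ne h, Matrix.single_apply, Ne.symm h]
    have hM''h : cT σ M'' = M'' := by
      ext i j
      rw [cT_apply, hM'', Matrix.sub_apply, Matrix.sub_apply, map_sub, ← cT_apply (σ := σ) M i j, hMherm]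
      congr 1
      by_cases h : i = 0 ∧ j = 0
      · obtain ⟨rfl, rfl⟩ := h; simp [hcfix]
      · rw [Matrix.single_apply, if_neg (fun e => h ⟨e.2.symm, e.1.symm⟩), map_zero, Matrix.single_apply,
          if_neg (fun e => h ⟨e.1.symm, e.2.symm⟩)]
    have hM''ne : M'' ≠ 0 := fun e => hrank (by
      rw [sub_eq_zero.1 e]
      ext i j
      simp only [Matrix.smul_apply, vecMulVec_apply, Function.comp_apply, smul_eq_mul, Matrix.single_apply,
        Pi.single_apply, apply_ite σ, map_one, map_zero]
      by_cases hi : i = 0 <;> by_cases hj : j = 0 <;> simp [hi, hj, eq_comm])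
    obtain ⟨b, hb⟩ := exists_value_ne_zero hc hM''h hM''ne
    set e := (σ ∘ b) ⬝ᵥ M'' *ᵥ b with hedef
    obtain ⟨x, hx⟩ := hc.exists_norm_eq (a := -e / c) (by
      rw [map_div₀, map_neg, hcfix, hedef, value_fixed hc hM''h b])
    set a := Function.update b 0 x with hadef
    have hMa : ∀ i, (M *ᵥ a) i = (M'' *ᵥ b) i + (Pi.single (0 : Fin m) (c * x) : Fin m → F) i := by
      intro i
      have h1 : M = M'' + Matrix.single 0 0 c := by rw [hM'', sub_add_cancel]
      rw [h1, Matrix.add_mulVec, Pi.add_apply]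
      congr 1
      · simp only [Matrix.mulVec, dotProduct]
        refine Finset.sum_congr rfl fun k _ => ?_
        by_cases hk : k = 0
        · subst hk; simp [(hM''0 i).1]
        · rw [hadef, Function.update_of_ne hk]
      · simp only [Matrix.mulVec, dotProduct, Matrix.single_apply, ite_mul, zero_mul]
        by_cases hi : i = 0
        · subst hi
          simp [hadef]
        · simp [Ne.symm hi, hi, Pi.single_eq_of_ne hi]
    have hb0 : (M'' *ᵥ b) 0 = 0 := by simp [Matrix.mulVec, dotProduct, (hM''0 _).2]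
    have hval : (σ ∘ a) ⬝ᵥ M *ᵥ a = 0 := by
      have h1 : (σ ∘ a) ⬝ᵥ M *ᵥ a = e + σ x * (c * x) := by
        rw [funext hMa]
        show (σ ∘ a) ⬝ᵥ ((M'' *ᵥ b) + Pi.single (0 : Fin m) (c * x)) = _
        rw [dotProduct_add, dotProduct_single, hedef]
        congr 1
        · simp only [dotProduct]
          refine Finset.sum_congr rfl fun k _ => ?_
          by_cases hk : k = 0
          · subst hk; rw [hb0]; simp
          · simp [hadef, Function.update_of_ne hk]
      rw [h1, show σ x * (c * x) = c * (x * σ x) by ring, hx, mul_div_cancel₀ _ hc0]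
      ring
    have hx0 : x ≠ 0 := fun h => hb (by
      rw [h, zero_mul] at hx
      simpa [hc0] using hx.symm)
    have hMane : M *ᵥ a ≠ 0 := fun h => by
      have := hMa 0
      rw [h, hb0] at this
      simp [hc0, hx0] at this
    have hane : a ≠ 0 := fun h => hMane (by rw [h, Matrix.mulVec_zero])
    obtain ⟨A, hA⟩ := exists_gl_col (0 : Fin m) hane
    set N := cT σ (A : Matrix (Fin m) (Fin m) F) * M * (A : Matrix (Fin m) (Fin m) F) with hN
    set u := N *ᵥ Pi.single 0 1 with hu
    have hu' : u = cT σ (A : Matrix (Fin m) (Fin m) F) *ᵥ (M *ᵥ a) := by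
      rw [hu, hN, ← Matrix.mulVec_mulVec, hA, ← Matrix.mulVec_mulVec]
    have hu0 : u 0 = 0 := by
      rw [hu', ← hval]
      have hak : ∀ k, a k = (A : Matrix (Fin m) (Fin m) F) k 0 := fun k => by
        rw [← hA, Matrix.mulVec_single_one]; rfl
      simp only [Matrix.mulVec, dotProduct, cT_apply, Function.comp_apply, hak]
    have hune : u ≠ 0 := fun h => hMane (by
      have h2 : cT σ ((A⁻¹ : GL (Fin m) F) : Matrix (Fin m) (Fin m) F) *ᵥ u = M *ᵥ a := by
        rw [hu', Matrix.mulVec_mulVec, ← cT_mul, ← Units.val_mul, mul_inv_cancel, Units.val_one, cT_one,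
          Matrix.one_mulVec]
      rw [← h2, h, Matrix.mulVec_zero])
    let W := (Finset.univ.filter fun w : Fin m → F => σ (w 0) = w 0).erase 0
    have hW : q * (q ^ 2) ^ (m - 1) - 1 ≤ W.card := by
      have h0mem : (0 : Fin m → F) ∈ Finset.univ.filter fun w : Fin m → F => σ (w 0) = w 0 := by simp
      rw [show W.card = (Finset.univ.filter fun w : Fin m → F => σ (w 0) = w 0).card - 1 from
        Finset.card_erase_of_mem h0mem]
      refine Nat.sub_le_sub_right ?_ 1
      have e : (Finset.univ.filter fun w : Fin m → F => σ (w 0) = w 0) = Fintype.piFinset (fun i : Fin m =>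
          if i = 0 then Finset.univ.filter (fun x : F => σ x = x) else Finset.univ) := by
        ext w
        simp only [Finset.mem_filter, Finset.mem_univ, true_and, Fintype.mem_piFinset]
        constructor
        · intro hw i
          split_ifs with hi
          · subst hi; simp [hw]
          · simp
        · intro hw
          simpa using hw 0
      rw [e, Fintype.card_piFinset, ← Finset.mul_prod_erase _ _ (Finset.mem_univ (0 : Fin m)),
        if_pos rfl, Finset.prod_congr rfl (fun i hi => by rw [if_neg (Finset.ne_of_mem_erase hi)])]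
      simp only [Finset.prod_const, Finset.card_univ, Finset.card_erase_of_mem (Finset.mem_univ _),
        Fintype.card_fin, hF]
      refine Nat.mul_le_mul_right _ ?_
      have hsub : insert (0 : F) ((Finset.univ : Finset (fixedUnits σ)).image fun v : fixedUnits σ => ((v : Fˣ) : F)) ⊆
          Finset.univ.filter fun y : F => σ y = y := by
        intro y hy
        rcases Finset.mem_insert.1 hy with rfl | hy
        · simp
        · obtain ⟨v, -, rfl⟩ := Finset.mem_image.1 hy
          exact Finset.mem_filter.2 ⟨Finset.mem_univ _, v.2⟩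
      refine le_trans ?_ (Finset.card_le_card hsub)
      have hinj : Function.Injective fun v : fixedUnits σ => ((v : Fˣ) : F) :=
        Units.val_injective.comp Subtype.val_injective
      rw [Finset.card_insert_of_notMem (by simp), Finset.card_image_of_injective _ hinj, Finset.card_univ,
        ← Nat.card_eq_fintype_card, (frob_cards hF hσ hc).1]
      omega
    have hall : ∀ w ∈ W, ∃ M' ∈ O, M' *ᵥ Pi.single 0 1 = w := by
      intro w hw
      obtain ⟨hwne, hw'⟩ := Finset.mem_erase.1 hw
      have hwfix : σ (w 0) = w 0 := (Finset.mem_filter.1 hw').2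
      by_cases hw0 : w 0 = 0
      · obtain ⟨G, hGrow, hGu⟩ := exists_fix_row hu0 hw0 hune hwne
        let T : GL (Fin m) F := ⟨cT σ (G : Matrix (Fin m) (Fin m) F), cT σ ((G⁻¹ : GL (Fin m) F) : Matrix (Fin m) (Fin m) F),
          by rw [← cT_mul, ← Units.val_mul, inv_mul_cancel, Units.val_one, cT_one],
          by rw [← cT_mul, ← Units.val_mul, mul_inv_cancel, Units.val_one, cT_one]⟩
        refine ⟨_, htrans N (htrans M hMO A) T, ?_⟩
        show (cT σ (cT σ (G : Matrix (Fin m) (Fin m) F)) * N * cT σ (G : Matrix (Fin m) (Fin m) F)) *ᵥ Pi.single 0 1 = w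
        rw [cT_cT hc, ← Matrix.mulVec_mulVec, show cT σ (G : Matrix (Fin m) (Fin m) F) *ᵥ Pi.single 0 1 = Pi.single 0 1 by
          funext i
          simp only [Matrix.mulVec_single_one, Matrix.col_apply, cT_apply, hGrow i]
          by_cases hi : i = 0
          · subst hi; simp
          · simp [Pi.single_eq_of_ne hi, Matrix.one_apply_ne (Ne.symm hi)],
          ← Matrix.mulVec_mulVec, ← hu]
        exact hGu
      · obtain ⟨l, hl⟩ := hc.exists_norm_eq (a := w 0 / c) (by rw [map_div₀, hwfix, hcfix])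
        have hv : (σ ∘ (Pi.single (0 : Fin m) l)) ⬝ᵥ M *ᵥ Pi.single (0 : Fin m) l = w 0 := by
          have e1 : σ ∘ (Pi.single (0 : Fin m) l : Fin m → F) = Pi.single 0 (σ l) := by
            funext k; by_cases hk : k = 0 <;> simp [Pi.single_apply, hk]
          rw [e1, single_dotProduct]
          have e2 : (M *ᵥ Pi.single (0 : Fin m) l) 0 = c * l := by simp [hMi0]
          rw [e2, show σ l * (c * l) = c * (l * σ l) by ring, hl, mul_div_cancel₀ _ hc0]
        exact hsec M hMO _ (by rw [hv]; exact hw0) w hv.symm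
    choose! f hf hfw using hall
    have h3 : W.card ≤ O.ncard := by
      rw [← Finset.card_image_of_injOn (f := f) (fun w hw w' hw' h => by rw [← hfw w hw, ← hfw w' hw', h]),
        ← Set.ncard_coe_finset]
      refine Set.ncard_le_ncard ?_ (Set.toFinite _)
      intro y hy
      obtain ⟨w, hw, rfl⟩ := Finset.mem_image.1 hy
      exact hf w hw
    refine le_trans ?_ (hW.trans h3)
    obtain ⟨r, rfl⟩ : ∃ r, m = r + 1 := ⟨m - 1, by have := NeZero.ne m; omega⟩
    simp only [Nat.add_sub_cancel]
    rw [Nat.div_le_iff_le_mul_add_pred (by omega), show q ^ (2 * (r + 1)) = q * (q * (q ^ 2) ^ r) by ring]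
    set X := q * (q ^ 2) ^ r
    have hX : q ≤ X := Nat.le_mul_of_pos_right _ (by positivity)
    have h4 : q * X ≤ (q + 1) * (X - 1) + (q + 1) := by
      rw [← Nat.mul_succ, Nat.succ_eq_add_one, Nat.sub_add_cancel (by omega)]
      exact Nat.mul_le_mul_right _ (by omega)
    omega

end CfsgLib.MinDeg
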