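import Mathlib

/-!
# Orbits of quadratic forms in characteristic two

A quadratic form on `F ^ n`, `|F| = q` even, with non-zero polar form has at least
`(q ^ n - 1) (q ^ n - q) / (2 (q + 1))` images under linear substitutions.
-/

set_option autoImplicit false
set_option linter.unusedSectionVars false

open Matrix

namespace CfsgLib.MinDeg.QuadOrbit

variable {F : Type*} [Field F] {V : Type*} [AddCommGroup V] [Module F V]

/-- A quadratic form and its polar form, as functions. -/
structure QF (F V : Type*) [Field F] [AddCommGroup V] [Module F V] where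
  Q : V → F
  P : V → V → F
  smul : ∀ (s : F) x, Q (s • x) = s ^ 2 * Q x
  add : ∀ x y, Q (x + y) = Q x + Q y + P x y
  addP : ∀ x y z, P (x + y) z = P x z + P y z
  smulP : ∀ (s : F) x z, P (s • x) z = s * P x z

namespace QF

variable (f : QF F V)

theorem comm (x y : V) : f.P x y = f.P y x := by
  have h := f.add x y
  rw [add_comm x y, f.add y x] at h
  linear_combination -h

theorem addP' (x y z : V) : f.P x (y + z) = f.P x y + f.P x z := by
  rw [f.comm, f.addP, f.comm y, f.comm z]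

theorem smulP' (s : F) (x z : V) : f.P x (s • z) = s * f.P x z := by
  rw [f.comm, f.smulP, f.comm z]

/-- The linear functional `P x`. -/
def dual (x : V) : V →ₗ[F] F where
  toFun := f.P x
  map_add' := f.addP' x
  map_smul' := fun s z => f.smulP' s x z

theorem zero : f.Q 0 = 0 := by
  have := f.smul 0 0
  simpa using this

theorem alt [CharP F 2] (x : V) : f.P x x = 0 := by
  have h := f.add x x
  have h2 : (x + x) = (0 : F) • x := by
    rw [← two_smul F x, show (2 : F) = 0 from CharTwo.two_eq_zero]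
  rw [h2, f.smul, CharTwo.add_self_eq_zero] at h
  linear_combination -h

end QF

section Surj

variable [FiniteDimensional F V]

/-- Surjections onto the same space differ by an automorphism. -/
theorem exists_equiv_comp {U : Type*} [AddCommGroup U] [Module F U] (L L' : V →ₗ[F] U)
    (hL : Function.Surjective L) (hL' : Function.Surjective L') :
    ∃ e : V ≃ₗ[F] V, ∀ x, L (e x) = L' x := by
  obtain ⟨s, hs⟩ := L.exists_rightInverse_of_surjective (LinearMap.range_eq_top.2 hL)
  obtain ⟨s', hs'⟩ := L'.exists_rightInverse_of_surjective (LinearMap.range_eq_top.2 hL')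
  have hs1 : ∀ y, L (s y) = y := fun y => LinearMap.congr_fun hs y
  have hs1' : ∀ y, L' (s' y) = y := fun y => LinearMap.congr_fun hs' y
  have hd : Module.finrank F (LinearMap.ker L') = Module.finrank F (LinearMap.ker L) := by
    have h1 := L.finrank_range_add_finrank_ker
    have h2 := L'.finrank_range_add_finrank_ker
    rw [LinearMap.range_eq_top.2 hL, finrank_top] at h1
    rw [LinearMap.range_eq_top.2 hL', finrank_top] at h2
    omega
  let ψ : LinearMap.ker L' ≃ₗ[F] LinearMap.ker L := LinearEquiv.ofFinrankEq _ _ hd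
  let π : V →ₗ[F] LinearMap.ker L' := LinearMap.codRestrict (LinearMap.ker L') (LinearMap.id - s'.comp L')
    fun x => by simp [hs1']
  let e : V →ₗ[F] V := (LinearMap.ker L).subtype.comp (ψ.toLinearMap.comp π) + s.comp L'
  have he : ∀ x, L (e x) = L' x := fun x => by
    show L ((ψ (π x) : V) + s (L' x)) = _
    rw [map_add, (ψ (π x)).2, hs1, zero_add]
  have hinj : Function.Injective e := by
    rw [injective_iff_map_eq_zero]
    intro x hx
    have h1 : L' x = 0 := by rw [← he x, hx, map_zero]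
    have h2 : ((ψ (π x) : LinearMap.ker L) : V) = 0 := by
      have h3 : ((ψ (π x) : V) + s (L' x)) = 0 := hx
      rwa [h1, map_zero, add_zero] at h3
    have h4 : π x = 0 := ψ.injective (by rw [map_zero]; exact Subtype.ext h2)
    have h5 : x - s' (L' x) = 0 := congrArg Subtype.val h4
    rwa [h1, map_zero, sub_zero] at h5
  exact ⟨LinearEquiv.ofInjectiveEndo e hinj, he⟩

/-- A functional being one on a vector and non-zero on another. -/
theorem exists_dual_one {x y : V} (hx : x ≠ 0) (hy : y ≠ 0) :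
    ∃ h : V →ₗ[F] F, h x = 1 ∧ h y ≠ 0 := by
  obtain ⟨φ, hφ⟩ := Module.Projective.exists_dual_ne_zero F hx
  obtain ⟨φ', hφ'⟩ := Module.Projective.exists_dual_ne_zero F hy
  obtain ⟨g, hgx, hgy⟩ : ∃ g : V →ₗ[F] F, g x ≠ 0 ∧ g y ≠ 0 := by
    by_cases h1 : φ y = 0
    · by_cases h2 : φ' x = 0
      · exact ⟨φ + φ', by simpa [h2] using hφ, by simpa [h1] using hφ'⟩
      · exact ⟨φ', h2, hφ'⟩
    · exact ⟨φ, hφ, h1⟩
  exact ⟨(g x)⁻¹ • g, by simp [inv_mul_cancel₀ hgx], by simp [inv_ne_zero hgx, hgy]⟩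

/-- An automorphism carrying one functional to another and a vector of one kernel to one of the other. -/
theorem exists_equiv_vec (g g' : V →ₗ[F] F) {x x' : V} (hx : g x = 0) (hx' : g' x' = 0)
    (hx0 : x ≠ 0) (hx0' : x' ≠ 0) (hg : g ≠ 0) (hg' : g' ≠ 0) :
    ∃ e : V ≃ₗ[F] V, (∀ v, g (e v) = g' v) ∧ e x' = x := by
  obtain ⟨e₀, he₀⟩ := exists_equiv_comp g g' (LinearMap.surjective_of_ne_zero hg)
    (LinearMap.surjective_of_ne_zero hg')
  set y := e₀ x' with hy
  have hy0 : y ≠ 0 := fun h => hx0' (e₀.injective (h.trans (map_zero _).symm))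
  obtain ⟨h, hh1, hh2⟩ := exists_dual_one (F := F) hy0 hx0
  let τ : V →ₗ[F] V := LinearMap.id + h.smulRight (x - y)
  have hτ : Function.Injective τ := by
    rw [injective_iff_map_eq_zero]
    intro v hv
    have h1 : v + h v • (x - y) = 0 := hv
    have h2 : h v * h x = 0 := by
      have h3 := congrArg h h1
      rw [map_add, map_smul, map_sub, hh1, map_zero, smul_eq_mul] at h3
      linear_combination h3
    rcases mul_eq_zero.1 h2 with h3 | h3
    · rwa [h3, zero_smul, add_zero] at h1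
    · exact absurd h3 hh2
  have hgy : g y = 0 := by rw [hy, he₀, hx']
  refine ⟨e₀.trans (LinearEquiv.ofInjectiveEndo τ hτ), fun v => ?_, ?_⟩
  · show g (e₀ v + h (e₀ v) • (x - y)) = g' v
    rw [map_add, map_smul, map_sub, hx, hgy, sub_self, smul_zero, add_zero, he₀]
  · show y + h y • (x - y) = x
    rw [hh1, one_smul, add_sub_cancel]

end Surj

variable [Fintype F] [CharP F 2] {n : ℕ}

theorem exists_sqrt (a : F) : ∃ b : F, b ^ 2 = a :=
  ⟨(frobeniusEquiv F 2).symm a, frobeniusEquiv_symm_pow_p F 2 a⟩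

theorem sq_inj {a b : F} (h : a ^ 2 = b ^ 2) : a = b := frobenius_inj F 2 h

/-- The fibres of the anisotropic plane form. -/
theorem card_plane_fibre {A B : F} (hB : ∀ y : F × F, y.1 ^ 2 * A + y.1 * y.2 + y.2 ^ 2 * B = 0 → y = 0)
    (α : F) (hα : α ≠ 0) :
    Nat.card {y : F × F // y.1 ^ 2 * A + y.1 * y.2 + y.2 ^ 2 * B = α} ≤ Fintype.card F + 1 := by
  classical
  have hinj : Function.Injective (fun p : Fˣ × {y : F × F // y.1 ^ 2 * A + y.1 * y.2 + y.2 ^ 2 * B = α} =>
      (⟨((p.1 : F) • p.2.1), fun h => hα (by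
        rw [← p.2.2]
        have : p.2.1 = 0 := by
          rcases smul_eq_zero.1 h with h | h
          · exact absurd h p.1.ne_zero
          · exact h
        rw [this]; simp)⟩ : {y : F × F // y ≠ 0})) := by
    rintro ⟨t, y, hy⟩ ⟨t', y', hy'⟩ h
    have h1 : (t : F) • y = (t' : F) • y' := congrArg Subtype.val h
    have ha := congrArg Prod.fst h1
    have hb := congrArg Prod.snd h1
    simp only [Prod.smul_fst, Prod.smul_snd, smul_eq_mul] at ha hb
    have h2 : (t : F) ^ 2 * α = (t' : F) ^ 2 * α := by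
      conv_lhs => rw [← hy]
      conv_rhs => rw [← hy']
      linear_combination (((t : F) * y.1 + (t' : F) * y'.1) * A + (t : F) * y.2) * ha +
        ((t' : F) * y'.1 + ((t : F) * y.2 + (t' : F) * y'.2) * B) * hb
    have h3 : t = t' := Units.ext (sq_inj (mul_right_cancel₀ hα h2))
    subst h3
    simp only [Prod.mk.injEq, true_and]
    exact Subtype.ext (smul_right_injective _ t.ne_zero h1)
  have h := Nat.card_le_card_of_injective _ hinj
  rw [Nat.card_prod, Nat.card_units, Nat.card_eq_fintype_card (α := F)] at h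
  have h2 : Nat.card {y : F × F // y ≠ 0} = Fintype.card F * Fintype.card F - 1 := by
    simp [Nat.card_eq_fintype_card, Fintype.card_subtype_compl, Fintype.card_subtype_eq]
  rw [h2] at h
  have hq : 2 ≤ Fintype.card F := Fintype.one_lt_card
  by_contra hlt
  have h3 := Nat.mul_le_mul_left (Fintype.card F - 1) (Nat.succ_le_iff.2 (not_le.1 hlt))
  obtain ⟨s, hs⟩ : ∃ s, Fintype.card F = s + 2 := ⟨Fintype.card F - 2, by omega⟩
  rw [hs] at h h3
  simp only [Nat.succ_eq_add_one, show s + 2 - 1 = s + 1 from rfl] at h h3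
  nlinarith [Nat.sub_add_cancel (show 1 ≤ (s + 2) * (s + 2) by nlinarith)]

/-- At most two vectors of prescribed value pair to one with a given vector. -/
theorem card_partner_le {A B : F} (hB : ∀ y : F × F, y.1 ^ 2 * A + y.1 * y.2 + y.2 ^ 2 * B = 0 → y = 0)
    (y : F × F) (hy : y ≠ 0) (β : F) :
    Nat.card {z : F × F // z.1 ^ 2 * A + z.1 * z.2 + z.2 ^ 2 * B = β ∧ y.1 * z.2 + y.2 * z.1 = 1} ≤ 2 := by
  classical
  set S := {z : F × F // z.1 ^ 2 * A + z.1 * z.2 + z.2 ^ 2 * B = β ∧ y.1 * z.2 + y.2 * z.1 = 1}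
  rcases isEmpty_or_nonempty S with h | ⟨⟨z₀, hz₀⟩⟩
  · simp
  have hη : y.1 ^ 2 * A + y.1 * y.2 + y.2 ^ 2 * B ≠ 0 := fun h => hy (hB y h)
  set η := y.1 ^ 2 * A + y.1 * y.2 + y.2 ^ 2 * B
  -- the difference with `z₀` is a multiple `t y` with `t ∈ {0, η⁻¹}`
  have key : ∀ z : S, ∃ t : F, z.1 = z₀ + t • y ∧ (t = 0 ∨ t = η⁻¹) := by
    rintro ⟨z, hz⟩
    have hd : y.1 * (z.2 - z₀.2) = y.2 * (z.1 - z₀.1) := by
      have h1 : y.1 * (z.2 - z₀.2) + y.2 * (z.1 - z₀.1) = 0 := by linear_combination hz.2 - hz₀.2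
      exact CharTwo.add_eq_zero.1 h1
    obtain ⟨t, ht⟩ : ∃ t : F, z = z₀ + t • y := by
      by_cases h1 : y.1 = 0
      · have h2 : y.2 ≠ 0 := fun h2 => hy (Prod.ext h1 h2)
        refine ⟨(z.2 - z₀.2) / y.2, Prod.ext ?_ ?_⟩
        · rw [h1, zero_mul] at hd
          simp [h1, sub_eq_zero.1 ((mul_eq_zero.1 hd.symm).resolve_left h2)]
        · simp [div_mul_cancel₀ _ h2]
      · refine ⟨(z.1 - z₀.1) / y.1, Prod.ext ?_ ?_⟩
        · simp [div_mul_cancel₀ _ h1]
        · simp only [Prod.snd_add, Prod.smul_snd, smul_eq_mul]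
          field_simp
          linear_combination hd
    refine ⟨t, ht, ?_⟩
    subst ht
    simp only [Prod.fst_add, Prod.snd_add, Prod.smul_fst, Prod.smul_snd, smul_eq_mul] at hz
    have h2 : t * (t * η + 1) = 0 := by
      linear_combination hz.1 - hz₀.1 - t * hz₀.2 -
        (t * A * y.1 * z₀.1 + t * B * y.2 * z₀.2) * (CharTwo.two_eq_zero (R := F))
    rcases mul_eq_zero.1 h2 with h3 | h3
    · exact Or.inl h3
    · refine Or.inr (eq_inv_of_mul_eq_one_left ?_)
      rw [CharTwo.add_eq_zero.1 h3]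
  choose t ht ht' using key
  refine (Nat.card_le_card_of_injective (fun z : S => decide (t z = 0)) fun z z' h => ?_).trans (by simp)
  apply Subtype.ext
  rw [ht z, ht z']
  have hne : η⁻¹ ≠ 0 := inv_ne_zero hη
  rcases ht' z with h1 | h1 <;> rcases ht' z' with h2 | h2 <;> simp [h1, h2, hne] at h ⊢

variable [DecidableEq F]

/-- The orbit of a quadratic form. -/
def orb (f : QF F (Fin n → F)) : Set ((Fin n → F) → F) :=
  {Q' | ∃ e : (Fin n → F) ≃ₗ[F] (Fin n → F), ∀ x, Q' x = f.Q (e x)}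

theorem orb_elliptic (f : QF F (Fin n → F)) {a b : Fin n → F} (hab : f.P a b = 1)
    (hno : ∀ c, f.Q c = 0 → ∀ d, f.P c d = 0) :
    (Fintype.card F ^ n - 1) * (Fintype.card F ^ n - Fintype.card F) ≤
      2 * (Fintype.card F + 1) * (orb f).ncard := by
  classical
  set q0 : F × F → F := fun y => y.1 ^ 2 * f.Q a + y.1 * y.2 + y.2 ^ 2 * f.Q b with hq0
  have hQab : ∀ y : F × F, f.Q (y.1 • a + y.2 • b) = q0 y := fun y => by
    rw [f.add, f.smul, f.smul, f.smulP, f.smulP', hab, hq0]
    ring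
  have hPa : ∀ y : F × F, f.P (y.1 • a + y.2 • b) a = y.2 ∧ f.P (y.1 • a + y.2 • b) b = y.1 := fun y => by
    constructor
    · rw [f.addP, f.smulP, f.smulP, f.alt, f.comm b a, hab]; ring
    · rw [f.addP, f.smulP, f.smulP, f.alt, hab]; ring
  have hB : ∀ y : F × F, y.1 ^ 2 * f.Q a + y.1 * y.2 + y.2 ^ 2 * f.Q b = 0 → y = 0 := by
    intro y hy
    have h0 := hno _ ((hQab y).trans hy)
    exact Prod.ext ((hPa y).2.symm.trans (h0 b)) ((hPa y).1.symm.trans (h0 a))
  have hQa : f.Q a ≠ 0 := fun h => by simpa using hB (1, 0) (by simp [h])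
  -- the radical part
  have hR : ∀ r, f.P r a = 0 → f.P r b = 0 → f.Q r = 0 := by
    intro r ha hb
    by_contra hr
    obtain ⟨s, hs⟩ := exists_sqrt (f.Q r / f.Q a)
    have hc : f.Q (s • a + r) = 0 := by
      rw [f.add, f.smul, f.smulP, f.comm a r, ha, hs, div_mul_cancel₀ _ hQa, mul_zero, add_zero,
        CharTwo.add_self_eq_zero]
    have h1 := hno _ hc b
    rw [f.addP, f.smulP, hab, hb, add_zero, mul_one] at h1
    rw [h1] at hs
    exact hr (by simpa [hQa] using hs.symm)
  let L : (Fin n → F) →ₗ[F] F × F := (f.dual b).prod (f.dual a)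
  have hLab : ∀ y : F × F, L (y.1 • a + y.2 • b) = y := fun y =>
    Prod.ext (by show f.P b _ = _; rw [f.comm]; exact (hPa y).2)
      (by show f.P a _ = _; rw [f.comm]; exact (hPa y).1)
  have hQ : ∀ v, f.Q v = q0 (L v) := by
    intro v
    set w := (L v).1 • a + (L v).2 • b with hw
    have hPw : f.P w a = f.P v a ∧ f.P w b = f.P v b := ⟨(hPa _).1.trans (f.comm a v), (hPa _).2.trans (f.comm b v)⟩
    set r := v + w with hr
    have hra : f.P r a = 0 := by rw [hr, f.addP, hPw.1, CharTwo.add_self_eq_zero]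
    have hrb : f.P r b = 0 := by rw [hr, f.addP, hPw.2, CharTwo.add_self_eq_zero]
    have hv : v = w + r := by
      rw [hr, add_left_comm, ← two_smul F w, show (2 : F) = 0 from CharTwo.two_eq_zero, zero_smul, add_zero]
    conv_lhs => rw [hv]
    rw [f.add, hQab, hR r hra hrb, add_zero, show f.P w r = 0 by
      rw [hw, f.addP, f.smulP, f.smulP, f.comm a r, f.comm b r, hra, hrb]; ring, add_zero]
  have hLs : Function.Surjective L := fun y => ⟨_, hLab y⟩
  -- independent pairs of functionals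
  let T := {u : Fin 2 → (Fin n → F) // LinearIndependent F u}
  let lin : T → ((Fin n → F) →ₗ[F] F × F) := fun u =>
    (dotProductBilin F F (u.1 0)).prod (dotProductBilin F F (u.1 1))
  have hlin_surj : ∀ u, Function.Surjective (lin u) := by
    intro u
    rw [← LinearMap.range_eq_top]
    by_contra hne
    obtain ⟨φ, hφ, hker⟩ := Submodule.exists_dual_map_eq_bot_of_lt_top (lt_top_iff_ne_top.2 hne) inferInstance
    have hx : ∀ x, φ (lin u x) = 0 := fun x => by
      have : φ (lin u x) ∈ (LinearMap.range (lin u)).map φ := Submodule.mem_map_of_mem ⟨x, rfl⟩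
      rwa [hker, Submodule.mem_bot] at this
    have hφ2 : ∀ y : F × F, φ y = y.1 * φ (1, 0) + y.2 * φ (0, 1) := fun y => by
      have : y = y.1 • ((1 : F), (0 : F)) + y.2 • ((0 : F), (1 : F)) := by ext <;> simp
      conv_lhs => rw [this, map_add, map_smul, map_smul]
      rfl
    have h0 : φ (1, 0) • u.1 0 + φ (0, 1) • u.1 1 = 0 := by
      funext i
      have := hx (Pi.single i 1)
      rw [hφ2] at this
      change (u.1 0 ⬝ᵥ Pi.single i 1) * φ (1, 0) + (u.1 1 ⬝ᵥ Pi.single i 1) * φ (0, 1) = 0 at this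
      simp only [dotProduct_single, mul_one] at this
      simp only [Pi.add_apply, Pi.smul_apply, smul_eq_mul, Pi.zero_apply]
      linear_combination this
    have h1 := Fintype.linearIndependent_iff.1 u.2 ![φ (1, 0), φ (0, 1)] (by simpa [Fin.sum_univ_two] using h0)
    refine hφ (LinearMap.ext fun y => ?_)
    rw [hφ2, show φ (1, 0) = 0 from h1 0, show φ (0, 1) = 0 from h1 1]
    simp
  let φT : T → orb f := fun u => ⟨fun x => q0 (lin u x), by
    obtain ⟨e, he⟩ := exists_equiv_comp L (lin u) hLs (hlin_surj u)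
    exact ⟨e, fun x => by rw [hQ, he]⟩⟩
  have hfib : ∀ O : orb f, Nat.card {u : T // φT u = O} ≤ 2 * (Fintype.card F + 1) := by
    intro O
    rcases isEmpty_or_nonempty {u : T // φT u = O} with h | ⟨⟨u₀, hu₀⟩⟩
    · simp
    obtain ⟨s, hs⟩ := (lin u₀).exists_rightInverse_of_surjective (LinearMap.range_eq_top.2 (hlin_surj u₀))
    have hs' : ∀ y, lin u₀ (s y) = y := fun y => LinearMap.congr_fun hs y
    have hsame : ∀ u : {u : T // φT u = O}, ∀ x, q0 (lin u.1 x) = q0 (lin u₀ x) := fun u x =>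
      congrFun (congrArg Subtype.val (u.2.trans hu₀.symm) :) x
    let T₁ := {y : F × F // q0 y = f.Q a}
    let T₂ := fun y : T₁ => {z : F × F // q0 z = f.Q b ∧ y.1.1 * z.2 + y.1.2 * z.1 = 1}
    have hq10 : q0 ((1 : F), (0 : F)) = f.Q a := by simp [hq0]
    have hq01 : q0 ((0 : F), (1 : F)) = f.Q b := by simp [hq0]
    have hq11 : q0 ((1 : F), (1 : F)) = f.Q a + 1 + f.Q b := by simp [hq0]
    let Ψ : {u : T // φT u = O} → (Σ y : T₁, T₂ y) := fun u =>
      ⟨⟨lin u.1 (s (1, 0)), by rw [hsame, hs', hq10]⟩, ⟨lin u.1 (s (0, 1)), by rw [hsame, hs', hq01], by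
        have h1 := hsame u (s (1, 1))
        have h11 : ((1 : F), (1 : F)) = (1, 0) + (0, 1) := by ext <;> simp
        have ha := (hsame u (s (1, 0))).trans ((congrArg q0 (hs' (1, 0))).trans hq10)
        have hb := (hsame u (s (0, 1))).trans ((congrArg q0 (hs' (0, 1))).trans hq01)
        rw [hs', hq11, h11, map_add, map_add] at h1
        simp only [hq0, Prod.fst_add, Prod.snd_add] at h1 ha hb
        linear_combination h1 - ha - hb - ((lin u.1 (s (1, 0))).1 * (lin u.1 (s (0, 1))).1 * f.Q a +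
          (lin u.1 (s (1, 0))).2 * (lin u.1 (s (0, 1))).2 * f.Q b) * (CharTwo.two_eq_zero (R := F))⟩⟩
    have hΨ : Function.Injective Ψ := by
      intro u u' h
      have h1 : lin u.1 (s (1, 0)) = lin u'.1 (s (1, 0)) := congrArg (fun p : Σ y : T₁, T₂ y => p.1.1) h
      have h2 : lin u.1 (s (0, 1)) = lin u'.1 (s (0, 1)) := congrArg (fun p : Σ y : T₁, T₂ y => p.2.1) h
      have hall : ∀ (v : {u : T // φT u = O}) (x : Fin n → F), lin v.1 x =
          (lin u₀ x).1 • lin v.1 (s (1, 0)) + (lin u₀ x).2 • lin v.1 (s (0, 1)) := by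
        intro v x
        have hk : lin u₀ (x - s (lin u₀ x)) = 0 := by rw [map_sub, hs', sub_self]
        have hv0 : lin v.1 (x - s (lin u₀ x)) = 0 :=
          hB _ ((hsame v _).trans (by rw [hk]; simp [hq0]))
        rw [map_sub, sub_eq_zero] at hv0
        rw [hv0, ← map_smul (lin v.1), ← map_smul (lin v.1), ← map_add, ← map_smul s, ← map_smul s, ← map_add]
        congr 2
        ext <;> simp
      refine Subtype.ext (Subtype.ext (funext fun i => funext fun j => ?_))
      have h3 : lin u.1 (Pi.single j 1) = lin u'.1 (Pi.single j 1) := by rw [hall u, hall u', h1, h2]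
      change ((u.1.1 0 ⬝ᵥ Pi.single j 1, u.1.1 1 ⬝ᵥ Pi.single j 1) : F × F) =
        (u'.1.1 0 ⬝ᵥ Pi.single j 1, u'.1.1 1 ⬝ᵥ Pi.single j 1) at h3
      simp only [dotProduct_single, mul_one, Prod.mk.injEq] at h3
      fin_cases i
      · exact h3.1
      · exact h3.2
    refine (Nat.card_le_card_of_injective Ψ hΨ).trans ?_
    rw [Nat.card_sigma]
    calc ∑ y : T₁, Nat.card (T₂ y) ≤ ∑ _y : T₁, 2 := Finset.sum_le_sum fun y _ =>
          card_partner_le hB y.1 (fun h => hQa (by rw [← y.2, h]; simp [hq0])) _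
      _ = 2 * Nat.card T₁ := by simp [Nat.card_eq_fintype_card, mul_comm]
      _ ≤ _ := Nat.mul_le_mul_left 2 (card_plane_fibre hB _ hQa)
  have hn2 : 2 ≤ n := by
    obtain ⟨s, hs⟩ := L.exists_rightInverse_of_surjective (LinearMap.range_eq_top.2 hLs)
    have h := L.finrank_range_add_finrank_ker
    rw [LinearMap.range_eq_top.2 hLs, finrank_top, Module.finrank_prod, Module.finrank_self,
      Module.finrank_fin_fun] at h
    omega
  have hT : Nat.card T = (Fintype.card F ^ n - 1) * (Fintype.card F ^ n - Fintype.card F) := by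
    rw [card_linearIndependent (K := F) (by rwa [Module.finrank_fin_fun])]
    simp [Fin.prod_univ_two]
  rw [← hT, ← Nat.card_coe_set_eq, mul_comm]
  haveI : Fintype (orb f) := Fintype.ofFinite _
  rw [Nat.card_congr (Equiv.sigmaFiberEquiv φT).symm, Nat.card_sigma]
  calc ∑ O : orb f, Nat.card {u : T // φT u = O} ≤ ∑ _O : orb f, 2 * (Fintype.card F + 1) :=
        Finset.sum_le_sum fun O _ => hfib O
    _ = _ := by simp [Nat.card_eq_fintype_card]

theorem orb_isotropic (f : QF F (Fin n → F)) {c d : Fin n → F} (hc : f.Q c = 0) (hcd : f.P c d = 1) :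
    (Fintype.card F ^ n - Fintype.card F) * Fintype.card F ^ (n - 1) ≤ 2 * (orb f).ncard := by
  classical
  rcases Nat.eq_zero_or_pos n with rfl | hn
  · have h2 : 2 ≤ Fintype.card F := Fintype.one_lt_card
    rw [pow_zero, Nat.sub_eq_zero_of_le (by omega), zero_mul]
    exact Nat.zero_le _
  haveI : NeZero n := ⟨by omega⟩
  set E0 : Fin n → F := Pi.single 0 1 with hE0
  have hE0ne : E0 ≠ 0 := by simp [hE0]
  let b := d + f.Q d • c
  have hbQ : f.Q b = 0 := by
    rw [f.add, f.smul, f.smulP', hc, f.comm d c, hcd, mul_zero, add_zero, mul_one, CharTwo.add_self_eq_zero]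
  have hcb : f.P c b = 1 := by rw [f.addP', f.smulP', f.alt, hcd, mul_zero, add_zero]
  -- prescribed value and polar row at `E0`
  have hstep : ∀ (α : F) (w : Fin n → F), w 0 = 0 → w ≠ 0 → ∃ e : (Fin n → F) ≃ₗ[F] (Fin n → F),
      f.Q (e E0) = α ∧ ∀ x, f.P (e E0) (e x) = w ⬝ᵥ x := by
    intro α w hw0 hw
    set c' := c + α • b with hc'
    have hQc' : f.Q c' = α := by rw [hc', f.add, f.smul, f.smulP', hc, hbQ, hcb]; ring
    have hc'b : f.P c' b = 1 := by rw [hc', f.addP, f.smulP, hcb, f.alt]; ring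
    have hc'0 : c' ≠ 0 := fun h => by
      have h1 := f.smulP (0 : F) c b
      rw [zero_smul, zero_mul, ← h, hc'b] at h1
      exact one_ne_zero h1
    obtain ⟨e, he, he0⟩ := exists_equiv_vec (f.dual c') (dotProductBilin F F w) (x := c') (x' := E0) (f.alt c')
      (by simp [hE0, hw0]) hc'0 hE0ne
      (fun h => by
        have := LinearMap.congr_fun h b
        exact one_ne_zero (hc'b.symm.trans this))
      (fun h => hw (funext fun i => by
        have := LinearMap.congr_fun h (Pi.single i 1)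
        simpa using this))
    exact ⟨e, by rw [he0, hQc'], fun x => by rw [he0]; exact he x⟩
  let I := {p : (F × (Fin n → F)) × (Fin n → F) // p.1.2 0 = 0 ∧ p.1.2 ≠ 0 ∧ p.2 0 = 0}
  obtain ⟨e, heQ, heP⟩ : ∃ e : F → (Fin n → F) → ((Fin n → F) ≃ₗ[F] (Fin n → F)),
      (∀ α w, w 0 = 0 → w ≠ 0 → f.Q (e α w E0) = α) ∧
      (∀ α w, w 0 = 0 → w ≠ 0 → ∀ x, f.P (e α w E0) (e α w x) = w ⬝ᵥ x) := by
    refine ⟨fun α w => if h : w 0 = 0 ∧ w ≠ 0 then (hstep α w h.1 h.2).choose else LinearEquiv.refl F _, ?_, ?_⟩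
    · intro α w h1 h2
      simp only [dif_pos (And.intro h1 h2)]
      exact (hstep α w h1 h2).choose_spec.1
    · intro α w h1 h2
      simp only [dif_pos (And.intro h1 h2)]
      exact (hstep α w h1 h2).choose_spec.2
  let img : I → orb f := fun p => ⟨fun x => f.Q (e p.1.1.1 p.1.1.2 (x + (p.1.2 ⬝ᵥ x) • E0)), by
    have hτ : Function.Injective ((LinearMap.id : (Fin n → F) →ₗ[F] (Fin n → F)) + (dotProductBilin F F p.1.2).smulRight E0) := by
      rw [injective_iff_map_eq_zero]
      intro v hv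
      have h1 : v + (p.1.2 ⬝ᵥ v) • E0 = 0 := hv
      have h2 : p.1.2 ⬝ᵥ v = 0 := by
        have := congrArg (fun z => p.1.2 ⬝ᵥ z) h1
        simpa [dotProduct_add, hE0, p.2.2.2] using this
      rwa [h2, zero_smul, add_zero] at h1
    exact ⟨(LinearEquiv.ofInjectiveEndo _ hτ).trans (e p.1.1.1 p.1.1.2), fun x => rfl⟩⟩
  have hval : ∀ (p : I) (x : Fin n → F), (img p).1 x = f.Q (e p.1.1.1 p.1.1.2 x) +
      (p.1.2 ⬝ᵥ x) ^ 2 * p.1.1.1 + (p.1.2 ⬝ᵥ x) * (p.1.1.2 ⬝ᵥ x) := by
    intro p x
    show f.Q (e _ _ _) = _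
    rw [map_add, map_smul, f.add, f.smul, f.smulP', heQ _ _ p.2.1 p.2.2.1, f.comm,
      heP _ _ p.2.1 p.2.2.1]
  have hfib : ∀ O : orb f, Nat.card {p : I // img p = O} ≤ 2 := by
    intro O
    rcases isEmpty_or_nonempty {p : I // img p = O} with h | ⟨⟨p₀, hp₀⟩⟩
    · simp
    have key : ∀ p : {p : I // img p = O}, p.1.1.1 = p₀.1.1 ∧
        (p.1.1.2 = p₀.1.2 ∨ p₀.1.1.1 • (p.1.1.2 + p₀.1.2) = p₀.1.1.2) := by
      rintro ⟨p, hp⟩
      have hO : ∀ x, (img p).1 x = (img p₀).1 x := fun x => congrFun (congrArg Subtype.val (hp.trans hp₀.symm) :) x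
      have hα : p.1.1.1 = p₀.1.1.1 := by
        have h := hO E0
        rw [hval, hval, heQ _ _ p.2.1 p.2.2.1, heQ _ _ p₀.2.1 p₀.2.2.1] at h
        simpa [hE0, p.2.2.2, p₀.2.2.2] using h
      have hw : p.1.1.2 = p₀.1.1.2 := by
        refine funext fun i => ?_
        have hpol : ∀ (r : I) (x : Fin n → F),
            (img r).1 (E0 + x) = (img r).1 E0 + (img r).1 x + r.1.1.2 ⬝ᵥ x := by
          intro r x
          have hrE : r.1.2 ⬝ᵥ E0 = 0 := by simp [hE0, r.2.2.2]
          have hwE : r.1.1.2 ⬝ᵥ E0 = 0 := by simp [hE0, r.2.1]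
          rw [hval, hval, hval, map_add, f.add, heP _ _ r.2.1 r.2.2.1]
          simp only [dotProduct_add, hrE, hwE]
          ring
        have h := hO (E0 + Pi.single i 1)
        rw [hpol, hpol, hO E0, hO (Pi.single i 1), add_right_inj] at h
        simpa using h
      have hμ : ∀ x, ((p.1.2 + p₀.1.2) ⬝ᵥ x) * (p₀.1.1.1 * ((p.1.2 + p₀.1.2) ⬝ᵥ x) + p₀.1.1.2 ⬝ᵥ x) = 0 := by
        intro x
        have h := hO x
        rw [hval, hval, hα, hw] at h
        rw [add_dotProduct]
        linear_combination h + ((p₀.1.2 ⬝ᵥ x) ^ 2 * p₀.1.1.1 + (p.1.2 ⬝ᵥ x) * (p₀.1.2 ⬝ᵥ x) * p₀.1.1.1 +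
          (p₀.1.2 ⬝ᵥ x) * (p₀.1.1.2 ⬝ᵥ x)) * (CharTwo.two_eq_zero (R := F))
      refine ⟨Prod.ext hα hw, ?_⟩
      by_contra hne
      push Not at hne
      obtain ⟨i, hi⟩ := Function.ne_iff.1 hne.1
      obtain ⟨j, hj⟩ := Function.ne_iff.1 hne.2
      set δ := p.1.2 + p₀.1.2 with hδ
      have hi' : δ i ≠ 0 := fun h => hi (CharTwo.add_eq_zero.1 h)
      have hj' : p₀.1.1.1 * δ j + p₀.1.1.2 j ≠ 0 := fun h => hj (CharTwo.add_eq_zero.1 h)
      have hi0 : p₀.1.1.1 * δ i + p₀.1.1.2 i = 0 := by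
        have := hμ (Pi.single i 1); simpa [hi'] using this
      have hj0 : δ j = 0 := by
        have := hμ (Pi.single j 1); simpa [hj'] using this
      have := hμ (Pi.single i 1 + Pi.single j 1)
      simp only [dotProduct_add, dotProduct_single, mul_one, hj0, add_zero] at this
      rcases mul_eq_zero.1 this with h | h
      · exact hi' h
      · exact hj' (by linear_combination h - hi0 + p₀.1.1.1 * hj0)
    refine (Nat.card_le_card_of_injective
      (fun p : {p : I // img p = O} => decide (p.1.1.2 = p₀.1.2)) fun p p' h => ?_).trans (by simp)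
    refine Subtype.ext (Subtype.ext (Prod.ext ((key p).1.trans (key p').1.symm) ?_))
    simp only [decide_eq_decide] at h
    by_cases hp : p.1.1.2 = p₀.1.2
    · rw [hp, h.1 hp]
    · have h1 := (key p).2.resolve_left hp
      have h2 := (key p').2.resolve_left (fun e => hp (h.2 e))
      by_cases hα : p₀.1.1.1 = 0
      · rw [hα, zero_smul] at h1
        exact absurd h1.symm p₀.2.2.1
      · exact add_right_cancel (smul_right_injective _ hα (h1.trans h2.symm))
  have hI : Nat.card I = Fintype.card F * (Fintype.card F ^ (n - 1) - 1) * Fintype.card F ^ (n - 1) := by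
    let S := {w : Fin n → F // w 0 = 0}
    have eI : I ≃ (F × {w : S // w ≠ ⟨0, rfl⟩}) × S :=
      { toFun := fun p => ((p.1.1.1, ⟨⟨p.1.1.2, p.2.1⟩, fun h => p.2.2.1 (congrArg Subtype.val h)⟩), ⟨p.1.2, p.2.2.2⟩)
        invFun := fun p => ⟨((p.1.1, p.1.2.1.1), p.2.1), p.1.2.1.2, fun h => p.1.2.2 (Subtype.ext h), p.2.2⟩
        left_inv := fun p => rfl
        right_inv := fun p => rfl }
    have hS : Fintype.card S = Fintype.card F ^ (n - 1) := by
      let eS : S ≃ ({j : Fin n // j ≠ 0} → F) :=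
        { toFun := fun w j => w.1 j
          invFun := fun g => ⟨fun j => if h : j = 0 then 0 else g ⟨j, h⟩, by simp⟩
          left_inv := fun w => Subtype.ext (funext fun j => by
            by_cases h : j = 0
            · subst h; simp [w.2]
            · simp [h])
          right_inv := fun g => funext fun j => by simp [j.2] }
      rw [Fintype.card_congr eS, Fintype.card_fun, Fintype.card_subtype_compl, Fintype.card_subtype_eq,
        Fintype.card_fin]
    rw [Nat.card_congr eI, Nat.card_prod, Nat.card_prod, Nat.card_eq_fintype_card, Nat.card_eq_fintype_card,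
      Nat.card_eq_fintype_card, Fintype.card_subtype_compl, Fintype.card_subtype_eq, hS]
  have hIle : Nat.card I ≤ 2 * Nat.card (orb f) := by
    haveI : Fintype (orb f) := Fintype.ofFinite _
    rw [Nat.card_congr (Equiv.sigmaFiberEquiv img).symm, Nat.card_sigma]
    calc ∑ O : orb f, Nat.card {p : I // img p = O} ≤ ∑ _O : orb f, 2 := Finset.sum_le_sum fun O _ => hfib O
      _ = _ := by simp [Nat.card_eq_fintype_card, mul_comm]
  rw [← Nat.card_coe_set_eq]
  refine le_trans (le_of_eq ?_) hIle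
  rw [hI, Nat.mul_sub, mul_one, ← pow_succ', Nat.sub_add_cancel hn]

/-- The orbit bound. -/
theorem orb_bound (f : QF F (Fin n → F)) (hP : ∃ x y, f.P x y ≠ 0) :
    (Fintype.card F ^ n - 1) * (Fintype.card F ^ n - Fintype.card F) / (2 * (Fintype.card F + 1)) ≤
      (orb f).ncard := by
  refine Nat.div_le_of_le_mul ?_
  by_cases h : ∃ c, f.Q c = 0 ∧ ∃ d, f.P c d ≠ 0
  · obtain ⟨c, hc, d, hd⟩ := h
    have h1 := orb_isotropic f hc (d := (f.P c d)⁻¹ • d) (by rw [f.smulP', inv_mul_cancel₀ hd])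
    set q := Fintype.card F
    have h2 : q ^ n - 1 ≤ q ^ (n - 1) * (q + 1) := by
      rcases Nat.eq_zero_or_pos n with rfl | hn
      · simp
      · rw [Nat.mul_add, mul_one, ← pow_succ, Nat.sub_add_cancel hn]
        omega
    calc (q ^ n - 1) * (q ^ n - q) ≤ q ^ (n - 1) * (q + 1) * (q ^ n - q) := Nat.mul_le_mul_right _ h2
      _ = (q + 1) * ((q ^ n - q) * q ^ (n - 1)) := by ring
      _ ≤ (q + 1) * (2 * (orb f).ncard) := Nat.mul_le_mul_left _ h1
      _ = _ := by ring
  · push Not at h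
    obtain ⟨x, y, hxy⟩ := hP
    exact orb_elliptic f (a := x) (b := (f.P x y)⁻¹ • y) (by rw [f.smulP', inv_mul_cancel₀ hxy]) h

end CfsgLib.MinDeg.QuadOrbit
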