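import Cfsg.Agent.Lib.KnownB.MinDeg.SpSiegel
import Cfsg.Agent.Lib.KnownB.MinDeg.QuadOrbitTwo
import Cfsg.Agent.Lib.Classical.SympMatrixSimple

/-!
# The Siegel parabolic of the symplectic group in characteristic two

Characters of the symmetric matrices are quadratic forms; one of those occurring in a non-trivial
representation has non-zero polar form, which gives the degree bound
`(q ^ n - 1) (q ^ n - q) / (2 (q + 1))`.
-/

set_option autoImplicit false
set_option linter.unusedSectionVars false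

open Matrix CfsgLib.Classical
open scoped commutatorElement

namespace CfsgLib.MinDeg

section Weight

variable {G : Type*} [Group G] {X : Type*} [AddCommGroup X] [Finite X]
  {V : Type*} [AddCommGroup V] [Module ℂ V]

/-- An element acting non-trivially has a weight which is non-trivial on it. -/
theorem exists_weight_apply (ρ : Representation ℂ G V) (u : X → G) (hu : ∀ a b, u (a + b) = u a * u b)
    (a : X) (ha : ρ (u a) ≠ 1) : ∃ χ : AddChar X ℂ, χ a ≠ 1 ∧ weightSpace ρ u χ ≠ ⊥ := by
  classical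
  cases nonempty_fintype X
  let Pr : AddChar X ℂ → Module.End ℂ V := fun χ =>
    (Fintype.card X : ℂ)⁻¹ • ∑ b, χ (-b) • ρ (u b)
  have hq0 : (Fintype.card X : ℂ) ≠ 0 := Nat.cast_ne_zero.2 Fintype.card_ne_zero
  have hPr : ∀ χ v, Pr χ v ∈ weightSpace ρ u χ := by
    intro χ v c
    simp only [Pr, LinearMap.smul_apply, map_smul, LinearMap.coe_sum, Finset.sum_apply, map_sum,
      Finset.smul_sum, smul_smul, ← Module.End.mul_apply, ← map_mul, ← hu]
    refine Fintype.sum_equiv (Equiv.addLeft c) _ _ fun b => ?_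
    simp only [Equiv.coe_addLeft]
    congr 1
    rw [mul_left_comm (χ c), ← AddChar.map_add_eq_mul χ c]
    congr 2
    abel
  have hsum : ∀ v, ∑ χ, Pr χ v = v := by
    intro v
    simp only [Pr, LinearMap.smul_apply, LinearMap.coe_sum, Finset.sum_apply, ← Finset.smul_sum]
    rw [Finset.sum_comm]
    simp only [← Finset.sum_smul, AddChar.sum_apply_eq_ite, neg_eq_zero]
    rw [Finset.sum_eq_single 0 (fun b _ hb => by simp [hb]) (by simp)]
    simp [u_zero hu, smul_smul, inv_mul_cancel₀ hq0]
  by_contra hall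
  push Not at hall
  refine ha (LinearMap.ext fun v => ?_)
  rw [Module.End.one_apply]
  conv_lhs => rw [← hsum v, map_sum]
  conv_rhs => rw [← hsum v]
  refine Finset.sum_congr rfl fun χ _ => ?_
  by_cases hχ : χ a = 1
  · rw [mem_weightSpace.1 (hPr χ v) a, hχ, one_smul]
  · have h := hPr χ v
    rw [hall χ hχ, Submodule.mem_bot] at h
    rw [h, map_zero]

end Weight

variable {F : Type*} [Field F] {n : ℕ}

/-- `t x xᵀ`. -/
def symV (x : Fin n → F) (t : F) : symMat F n :=
  ⟨t • vecMulVec x x, by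
    show (_)ᵀ = _
    rw [transpose_smul, transpose_vecMulVec]⟩

/-- `t (x yᵀ + y xᵀ)`. -/
def symW (x y : Fin n → F) (t : F) : symMat F n :=
  ⟨t • (vecMulVec x y + vecMulVec y x), by
    show (_)ᵀ = _
    rw [transpose_smul, transpose_add, transpose_vecMulVec, transpose_vecMulVec, add_comm]⟩

/-- The opposite Siegel unipotent element. -/
def siegelOp (S : symMat F n) : symplecticGroup (Fin n) F :=
  ⟨fromBlocks 1 0 (S : Matrix (Fin n) (Fin n) F) 1, by
    rw [SymplecticGroup.mem_iff, Matrix.fromBlocks_transpose, Matrix.J, Matrix.fromBlocks_multiply,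
      Matrix.fromBlocks_multiply]
    simp [symMat_eq]⟩

theorem symW_not_central (hn : 2 ≤ n) :
    siegel (symW (Pi.single (⟨0, by omega⟩ : Fin n) (1 : F)) (Pi.single ⟨1, by omega⟩ 1) 1) ∉
      Subgroup.center (symplecticGroup (Fin n) F) := by
  intro hc
  set i : Fin n := ⟨0, by omega⟩
  set j : Fin n := ⟨1, by omega⟩
  have hij : i ≠ j := by simp [i, j, Fin.ext_iff]
  set S := symW (Pi.single i (1 : F)) (Pi.single j 1) 1 with hS
  have h := congrArg (fun g : symplecticGroup (Fin n) F => (g : Matrix (Fin n ⊕ Fin n) (Fin n ⊕ Fin n) F))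
    (Subgroup.mem_center_iff.1 hc (siegelOp S))
  change fromBlocks 1 0 (S : Matrix (Fin n) (Fin n) F) 1 * fromBlocks 1 (S : Matrix (Fin n) (Fin n) F) 0 1 =
    fromBlocks 1 (S : Matrix (Fin n) (Fin n) F) 0 1 * fromBlocks 1 0 (S : Matrix (Fin n) (Fin n) F) 1 at h
  rw [Matrix.fromBlocks_multiply, Matrix.fromBlocks_multiply] at h
  have h2 := congrFun (congrFun h (Sum.inl i)) (Sum.inl i)
  simp [hS, symW, vecMulVec_apply, Matrix.mul_apply, Finset.sum_add_distrib, Pi.single_apply, hij, hij.symm,
    Matrix.one_apply_eq] at h2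

variable [Fintype F] [DecidableEq F]

/-- Every additive character is a shift of a given non-trivial one. -/
theorem exists_shift {ψ : AddChar F ℂ} (hψ : ψ ≠ 0) (φ : AddChar F ℂ) :
    ∃ y : F, ∀ t, φ t = ψ (y * t) := by
  have hinj : Function.Injective fun y : F => ψ.compAddMonoidHom (AddMonoidHom.mulLeft y) := by
    intro y y' h
    by_contra hne
    obtain ⟨x, hx⟩ := AddChar.ne_zero_iff.1 hψ
    apply hx
    have h1 : ψ (y * (x / (y - y'))) = ψ (y' * (x / (y - y'))) := DFunLike.congr_fun h (x / (y - y'))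
    have h2 : y * (x / (y - y')) - y' * (x / (y - y')) = x := by
      rw [← sub_mul, mul_div_cancel₀ _ (sub_ne_zero.2 hne)]
    rw [← h2, sub_eq_add_neg, AddChar.map_add_eq_mul, AddChar.map_neg_eq_inv, h1, mul_inv_cancel₀]
    exact (ψ.val_isUnit _).ne_zero
  obtain ⟨y, hy⟩ := (Fintype.bijective_iff_injective_and_card _).2 ⟨hinj, (AddChar.card_eq (α := F)).symm⟩ |>.2 φ
  exact ⟨y, fun t => by rw [← hy]; rfl⟩

theorem shift_unique {ψ : AddChar F ℂ} (hψ : ψ ≠ 0) {y y' : F} (h : ∀ t, ψ (y * t) = ψ (y' * t)) : y = y' := by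
  by_contra hne
  obtain ⟨x, hx⟩ := AddChar.ne_zero_iff.1 hψ
  apply hx
  have h2 : y * (x / (y - y')) - y' * (x / (y - y')) = x := by
    rw [← sub_mul, mul_div_cancel₀ _ (sub_ne_zero.2 hne)]
  rw [← h2, sub_eq_add_neg, AddChar.map_add_eq_mul, AddChar.map_neg_eq_inv, h, mul_inv_cancel₀]
  exact (ψ.val_isUnit _).ne_zero

open QuadOrbit in
/-- The quadratic form of a character of the symmetric matrices. -/
theorem exists_qf {ψ : AddChar F ℂ} (hψ : ψ ≠ 0) (χ : AddChar (symMat F n) ℂ) :
    ∃ f : QF F (Fin n → F), (∀ x t, χ (symV x t) = ψ (f.Q x * t)) ∧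
      ∀ x y t, χ (symW x y t) = ψ (f.P x y * t) := by
  have hV : ∀ x, ∃ a : F, ∀ t, χ (symV x t) = ψ (a * t) := fun x =>
    exists_shift hψ (χ.compAddMonoidHom
      { toFun := symV x
        map_zero' := Subtype.ext (by simp [symV])
        map_add' := fun s t => Subtype.ext (by simp [symV, add_smul]) })
  have hW : ∀ x y, ∃ a : F, ∀ t, χ (symW x y t) = ψ (a * t) := fun x y =>
    exists_shift hψ (χ.compAddMonoidHom
      { toFun := symW x y
        map_zero' := Subtype.ext (by simp [symW])
        map_add' := fun s t => Subtype.ext (by simp [symW, add_smul, add_add_add_comm]) })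
  choose Q hQ using hV
  choose P hP using hW
  refine ⟨⟨Q, P, fun s x => ?_, fun x y => ?_, fun x y z => ?_, fun s x z => ?_⟩, hQ, hP⟩
  · refine shift_unique hψ fun t => ?_
    rw [← hQ, show symV (s • x) t = symV x (s ^ 2 * t) from
      Subtype.ext (by ext i j; simp [symV, vecMulVec_apply]; ring), hQ]
    congr 1
    ring
  · refine shift_unique hψ fun t => ?_
    rw [← hQ, show symV (x + y) t = symV x t + symV y t + symW x y t from
      Subtype.ext (by ext i j; simp [symV, symW, vecMulVec_apply]; ring), AddChar.map_add_eq_mul,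
      AddChar.map_add_eq_mul, hQ, hQ, hP, add_mul, add_mul, AddChar.map_add_eq_mul, AddChar.map_add_eq_mul]
  · refine shift_unique hψ fun t => ?_
    rw [← hP, show symW (x + y) z t = symW x z t + symW y z t from
      Subtype.ext (by ext i j; simp [symW, vecMulVec_apply]; ring), AddChar.map_add_eq_mul, hP, hP,
      add_mul, AddChar.map_add_eq_mul]
  · refine shift_unique hψ fun t => ?_
    rw [← hP, show symW (s • x) z t = symW x z (s * t) from
      Subtype.ext (by ext i j; simp [symW, vecMulVec_apply]; ring), hP]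
    congr 1
    ring

theorem congS_symV (A : Matrix (Fin n) (Fin n) F) (x : Fin n → F) (t : F) :
    congS A (symV x t) = symV (A *ᵥ x) t := by
  refine Subtype.ext ?_
  show A * (t • vecMulVec x x) * Aᵀ = t • vecMulVec (A *ᵥ x) (A *ᵥ x)
  rw [Matrix.mul_smul, Matrix.smul_mul, Matrix.mul_vecMulVec, Matrix.vecMulVec_mul, Matrix.vecMul_transpose]

open QuadOrbit in
/-- A non-trivial representation of `Sp(2n, q)`, `q` even, has degree at least
`(q ^ n - 1) (q ^ n - q) / (2 (q + 1))`. -/
theorem sp_even_degree_bound [CharP F 2] (hn : 2 ≤ n) (hq : n = 2 → 3 ≤ Fintype.card F) {V : Type*}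
    [AddCommGroup V] [Module ℂ V] [FiniteDimensional ℂ V]
    (ρ : Representation ℂ (symplecticGroup (Fin n) F) V) (hnt : ρ.ker ≠ ⊤) :
    (Fintype.card F ^ n - 1) * (Fintype.card F ^ n - Fintype.card F) / (2 * (Fintype.card F + 1)) ≤
      Module.finrank ℂ V := by
  classical
  obtain ⟨ψ, hψ1⟩ := AddChar.exists_apply_ne_zero.2 (one_ne_zero (α := F))
  have hψ : ψ ≠ 0 := AddChar.ne_zero_iff.2 ⟨1, hψ1⟩
  set S₀ := symW (Pi.single (⟨0, by omega⟩ : Fin n) (1 : F)) (Pi.single ⟨1, by omega⟩ 1) 1 with hS₀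
  have hnt0 : ρ (siegel S₀) ≠ 1 := by
    intro hall
    have hsimple : IsSimpleGroup (Cfsg.PSp n F) := psp_isSimpleGroup n hn hq
    have hperf : commutator (symplecticGroup (Fin n) F) = ⊤ :=
      sp_perfect n (by
        rcases Nat.lt_or_ge n 3 with h3 | h3
        · exact Or.inr (Or.inl ⟨by omega, hq (by omega)⟩)
        · exact Or.inl h3)
    have hmap : (ρ.ker.map (QuotientGroup.mk' (Subgroup.center (symplecticGroup (Fin n) F)))).Normal :=
      Subgroup.Normal.map inferInstance _ (QuotientGroup.mk'_surjective _)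
    rcases hsimple.eq_bot_or_eq_top_of_normal _ hmap with h | h
    · rw [Subgroup.map_eq_bot_iff, QuotientGroup.ker_mk'] at h
      exact symW_not_central hn (h (MonoidHom.mem_ker.2 hall))
    · have hsup : ρ.ker ⊔ Subgroup.center (symplecticGroup (Fin n) F) = ⊤ := by
        have h2 := congrArg (Subgroup.comap (QuotientGroup.mk' (Subgroup.center (symplecticGroup (Fin n) F)))) h
        rwa [Subgroup.comap_map_eq, Subgroup.comap_top, QuotientGroup.ker_mk'] at h2
      refine hnt (eq_top_iff.2 ?_)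
      rw [← hperf, commutator_def, Subgroup.commutator_le]
      intro a _ b _
      have ha : a ∈ ρ.ker ⊔ Subgroup.center (symplecticGroup (Fin n) F) := hsup ▸ Subgroup.mem_top a
      rw [← SetLike.mem_coe, Subgroup.normal_mul] at ha
      obtain ⟨k, hk, z, hz, rfl⟩ := ha
      have hz' := Subgroup.mem_center_iff.1 hz
      have e : ⁅k * z, b⁆ = ⁅k, b⁆ := by
        rw [commutatorElement_def, commutatorElement_def, _root_.mul_inv_rev, mul_assoc k z b, ← hz' b,
          mul_assoc k, mul_assoc b z, ← mul_assoc z z⁻¹, mul_inv_cancel, one_mul]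
        simp only [mul_assoc]
      rw [e, commutatorElement_def, mul_assoc k, mul_assoc k]
      have := Subgroup.mul_mem _ hk (MonoidHom.normal_ker ρ |>.conj_mem _ (Subgroup.inv_mem _ hk) b)
      simpa [mul_assoc] using this
  obtain ⟨χ, hχ, hne⟩ := exists_weight_apply ρ siegel siegel_add S₀ hnt0
  obtain ⟨f, hfQ, hfP⟩ := exists_qf hψ χ
  have hP : ∃ x y, f.P x y ≠ 0 := ⟨_, _, fun h => hχ (by rw [hS₀, hfP, h, zero_mul, AddChar.map_zero_eq_one])⟩
  let gl : ((Fin n → F) ≃ₗ[F] (Fin n → F)) → GL (Fin n) F := fun e =>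
    ⟨LinearMap.toMatrix' e.toLinearMap, LinearMap.toMatrix' e.symm.toLinearMap,
      by rw [← LinearMap.toMatrix'_comp]; simp,
      by rw [← LinearMap.toMatrix'_comp]; simp⟩
  have hmulVec : ∀ e x, (gl e : Matrix (Fin n) (Fin n) F) *ᵥ x = e x := fun e x => by
    show LinearMap.toMatrix' e.toLinearMap *ᵥ x = e x
    rw [← Matrix.toLin'_apply, Matrix.toLin'_toMatrix']
    rfl
  have hex : ∀ Q' : orb f, ∃ e : (Fin n → F) ≃ₗ[F] (Fin n → F), ∀ x, Q'.1 x = f.Q (e x) := fun Q' => Q'.2
  choose e he using hex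
  let c : orb f → AddChar (symMat F n) ℂ := fun Q' => χ.compAddMonoidHom
    { toFun := congS (gl (e Q') : Matrix (Fin n) (Fin n) F)
      map_zero' := Subtype.ext (by simp [congS])
      map_add' := fun S T => Subtype.ext (by simp [congS, Matrix.mul_add, Matrix.add_mul]) }
  have hcinj : Function.Injective c := by
    intro Q1 Q2 h
    refine Subtype.ext (funext fun x => ?_)
    rw [he, he]
    refine shift_unique hψ fun t => ?_
    have h1 : χ (congS (gl (e Q1) : Matrix (Fin n) (Fin n) F) (symV x t)) =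
        χ (congS (gl (e Q2) : Matrix (Fin n) (Fin n) F) (symV x t)) := DFunLike.congr_fun h (symV x t)
    rwa [congS_symV, congS_symV, hmulVec, hmulVec, hfQ, hfQ] at h1
  refine (orb_bound f hP).trans ?_
  rw [← Nat.card_coe_set_eq, ← Nat.card_range_of_injective hcinj, Nat.card_coe_set_eq]
  refine card_le_finrank_of_weights ρ siegel _ ?_
  rintro χ' ⟨Q', rfl⟩
  obtain ⟨v, hv, hv0⟩ := Submodule.exists_mem_ne_zero_of_ne_bot hne
  set l := levi (gl (e Q')) with hl
  have hmem : ρ l⁻¹ v ∈ weightSpace ρ siegel (c Q') := fun S => by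
    rw [← Module.End.mul_apply, ← map_mul,
      show siegel S * l⁻¹ = l⁻¹ * siegel (congS (gl (e Q') : Matrix (Fin n) (Fin n) F) S) by
        rw [eq_inv_mul_iff_mul_eq, ← mul_assoc, hl, levi_siegel, mul_inv_cancel_right],
      map_mul, Module.End.mul_apply, mem_weightSpace.1 hv _, map_smul]
    rfl
  intro h
  rw [h, Submodule.mem_bot] at hmem
  exact hv0 ((Representation.apply_bijective ρ l⁻¹).1 (hmem.trans (map_zero _).symm))

end CfsgLib.MinDeg
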