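import Cfsg.Agent.Lib.KnownB.MinDeg.SUSiegel
import Cfsg.Agent.Lib.KnownB.MinDeg.HermOrbitGL

/-!
# The parabolic of `SU(2m+1, q)` fixing a maximal totally isotropic space, and the degree bound
`(q ^ (2m+1) - q) / (q + 1)`

The centre of the unipotent radical carries the Hermitian orbit bound; on each of its non-trivial weight
spaces the radical acts as a Heisenberg group, which gives dimension at least `q`.
-/

set_option autoImplicit false
set_option linter.unusedSectionVars false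

open Matrix CfsgLib.Classical
open scoped commutatorElement

namespace CfsgLib.MinDeg

variable {F : Type*} [Field F] [Fintype F] {σ : F →+* F} {m n q : ℕ}

theorem cT_neg' {a b : Type*} (M : Matrix a b F) : cT σ (-M) = -cT σ M :=
  Matrix.ext fun _ _ => map_neg σ _

theorem cT_sub' {a b : Type*} (M N : Matrix a b F) : cT σ (M - N) = cT σ M - cT σ N :=
  Matrix.ext fun _ _ => map_sub σ _ _

theorem cT_smul' {a b : Type*} (x : F) (M : Matrix a b F) : cT σ (x • M) = σ x • cT σ M :=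
  Matrix.ext fun _ _ => map_mul σ _ _

/-- Weight spaces of dimension at least `d` for each character of `S` force dimension `|S| d`. -/
theorem card_mul_le_finrank {G : Type*} [Group G] {X : Type*} [AddCommGroup X] [Finite X]
    {V : Type*} [AddCommGroup V] [Module ℂ V] [FiniteDimensional ℂ V]
    (ρ : Representation ℂ G V) (u : X → G) (S : Set (AddChar X ℂ)) (d : ℕ)
    (hS : ∀ χ ∈ S, d ≤ Module.finrank ℂ (weightSpace ρ u χ)) :
    S.ncard * d ≤ Module.finrank ℂ V := by
  classical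
  cases nonempty_fintype X
  cases nonempty_fintype S
  let Φ : ((χ : S) → weightSpace ρ u (χ : AddChar X ℂ)) →ₗ[ℂ] V :=
    { toFun := fun f => ∑ χ, (f χ : V)
      map_add' := fun f g => by simp [Finset.sum_add_distrib]
      map_smul' := fun c f => by simp [Finset.smul_sum] }
  have hinj : Function.Injective Φ := by
    rw [injective_iff_map_eq_zero]
    intro f hf
    funext j
    have h := congrArg (fun w => ∑ b, (j : AddChar X ℂ) (-b) • ρ (u b) w) hf
    simp only [Φ, LinearMap.coe_mk, AddHom.coe_mk, map_sum, map_zero, smul_zero, Finset.sum_const_zero,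
      mem_weightSpace.1 (f _).2 _, Finset.smul_sum, smul_smul] at h
    rw [Finset.sum_comm] at h
    simp only [← Finset.sum_smul] at h
    have key : ∀ i : S, ∑ b, (j : AddChar X ℂ) (-b) * (i : AddChar X ℂ) b =
        if i = j then (Fintype.card X : ℂ) else 0 := by
      intro i
      have e : ∀ b, (j : AddChar X ℂ) (-b) * (i : AddChar X ℂ) b =
          ((i : AddChar X ℂ) - (j : AddChar X ℂ)) b := fun b => by
        rw [AddChar.sub_apply, AddChar.map_neg_eq_inv]
        ring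
      simp only [e, AddChar.sum_eq_ite, sub_eq_zero, Subtype.coe_inj]
    simp only [key, ite_smul, zero_smul, Finset.sum_ite_eq', Finset.mem_univ, if_true] at h
    exact Subtype.ext ((smul_eq_zero.1 h).resolve_left (Nat.cast_ne_zero.2 Fintype.card_ne_zero))
  refine le_trans ?_ (LinearMap.finrank_le_finrank_of_injective hinj)
  rw [Module.finrank_pi_fintype, ← Nat.card_coe_set_eq, Nat.card_eq_fintype_card, ← smul_eq_mul,
    ← Finset.card_univ]
  exact Finset.card_nsmul_le_sum _ _ _ fun χ _ => hS χ χ.2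

/-- Two complementary totally isotropic systems and a unit vector orthogonal to both. -/
structure HypSys1 (σ : F →+* F) (n m : ℕ) where
  R : Matrix (Fin n) (Fin m) F
  S : Matrix (Fin n) (Fin m) F
  e : Matrix (Fin n) (Fin 1) F
  rr : cT σ R * R = 0
  ss : cT σ S * S = 0
  rs : cT σ R * S = 1
  sr : cT σ S * R = 1
  re : cT σ R * e = 0
  se : cT σ S * e = 0
  er : cT σ e * R = 0
  es : cT σ e * S = 0
  ee : cT σ e * e = 1
  total : R * cT σ S + S * cT σ R + e * cT σ e = 1

theorem exists_hypSys1 (hF : Fintype.card F = q ^ 2) (hσ : ∀ x, σ x = x ^ q) (hc : IsConjugation σ)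
    (hn : n = m + m + 1) : Nonempty (HypSys1 σ n m) := by
  subst hn
  obtain ⟨P⟩ := exists_hypSys (n := m + m) hF hσ hc rfl
  let f : Fin (m + m + 1) → Fin (m + m) ⊕ Fin 1 := finSumFinEquiv.symm
  have hcr : ∀ {a : Type} (A : Matrix (Fin (m + m)) a F) (B : Matrix (Fin 1) a F),
      cT σ ((Matrix.fromRows A B).submatrix f id) = (Matrix.fromCols (cT σ A) (cT σ B)).submatrix id f := fun A B => by
    ext i j
    simp only [cT_apply, Matrix.submatrix_apply, id_eq]
    cases f j <;> simp [cT_apply]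
  refine ⟨{
    R := (Matrix.fromRows P.R 0).submatrix f id
    S := (Matrix.fromRows P.S 0).submatrix f id
    e := (Matrix.fromRows (0 : Matrix (Fin (m + m)) (Fin 1) F) 1).submatrix f id
    rr := ?_, ss := ?_, rs := ?_, sr := ?_, re := ?_, se := ?_, er := ?_, es := ?_, ee := ?_, total := ?_ }⟩
  all_goals simp only [hcr, f, Matrix.submatrix_mul_equiv, Matrix.fromCols_mul_fromRows, cT_zero, cT_one,
    Matrix.zero_mul, Matrix.mul_zero, Matrix.one_mul, add_zero, zero_add, Matrix.submatrix_id_id, P.rr, P.ss,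
    P.rs, P.sr]
  rw [← Matrix.submatrix_mul _ _ _ id _ Function.bijective_id, ← Matrix.submatrix_mul _ _ _ id _ Function.bijective_id,
    ← Matrix.submatrix_mul _ _ _ id _ Function.bijective_id, Matrix.fromRows_mul_fromCols,
    Matrix.fromRows_mul_fromCols, Matrix.fromRows_mul_fromCols]
  have hadd : ∀ (A B : Matrix (Fin (m + m) ⊕ Fin 1) (Fin (m + m) ⊕ Fin 1) F),
      A.submatrix finSumFinEquiv.symm finSumFinEquiv.symm + B.submatrix finSumFinEquiv.symm finSumFinEquiv.symm =
        (A + B).submatrix (finSumFinEquiv.symm : Fin (m + m + 1) → _) finSumFinEquiv.symm := fun _ _ => rfl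
  rw [hadd, hadd, Matrix.fromBlocks_add, Matrix.fromBlocks_add]
  simp only [Matrix.mul_zero, Matrix.zero_mul, Matrix.one_mul, add_zero, zero_add, P.total,
    Matrix.fromBlocks_one, Matrix.submatrix_one_equiv]

namespace HypSys1

variable (hc : IsConjugation σ) (hσ : ∀ x, σ x = x ^ q) (P : HypSys1 σ n m)

/-- Interchanging the two isotropic systems. -/
def swap : HypSys1 σ n m where
  R := P.S
  S := P.R
  e := P.e
  rr := P.ss
  ss := P.rr
  rs := P.sr
  sr := P.rs
  re := P.se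
  se := P.re
  er := P.es
  es := P.er
  ee := P.ee
  total := by rw [add_comm (P.S * cT σ P.R)]; exact P.total

/-- The matrices of the unipotent radical. -/
def XM (a : Matrix (Fin m) (Fin 1) F) (K : Matrix (Fin m) (Fin m) F) : Matrix (Fin n) (Fin n) F :=
  1 + P.R * a * cT σ P.e - P.e * cT σ a * cT σ P.R + P.R * K * cT σ P.R

theorem XM_mul (a b : Matrix (Fin m) (Fin 1) F) (K L : Matrix (Fin m) (Fin m) F) :
    P.XM a K * P.XM b L = P.XM (a + b) (K + L - a * cT σ b) := by
  have k1 : ∀ {d : ℕ} (Y : Matrix (Fin m) (Fin d) F), cT σ P.R * (P.R * Y) = 0 := fun Y => by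
    rw [← Matrix.mul_assoc, P.rr, Matrix.zero_mul]
  have k2 : ∀ {d : ℕ} (Y : Matrix (Fin 1) (Fin d) F), cT σ P.R * (P.e * Y) = 0 := fun Y => by
    rw [← Matrix.mul_assoc, P.re, Matrix.zero_mul]
  have k3 : ∀ {d : ℕ} (Y : Matrix (Fin m) (Fin d) F), cT σ P.e * (P.R * Y) = 0 := fun Y => by
    rw [← Matrix.mul_assoc, P.er, Matrix.zero_mul]
  have k4 : ∀ {d : ℕ} (Y : Matrix (Fin 1) (Fin d) F), cT σ P.e * (P.e * Y) = Y := fun Y => by
    rw [← Matrix.mul_assoc, P.ee, Matrix.one_mul]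
  simp only [XM, cT_add, Matrix.add_mul, Matrix.mul_add, Matrix.sub_mul, Matrix.mul_sub, Matrix.one_mul,
    Matrix.mul_one, Matrix.mul_assoc, k1, k2, k3, k4, Matrix.mul_zero, add_zero, sub_zero, zero_sub, zero_add]
  abel

theorem det_XM (a : Matrix (Fin m) (Fin 1) F) (K : Matrix (Fin m) (Fin m) F) : (P.XM a K).det = 1 := by
  classical
  have e : P.XM a K = 1 + Matrix.fromCols P.R P.e * Matrix.fromRows (a * cT σ P.e + K * cT σ P.R) (-(cT σ a * cT σ P.R)) := by
    rw [XM, Matrix.fromCols_mul_fromRows, Matrix.mul_add, Matrix.mul_neg, ← Matrix.mul_assoc, ← Matrix.mul_assoc,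
      ← Matrix.mul_assoc]
    abel
  rw [e, Matrix.det_one_add_mul_comm, Matrix.fromRows_mul_fromCols]
  simp only [Matrix.add_mul, Matrix.neg_mul, Matrix.mul_assoc, P.er, P.rr, P.ee, P.re, Matrix.mul_zero,
    add_zero, neg_zero, Matrix.mul_one]
  rw [← Matrix.fromBlocks_one, Matrix.fromBlocks_add, add_zero, add_zero, add_zero, Matrix.det_fromBlocks_zero₂₁]
  simp

theorem cT_XM_mul (hc : IsConjugation σ) (a : Matrix (Fin m) (Fin 1) F) (K : Matrix (Fin m) (Fin m) F)
    (h : K + cT σ K + a * cT σ a = 0) : cT σ (P.XM a K) * P.XM a K = 1 := by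
  have e : cT σ (P.XM a K) = P.XM (-a) (cT σ K) := by
    simp only [XM, cT_add, cT_sub', cT_one, cT_mul, cT_cT hc, cT_neg', Matrix.neg_mul, Matrix.mul_neg,
      Matrix.mul_assoc]
    abel
  rw [e, XM_mul, Matrix.neg_mul, sub_neg_eq_add, neg_add_cancel,
    show cT σ K + K + a * cT σ a = 0 by rw [add_comm (cT σ K)]; exact h, XM]
  simp [cT_zero]

/-- The elements of the unipotent radical. -/
def X (a : Matrix (Fin m) (Fin 1) F) (K : Matrix (Fin m) (Fin m) F) (h : K + cT σ K + a * cT σ a = 0) :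
    Cfsg.SU n F q :=
  ⟨⟨P.XM a K, P.det_XM a K⟩, mem_SU_of_cT hσ _ (P.cT_XM_mul hc a K h)⟩

theorem skew_rel (H : skewH σ m) :
    (H : Matrix (Fin m) (Fin m) F) + cT σ (H : Matrix (Fin m) (Fin m) F) +
      (0 : Matrix (Fin m) (Fin 1) F) * cT σ (0 : Matrix (Fin m) (Fin 1) F) = 0 := by
  rw [show cT σ (H : Matrix (Fin m) (Fin m) F) = -H from H.2, Matrix.zero_mul]
  simp

/-- The centre of the unipotent radical. -/
def sg (H : skewH σ m) : Cfsg.SU n F q := P.X hc hσ 0 H (skew_rel H)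

theorem sg_add (H K : skewH σ m) : P.sg hc hσ (H + K) = P.sg hc hσ H * P.sg hc hσ K := by
  refine Subtype.ext (Subtype.ext ?_)
  show P.XM 0 _ = P.XM 0 _ * P.XM 0 _
  rw [P.XM_mul, add_zero, Matrix.zero_mul, sub_zero]
  rfl

theorem X_sg (a : Matrix (Fin m) (Fin 1) F) (K : Matrix (Fin m) (Fin m) F) (h : K + cT σ K + a * cT σ a = 0)
    (H : skewH σ m) : P.X hc hσ a K h * P.sg hc hσ H = P.sg hc hσ H * P.X hc hσ a K h := by
  refine Subtype.ext (Subtype.ext ?_)
  show P.XM a K * P.XM 0 _ = P.XM 0 _ * P.XM a K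
  rw [P.XM_mul, P.XM_mul, add_zero, zero_add, cT_zero, Matrix.mul_zero, Matrix.zero_mul, sub_zero, sub_zero,
    add_comm]

/-- The commutator of two elements of the radical, as a skew-Hermitian matrix. -/
def commH (a b : Matrix (Fin m) (Fin 1) F) : skewH σ m :=
  ⟨b * cT σ a - a * cT σ b, by
    show cT σ _ = -_
    rw [cT_sub', cT_mul, cT_mul, cT_cT hc, cT_cT hc, neg_sub]⟩

theorem X_X (a b : Matrix (Fin m) (Fin 1) F) (K L : Matrix (Fin m) (Fin m) F)
    (ha : K + cT σ K + a * cT σ a = 0) (hb : L + cT σ L + b * cT σ b = 0) :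
    P.X hc hσ a K ha * P.X hc hσ b L hb =
      P.sg hc hσ (commH hc a b) * (P.X hc hσ b L hb * P.X hc hσ a K ha) := by
  refine Subtype.ext (Subtype.ext ?_)
  show P.XM a K * P.XM b L = P.XM 0 (b * cT σ a - a * cT σ b) * (P.XM b L * P.XM a K)
  rw [P.XM_mul, P.XM_mul, P.XM_mul, zero_add, Matrix.zero_mul, sub_zero]
  congr 1
  · abel
  · abel

/-- The Levi matrix. -/
def lvM (A : GL (Fin m) F) : Matrix (Fin n) (Fin n) F :=
  P.R * (A : Matrix (Fin m) (Fin m) F) * cT σ P.S +
    P.S * cT σ ((A⁻¹ : GL (Fin m) F) : Matrix (Fin m) (Fin m) F) * cT σ P.R +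
    (σ (A : Matrix (Fin m) (Fin m) F).det / (A : Matrix (Fin m) (Fin m) F).det) • (P.e * cT σ P.e)

theorem lvM_r (A : GL (Fin m) F) : P.lvM A * P.R = P.R * (A : Matrix (Fin m) (Fin m) F) := by
  rw [lvM, Matrix.add_mul, Matrix.add_mul, Matrix.smul_mul]
  simp only [Matrix.mul_assoc, P.rr, P.sr, P.er, Matrix.mul_zero, Matrix.mul_one, smul_zero, add_zero]

theorem rT_lvM (A : GL (Fin m) F) :
    cT σ P.R * P.lvM A = cT σ ((A⁻¹ : GL (Fin m) F) : Matrix (Fin m) (Fin m) F) * cT σ P.R := by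
  rw [lvM, Matrix.mul_add, Matrix.mul_add, Matrix.mul_smul]
  simp only [← Matrix.mul_assoc, P.rr, P.rs, P.re, Matrix.zero_mul, Matrix.one_mul, zero_add, smul_zero, add_zero]

theorem cT_lvM_mul (hc : IsConjugation σ) (A : GL (Fin m) F) : cT σ (P.lvM A) * P.lvM A = 1 := by
  have e1 : cT σ (A : Matrix (Fin m) (Fin m) F) * cT σ ((A⁻¹ : GL (Fin m) F) : Matrix (Fin m) (Fin m) F) = 1 := by
    rw [← cT_mul, ← Units.val_mul, inv_mul_cancel, Units.val_one, cT_one]
  have e2 : ((A⁻¹ : GL (Fin m) F) : Matrix (Fin m) (Fin m) F) * (A : Matrix (Fin m) (Fin m) F) = 1 := by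
    rw [← Units.val_mul, inv_mul_cancel, Units.val_one]
  have hd : (A : Matrix (Fin m) (Fin m) F).det ≠ 0 := A.det_ne_zero
  have hσd : σ (A : Matrix (Fin m) (Fin m) F).det ≠ 0 := (map_ne_zero σ).2 hd
  rw [lvM, cT_add, cT_add, cT_smul', cT_mul, cT_mul, cT_mul, cT_mul, cT_mul, cT_cT hc, cT_cT hc, cT_cT hc]
  simp only [Matrix.add_mul, Matrix.mul_add, Matrix.smul_mul, Matrix.mul_smul, Matrix.mul_assoc, smul_smul,
    ← Matrix.mul_assoc (cT σ P.R) P.R, ← Matrix.mul_assoc (cT σ P.R) P.S, ← Matrix.mul_assoc (cT σ P.R) P.e,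
    ← Matrix.mul_assoc (cT σ P.S) P.R, ← Matrix.mul_assoc (cT σ P.S) P.S, ← Matrix.mul_assoc (cT σ P.S) P.e,
    ← Matrix.mul_assoc (cT σ P.e) P.R, ← Matrix.mul_assoc (cT σ P.e) P.S, ← Matrix.mul_assoc (cT σ P.e) P.e,
    P.rr, P.rs, P.re, P.sr, P.ss, P.se, P.er, P.es, P.ee,
    Matrix.zero_mul, Matrix.one_mul, Matrix.mul_zero, smul_zero, add_zero, zero_add,
    ← Matrix.mul_assoc (cT σ (A : Matrix (Fin m) (Fin m) F)), e1,
    ← Matrix.mul_assoc ((A⁻¹ : GL (Fin m) F) : Matrix (Fin m) (Fin m) F), e2]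
  rw [map_div₀, hc.invol, div_mul_div_comm, mul_comm (σ _), div_self (mul_ne_zero hd hσd), one_smul,
    ← P.total, cT_cT hc, add_assoc]

theorem det_lvM (hn : n = m + m + 1) (A : GL (Fin m) F) : (P.lvM A).det = 1 := by
  classical
  subst hn
  set A' := cT σ ((A⁻¹ : GL (Fin m) F) : Matrix (Fin m) (Fin m) F) with hA'
  set z := σ (A : Matrix (Fin m) (Fin m) F).det / (A : Matrix (Fin m) (Fin m) F).det with hz
  let g : Fin (m + m + 1) ≃ (Fin m ⊕ Fin m) ⊕ Fin 1 :=
    finSumFinEquiv.symm.trans (Equiv.sumCongr finSumFinEquiv.symm (Equiv.refl _))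
  let T : Matrix (Fin (m + m + 1)) (Fin (m + m + 1)) F :=
    (Matrix.fromCols (Matrix.fromCols P.R P.S) P.e).submatrix id g
  let U : Matrix (Fin (m + m + 1)) (Fin (m + m + 1)) F :=
    (Matrix.fromRows (Matrix.fromRows (cT σ P.S) (cT σ P.R)) (cT σ P.e)).submatrix g id
  let D : Matrix (Fin (m + m + 1)) (Fin (m + m + 1)) F :=
    (Matrix.fromBlocks (Matrix.fromBlocks (A : Matrix (Fin m) (Fin m) F) 0 0 A') 0 0
      (z • (1 : Matrix (Fin 1) (Fin 1) F))).submatrix g g
  have h1 : U * T = 1 := by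
    simp only [U, T]
    rw [← Matrix.submatrix_mul _ _ g id g Function.bijective_id, Matrix.fromRows_mul_fromCols,
      Matrix.fromRows_mul_fromCols, Matrix.fromRows_mul, Matrix.mul_fromCols, P.sr, P.ss, P.rr, P.rs, P.se, P.re,
      P.er, P.es, P.ee]
    rw [Matrix.fromBlocks_one, Matrix.fromRows_zero, Matrix.fromCols_zero, Matrix.fromBlocks_one,
      Matrix.submatrix_one_equiv]
  have h2 : P.lvM A = T * D * U := by
    simp only [T, D, U, Matrix.submatrix_mul_equiv, Matrix.fromCols_mul_fromBlocks,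
      Matrix.fromCols_mul_fromRows, Matrix.mul_zero, add_zero, zero_add, Matrix.submatrix_id_id, Matrix.mul_smul,
      Matrix.mul_one, Matrix.smul_mul]
    rfl
  have hdet : D.det = 1 := by
    simp only [D, Matrix.det_submatrix_equiv_self, Matrix.det_fromBlocks_zero₁₂, hA', det_cT, Matrix.det_unique,
      Matrix.smul_apply, Matrix.one_apply_eq, smul_eq_mul, mul_one]
    have e : ((A⁻¹ : GL (Fin m) F) : Matrix (Fin m) (Fin m) F).det * (A : Matrix (Fin m) (Fin m) F).det = 1 := by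
      rw [← det_mul, ← Units.val_mul, inv_mul_cancel, Units.val_one, det_one]
    have e' := congrArg σ e
    rw [map_mul, map_one] at e'
    rw [hz]
    have hd : (A : Matrix (Fin m) (Fin m) F).det ≠ 0 := A.det_ne_zero
    field_simp
    linear_combination e'
  rw [h2, det_mul, det_mul, hdet, mul_one, ← det_mul, Matrix.det_mul_comm, h1, det_one]

/-- The Levi element of `SU`. -/
def lv (hn : n = m + m + 1) (A : GL (Fin m) F) : Cfsg.SU n F q :=
  ⟨⟨P.lvM A, P.det_lvM hn A⟩, mem_SU_of_cT hσ _ (P.cT_lvM_mul hc A)⟩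

theorem XM_zero (H : Matrix (Fin m) (Fin m) F) : P.XM 0 H = 1 + P.R * H * cT σ P.R := by
  simp [XM, cT_zero]

theorem lv_sg (hn : n = m + m + 1) (A : GL (Fin m) F) (H : skewH σ m) :
    P.lv hc hσ hn A * P.sg hc hσ H =
      P.sg hc hσ (HypSys.congH hc (A : Matrix (Fin m) (Fin m) F) H) * P.lv hc hσ hn A := by
  refine Subtype.ext (Subtype.ext ?_)
  show P.lvM A * P.XM 0 H = P.XM 0 ((A : Matrix (Fin m) (Fin m) F) * (H : Matrix (Fin m) (Fin m) F) * cT σ (A : Matrix (Fin m) (Fin m) F)) * P.lvM A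
  have e1 : cT σ (A : Matrix (Fin m) (Fin m) F) * cT σ ((A⁻¹ : GL (Fin m) F) : Matrix (Fin m) (Fin m) F) = 1 := by
    rw [← cT_mul, ← Units.val_mul, inv_mul_cancel, Units.val_one, cT_one]
  rw [XM_zero, XM_zero, Matrix.mul_add, Matrix.add_mul, Matrix.mul_one, Matrix.one_mul]
  congr 1
  rw [← Matrix.mul_assoc, ← Matrix.mul_assoc, P.lvM_r]
  simp only [Matrix.mul_assoc, P.rT_lvM, ← Matrix.mul_assoc (cT σ (A : Matrix (Fin m) (Fin m) F)), e1, Matrix.one_mul]

theorem sg_not_central (hm : 1 ≤ m) :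
    ∃ H : skewH σ m, P.sg hc hσ H ∉ Subgroup.center (Cfsg.SU n F q) := by
  classical
  obtain ⟨δ, hδ0, hδ⟩ := hc.exists_trace_zero
  let i : Fin m := ⟨0, by omega⟩
  let H : skewH σ m := ⟨Matrix.single i i δ, by
    show cT σ _ = -_
    ext a b
    by_cases h : i = a ∧ i = b
    · obtain ⟨rfl, rfl⟩ := h
      simp [cT_apply]
      linear_combination hδ
    · have h' : ¬(i = b ∧ i = a) := fun e => h ⟨e.2, e.1⟩
      simp [cT_apply, Matrix.single_apply, h, h']⟩
  refine ⟨H, fun hcen => ?_⟩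
  have h := congrArg (fun x : Cfsg.SU n F q => ((x.1 : Matrix.SpecialLinearGroup (Fin n) F) : Matrix (Fin n) (Fin n) F))
    (Subgroup.mem_center_iff.1 hcen (P.swap.sg hc hσ H))
  change P.swap.XM 0 (H : Matrix (Fin m) (Fin m) F) * P.XM 0 (H : Matrix (Fin m) (Fin m) F) =
    P.XM 0 (H : Matrix (Fin m) (Fin m) F) * P.swap.XM 0 (H : Matrix (Fin m) (Fin m) F) at h
  rw [XM_zero, XM_zero] at h
  have h2 := congrArg (fun M => cT σ P.S * M * P.R) h
  simp only [show P.swap.R = P.S from rfl, Matrix.add_mul, Matrix.mul_add, Matrix.one_mul, Matrix.mul_one,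
    Matrix.mul_assoc, P.rr, P.sr, P.rs, P.ss, Matrix.mul_zero,
    ← Matrix.mul_assoc (cT σ P.S) P.R, ← Matrix.mul_assoc (cT σ P.R) P.S, ← Matrix.mul_assoc (cT σ P.S) P.S,
    Matrix.zero_mul, add_zero, zero_add] at h2
  have h3 := congrFun (congrFun h2 i) i
  simp [H, Matrix.add_apply, Matrix.single_mul_single_same, Matrix.one_apply_eq] at h3
  exact hδ0 h3

/-- A non-trivial weight space of the centre has dimension at least `q`. -/
theorem le_finrank_weight (hF : Fintype.card F = q ^ 2) {ψ : AddChar F ℂ} {y₀ : F}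
    (hψ : ψ (y₀ - σ y₀) ≠ 1) {V : Type*} [AddCommGroup V] [Module ℂ V] [FiniteDimensional ℂ V]
    (ρ : Representation ℂ (Cfsg.SU n F q) V) (χ : AddChar (skewH σ m) ℂ)
    (B : Matrix (Fin m) (Fin m) F) (hBh : cT σ B = B) (hB0 : B ≠ 0)
    (hB : ∀ H : skewH σ m, χ H = ψ (Matrix.trace (B * (H : Matrix (Fin m) (Fin m) F))))
    (hne : weightSpace ρ (P.sg hc hσ) χ ≠ ⊥) :
    q ≤ Module.finrank ℂ (weightSpace ρ (P.sg hc hσ) χ) := by
  classical
  obtain ⟨a, ha⟩ := exists_value_ne_zero hc hBh hB0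
  set ν := (σ ∘ a) ⬝ᵥ B *ᵥ a with hν
  obtain ⟨y, hy⟩ := hc.exists_trace_ne_zero
  set θ := y / (y + σ y) with hθ
  have hθ1 : θ + σ θ = 1 := by
    rw [hθ, map_div₀, map_add, hc.invol, add_comm (σ y), ← add_div, div_self hy]
  set v : Matrix (Fin m) (Fin 1) F := Matrix.replicateCol (Fin 1) a with hv
  set W := weightSpace ρ (P.sg hc hσ) χ with hW
  have hrel : ∀ t : F, (-θ) • ((t • v) * cT σ (t • v)) + cT σ ((-θ) • ((t • v) * cT σ (t • v))) +
      (t • v) * cT σ (t • v) = 0 := fun t => by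
    have hY : cT σ ((t • v) * cT σ (t • v)) = (t • v) * cT σ (t • v) := by rw [cT_mul, cT_cT hc]
    rw [cT_smul' (-θ), hY, ← add_smul]
    conv_lhs => arg 2; rw [← one_smul F ((t • v) * cT σ (t • v))]
    rw [← add_smul, map_neg]
    refine smul_eq_zero_of_left ?_ _
    linear_combination -hθ1
  let x : F → Cfsg.SU n F q := fun t => P.X hc hσ (t • v) _ (hrel t)
  have hinv : ∀ t, ∀ w ∈ W, ρ (x t) w ∈ W := fun t w hw H => by
    rw [← Module.End.mul_apply, ← map_mul, ← P.X_sg hc hσ, map_mul, Module.End.mul_apply,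
      mem_weightSpace.1 hw H, map_smul]
  let T : F → Module.End ℂ W := fun t => (ρ (x t)).restrict (hinv t)
  let φ : F → AddChar F ℂ := fun t => ψ.compAddMonoidHom
    { toFun := fun s => (t * σ s - s * σ t) * ν
      map_zero' := by simp
      map_add' := fun a b => by simp only [map_add]; ring }
  have htr : Matrix.trace (B * (v * cT σ v)) = ν := by
    rw [← Matrix.mul_assoc, Matrix.trace_mul_comm, hν]
    simp [Matrix.trace, hv, Matrix.mul_apply, cT_apply, dotProduct, Matrix.mulVec, Finset.mul_sum]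
  have hcomm : ∀ s t, T s * T t = φ t s • (T t * T s) := by
    intro s t
    refine LinearMap.ext fun w => Subtype.ext ?_
    show ρ (x s) (ρ (x t) w) = φ t s • ρ (x t) (ρ (x s) w)
    have hmem : ρ (x t * x s) w ∈ W := by
      rw [map_mul, Module.End.mul_apply]
      exact hinv t _ (hinv s _ w.2)
    rw [← Module.End.mul_apply, ← map_mul, ← Module.End.mul_apply (ρ (x t)), ← map_mul,
      P.X_X hc hσ, map_mul ρ, Module.End.mul_apply, mem_weightSpace.1 hmem]
    congr 1
    rw [hB]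
    show _ = ψ ((t * σ s - s * σ t) * ν)
    congr 1
    show Matrix.trace (B * ((t • v) * cT σ (s • v) - (s • v) * cT σ (t • v))) = _
    simp only [cT_smul', Matrix.smul_mul, Matrix.mul_smul, smul_smul, ← sub_smul, Matrix.trace_smul, htr,
      smul_eq_mul]
    ring
  have hφinj : ∀ t t' : F, φ t = φ t' → t = t' := by
    intro t t' h
    by_contra hne'
    have hd : t - t' ≠ 0 := sub_ne_zero.2 hne'
    have hσd : σ (t - t') ≠ 0 := (map_ne_zero σ).2 hd
    have hσν : σ ν = ν := value_fixed hc hBh a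
    -- choose `s` with `((t - t') σ s - s σ (t - t')) ν = y₀ - σ y₀`
    set s := σ y₀ / (σ (t - t') * ν) with hs
    apply hψ
    have h1 := DFunLike.congr_fun h s
    change ψ ((t * σ s - s * σ t) * ν) = ψ ((t' * σ s - s * σ t') * ν) at h1
    have h2 : (t * σ s - s * σ t) * ν - (t' * σ s - s * σ t') * ν = y₀ - σ y₀ := by
      have e1 : σ s = y₀ / ((t - t') * ν) := by rw [hs, map_div₀, map_mul, hc.invol, hc.invol, hσν]
      rw [e1, hs]
      rw [map_sub] at hσd ⊢
      have hν0 : ν ≠ 0 := ha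
      field_simp
      ring
    rw [← h2, sub_eq_add_neg, AddChar.map_add_eq_mul, AddChar.map_neg_eq_inv, h1, mul_inv_cancel₀]
    exact (ψ.val_isUnit _).ne_zero
  have hTinj : ∀ s, Function.Injective (T s) := fun s w w' h => Subtype.ext
    (((Representation.apply_bijective ρ (x s)).1) (congrArg Subtype.val h :))
  have hli : LinearIndependent ℂ T := by
    refine (Fintype.linearIndependent_iff (R := ℂ) (v := T)).2 fun g hg j => ?_
    have hs : ∀ s, ∑ t, (g t * φ t s) • T t = 0 := by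
      intro s
      have h1 : (∑ t, (g t * φ t s) • T t) * T s = 0 := by
        have h2 : T s * ∑ t, g t • T t = 0 := by rw [hg, mul_zero]
        rw [Finset.mul_sum] at h2
        rw [Finset.sum_mul, ← h2]
        exact Finset.sum_congr rfl fun t _ => by rw [mul_smul_comm, hcomm, smul_smul, smul_mul_assoc]
      have hsurj : Function.Surjective (T s) := LinearMap.injective_iff_surjective.1 (hTinj s)
      refine LinearMap.ext fun w => ?_
      obtain ⟨w', rfl⟩ := hsurj w
      exact LinearMap.congr_fun h1 w'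
    have h3 : ∑ s, φ j (-s) • ∑ t, (g t * φ t s) • T t = 0 := Finset.sum_eq_zero fun s _ => by rw [hs s, smul_zero]
    simp only [Finset.smul_sum, smul_smul] at h3
    rw [Finset.sum_comm] at h3
    simp only [← Finset.sum_smul] at h3
    have key : ∀ t, ∑ s, φ j (-s) * (g t * φ t s) = if t = j then (Fintype.card F : ℂ) * g t else 0 := by
      intro t
      have e : ∀ s, φ j (-s) * (g t * φ t s) = g t * (φ t - φ j) s := fun s => by
        rw [AddChar.sub_apply, AddChar.map_neg_eq_inv]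
        ring
      simp only [e, ← Finset.mul_sum, AddChar.sum_eq_ite, sub_eq_zero]
      by_cases htj : t = j
      · subst htj; simp [mul_comm]
      · rw [if_neg (fun h => htj (hφinj _ _ h)), if_neg htj, mul_zero]
    simp only [key, ite_smul, zero_smul, Finset.sum_ite_eq', Finset.mem_univ, if_true] at h3
    obtain ⟨w, hw, hw0⟩ := Submodule.exists_mem_ne_zero_of_ne_bot hne
    rcases smul_eq_zero.1 h3 with h | h
    · exact (mul_eq_zero.1 h).resolve_left (Nat.cast_ne_zero.2 Fintype.card_ne_zero)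
    · exfalso
      have h4 : T j ⟨w, hw⟩ = T j 0 := by rw [h]; simp
      exact hw0 (congrArg Subtype.val (hTinj j h4) :)
  have h := hli.fintype_card_le_finrank
  rw [show Module.finrank ℂ (Module.End ℂ W) = _ from Module.finrank_linearMap ℂ ℂ W W, hF, sq] at h
  by_contra hlt
  push Not at hlt
  exact absurd h (not_le.2 (Nat.mul_lt_mul_of_lt_of_lt hlt hlt))

end HypSys1

variable [DecidableEq F]

/-- A non-trivial representation of `SU(2m+1, q)` has degree at least `q (q ^ (2m) - 1) / (q + 1)`. -/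
theorem su_odd_degree_bound (hF : Fintype.card F = q ^ 2) (hm : 1 ≤ m) (hn : n = m + m + 1)
    (hex : ¬ (n = 3 ∧ q = 2))
    {V : Type*} [AddCommGroup V] [Module ℂ V] [FiniteDimensional ℂ V]
    (ρ : Representation ℂ (Cfsg.SU n F q) V) (hnt : ρ.ker ≠ ⊤) :
    (q ^ (2 * m) - 1) / (q + 1) * q ≤ Module.finrank ℂ V := by
  classical
  obtain ⟨σ, hσ, hc⟩ := exists_frob hF
  obtain ⟨P⟩ := exists_hypSys1 (n := n) hF hσ hc hn
  obtain ⟨y₀, hy₀⟩ := hc.exists_not_fixed
  obtain ⟨ψ, hψ⟩ := AddChar.exists_apply_ne_zero.2 (sub_ne_zero.2 (Ne.symm hy₀))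
  obtain ⟨hsep, hdual⟩ := exists_herm_char (m := m) hc hψ
  have hntH : ∃ H, ρ (P.sg hc hσ H) ≠ 1 := by
    by_contra hall
    push Not at hall
    obtain ⟨H, hH⟩ := P.sg_not_central hc hσ hm
    have hsimple : IsSimpleGroup (Cfsg.PSU n F q) := Cfsg.Agent.S0283.result hF n (by omega) hex
    have hperf : commutator (Cfsg.SU n F q) = ⊤ := by
      have hd : BigFixed σ ∧ 3 ≤ Module.finrank F (Fin n → F) ∨ 4 ≤ Module.finrank F (Fin n → F) := by
        rw [Module.finrank_fin_fun]
        by_cases h4 : 4 ≤ n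
        · exact Or.inr h4
        · exact Or.inl ⟨bigFixed_of_le hF hσ hc (by have := two_le_of_card_sq hF; omega), by omega⟩
      have h := (stdHerm_isHermitian hc n).sIsom_perfect (stdHerm_sepRight (σ := σ) n) hd
      have h2 := congrArg (Subgroup.map (suEquiv (n := n) hσ).symm.toMonoidHom) h
      rw [map_commutator_eq, Subgroup.map_top_of_surjective _ (suEquiv (n := n) hσ).symm.surjective,
        MonoidHom.range_eq_top.2 (suEquiv (n := n) hσ).symm.surjective] at h2
      exact h2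
    have hmap : (ρ.ker.map (QuotientGroup.mk' (Subgroup.center (Cfsg.SU n F q)))).Normal :=
      Subgroup.Normal.map inferInstance _ (QuotientGroup.mk'_surjective _)
    rcases hsimple.eq_bot_or_eq_top_of_normal _ hmap with h | h
    · rw [Subgroup.map_eq_bot_iff, QuotientGroup.ker_mk'] at h
      exact hH (h (MonoidHom.mem_ker.2 (hall H)))
    · have hsup : ρ.ker ⊔ Subgroup.center (Cfsg.SU n F q) = ⊤ := by
        have h2 := congrArg (Subgroup.comap (QuotientGroup.mk' (Subgroup.center (Cfsg.SU n F q)))) h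
        rwa [Subgroup.comap_map_eq, Subgroup.comap_top, QuotientGroup.ker_mk'] at h2
      refine hnt (eq_top_iff.2 ?_)
      rw [← hperf, commutator_def, Subgroup.commutator_le]
      intro a _ b _
      have ha : a ∈ ρ.ker ⊔ Subgroup.center (Cfsg.SU n F q) := hsup ▸ Subgroup.mem_top a
      rw [← SetLike.mem_coe, Subgroup.normal_mul] at ha
      obtain ⟨k, hk, z, hz, rfl⟩ := ha
      have hz' := Subgroup.mem_center_iff.1 hz
      have e : ⁅k * z, b⁆ = ⁅k, b⁆ := by
        rw [commutatorElement_def, commutatorElement_def, _root_.mul_inv_rev, mul_assoc k z b, ← hz' b,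
          mul_assoc k, mul_assoc b z, ← mul_assoc z z⁻¹, mul_inv_cancel, one_mul]
        simp only [mul_assoc]
      rw [e, commutatorElement_def, mul_assoc k, mul_assoc k]
      have := Subgroup.mul_mem _ hk (MonoidHom.normal_ker ρ |>.conj_mem _ (Subgroup.inv_mem _ hk) b)
      simpa [mul_assoc] using this
  obtain ⟨χ, hχ, hne⟩ := exists_weight ρ (P.sg hc hσ) (P.sg_add hc hσ) hntH
  obtain ⟨B, hBh, hB⟩ := hdual χ
  have hB0 : B ≠ 0 := fun h0 => hχ (by
    refine DFunLike.ext _ _ fun S => ?_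
    rw [hB, h0]
    simp)
  obtain ⟨O, hO, hOA⟩ := herm_orbit_gl hF hσ hc hBh hB0
  have hOh : ∀ B' ∈ O, cT σ B' = B' := fun B' hB' => by
    obtain ⟨A, rfl⟩ := hOA B' hB'
    rw [cT_mul, cT_mul, cT_cT hc, hBh, Matrix.mul_assoc]
  have hdim := P.le_finrank_weight hc hσ hF hψ ρ χ B hBh hB0 hB hne
  set S := {χ' : AddChar (skewH σ m) ℂ | ∃ B' ∈ O, ∀ H : skewH σ m,
    χ' H = ψ (Matrix.trace (B' * (H : Matrix (Fin m) (Fin m) F)))} with hS
  have hOS : O.ncard ≤ S.ncard := by
    rw [← Nat.card_coe_set_eq, ← Nat.card_coe_set_eq]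
    have hex' : ∀ B' : O, ∃ χ' : AddChar (skewH σ m) ℂ, ∀ H : skewH σ m,
        χ' H = ψ (Matrix.trace ((B' : Matrix (Fin m) (Fin m) F) * (H : Matrix (Fin m) (Fin m) F))) :=
      fun B' => ⟨ψ.compAddMonoidHom
        { toFun := fun H => Matrix.trace ((B' : Matrix (Fin m) (Fin m) F) * (H : Matrix (Fin m) (Fin m) F))
          map_zero' := by simp
          map_add' := fun H T => by simp [Matrix.mul_add] }, fun H => rfl⟩
    choose c hc' using hex'
    refine Nat.card_le_card_of_injective (fun B' : O => ⟨c B', ⟨B'.1, B'.2, hc' B'⟩⟩) ?_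
    intro B1 B2 h
    have h' : c B1 = c B2 := congrArg Subtype.val h
    refine Subtype.ext (sub_eq_zero.1 ?_)
    by_contra hne'
    obtain ⟨H, hH⟩ := hsep _ (by rw [cT_sub', hOh _ B1.2, hOh _ B2.2]) hne'
    apply hH
    rw [Matrix.sub_mul, Matrix.trace_sub, sub_eq_add_neg, AddChar.map_add_eq_mul, AddChar.map_neg_eq_inv,
      ← hc' B1 H, ← hc' B2 H, h', mul_inv_cancel₀]
    exact ((c B2).val_isUnit _).ne_zero
  refine le_trans (Nat.mul_le_mul_right q (hO.trans hOS)) (card_mul_le_finrank ρ (P.sg hc hσ) S q fun χ' hχ' => ?_)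
  obtain ⟨B', hB', hχB'⟩ := hχ'
  obtain ⟨A, rfl⟩ := hOA B' hB'
  have hval : ∀ H, χ' H = χ (HypSys.congH hc (A : Matrix (Fin m) (Fin m) F) H) := fun H => by
    rw [hχB', hB]
    congr 1
    simp only [HypSys.congH]
    rw [Matrix.mul_assoc, Matrix.mul_assoc, Matrix.trace_mul_comm]
    simp only [Matrix.mul_assoc]
  set l := P.lv hc hσ hn A with hl
  have hmem : ∀ v ∈ weightSpace ρ (P.sg hc hσ) χ, ρ l⁻¹ v ∈ weightSpace ρ (P.sg hc hσ) χ' := fun v hv H => by
    rw [← Module.End.mul_apply, ← map_mul,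
      show P.sg hc hσ H * l⁻¹ = l⁻¹ * P.sg hc hσ (HypSys.congH hc (A : Matrix (Fin m) (Fin m) F) H) by
        rw [eq_inv_mul_iff_mul_eq, ← mul_assoc, hl, P.lv_sg hc hσ hn A, mul_inv_cancel_right],
      map_mul, Module.End.mul_apply, mem_weightSpace.1 hv _, map_smul, hval]
  refine hdim.trans (LinearMap.finrank_le_finrank_of_injective (f := (ρ l⁻¹).restrict hmem) ?_)
  intro v w h
  exact Subtype.ext (((Representation.apply_bijective ρ l⁻¹).1) (congrArg Subtype.val h :))

end CfsgLib.MinDeg
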