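import Cfsg.Agent.Lib.Classical.HermMatrixSimple
import Cfsg.Agent.Lib.KnownB.MinDeg.OrbitBound
import Cfsg.Agent.Lib.KnownB.MinDeg.HermOrbit
import Cfsg.Agent.S0283

/-!
# The Siegel parabolic of `SU(2m, q)` and the degree bound `(q ^ (2m) - 1) / (q + 1)`
-/

set_option autoImplicit false

open Matrix CfsgLib.Classical
open scoped commutatorElement

namespace CfsgLib.MinDeg

variable {F : Type*} [Field F] [Fintype F] {σ : F →+* F} {m n q : ℕ}

/-- Isometries of the standard form are the matrices with `M* M = 1`. -/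
theorem mem_SU_of_cT (hσ : ∀ x, σ x = x ^ q) (M : Matrix.SpecialLinearGroup (Fin n) F)
    (h : cT σ (M : Matrix (Fin n) (Fin n) F) * (M : Matrix (Fin n) (Fin n) F) = 1) :
    M ∈ Cfsg.SU n F q := by
  intro u v
  show Cfsg.hermForm n F q ((M : Matrix (Fin n) (Fin n) F) *ᵥ u) ((M : Matrix (Fin n) (Fin n) F) *ᵥ v) = _
  have e : ∀ a b : Fin n → F, Cfsg.hermForm n F q a b = (σ ∘ b) ⬝ᵥ a := fun a b => by
    simp [Cfsg.hermForm, dotProduct, hσ, mul_comm]
  rw [e, e, show σ ∘ ((M : Matrix (Fin n) (Fin n) F) *ᵥ v) = ((M : Matrix (Fin n) (Fin n) F).map σ) *ᵥ (σ ∘ v) from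
    funext fun i => cT_mulVec _ _ i, ← Matrix.vecMul_transpose, ← Matrix.dotProduct_mulVec,
    Matrix.mulVec_mulVec]
  show (σ ∘ v) ⬝ᵥ (cT σ (M : Matrix (Fin n) (Fin n) F) * (M : Matrix (Fin n) (Fin n) F)) *ᵥ u = _
  rw [h, Matrix.one_mulVec]

/-- Two complementary totally isotropic systems spanning the space. -/
structure HypSys (σ : F →+* F) (n m : ℕ) where
  R : Matrix (Fin n) (Fin m) F
  S : Matrix (Fin n) (Fin m) F
  rr : cT σ R * R = 0
  ss : cT σ S * S = 0
  rs : cT σ R * S = 1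
  sr : cT σ S * R = 1
  total : R * cT σ S + S * cT σ R = 1

theorem exists_hypSys (hF : Fintype.card F = q ^ 2) (hσ : ∀ x, σ x = x ^ q) (hc : IsConjugation σ)
    (hn : n = m + m) : Nonempty (HypSys σ n m) := by
  subst hn
  obtain ⟨ε, hε⟩ := hc.exists_norm_eq (a := (-1 : F)) (by simp)
  obtain ⟨ζ, hζ1, hζ⟩ : ∃ ζ : F, ζ ≠ 1 ∧ ζ * σ ζ = 1 := by
    have h := (frob_cards hF hσ hc).2
    have : Nontrivial (normHom σ).ker := Finite.one_lt_card_iff_nontrivial.1 (by
      have := two_le_of_card_sq hF; omega)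
    obtain ⟨u, hu⟩ := exists_ne (1 : (normHom σ).ker)
    exact ⟨((u : Fˣ) : F), fun e => hu (Subtype.ext (Units.ext e)), congrArg Units.val (MonoidHom.mem_ker.1 u.2)⟩
  set a := (1 - ζ)⁻¹ with ha
  have h1 : 1 - ζ ≠ 0 := sub_ne_zero.2 (Ne.symm hζ1)
  have hζ0 : ζ ≠ 0 := fun e => by simp [e] at hζ
  have hσζ : σ ζ = ζ⁻¹ := eq_inv_of_mul_eq_one_right hζ
  have hσa : σ a = -(ζ * a) := by
    rw [ha, map_inv₀, map_sub, map_one, hσζ]
    have : 1 - ζ⁻¹ ≠ 0 := sub_ne_zero.2 fun e => hζ1 (inv_eq_one.1 e.symm)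
    field_simp
    ring
  let R : Matrix (Fin (m + m)) (Fin m) F :=
    (Matrix.fromRows (1 : Matrix (Fin m) (Fin m) F) (ε • (1 : Matrix (Fin m) (Fin m) F))).submatrix finSumFinEquiv.symm id
  let S : Matrix (Fin (m + m)) (Fin m) F :=
    (Matrix.fromRows (a • (1 : Matrix (Fin m) (Fin m) F)) ((ζ * ε * a) • (1 : Matrix (Fin m) (Fin m) F))).submatrix
      finSumFinEquiv.symm id
  have hone : ∀ x : F, cT σ (x • (1 : Matrix (Fin m) (Fin m) F)) = σ x • 1 := fun x => by
    ext i j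
    by_cases h : i = j
    · subst h; simp [cT_apply]
    · simp [cT_apply, Matrix.one_apply_ne h, Matrix.one_apply_ne (Ne.symm h)]
  have hcr : ∀ (P Q : Matrix (Fin m) (Fin m) F),
      cT σ ((Matrix.fromRows P Q).submatrix finSumFinEquiv.symm id) =
        (Matrix.fromCols (cT σ P) (cT σ Q)).submatrix id finSumFinEquiv.symm := fun P Q => by
    ext i j
    obtain ⟨j, rfl⟩ := finSumFinEquiv.surjective j
    simp only [cT_apply, Matrix.submatrix_apply, id_eq, Equiv.symm_apply_apply]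
    cases j <;> simp [cT_apply]
  refine ⟨⟨R, S, ?_, ?_, ?_, ?_, ?_⟩⟩
  all_goals simp only [R, S, hcr, Matrix.submatrix_mul_equiv, hone, cT_one, Matrix.fromCols_mul_fromRows,
    Matrix.fromRows_mul_fromCols, Matrix.submatrix_id_id, Matrix.smul_mul, Matrix.mul_smul, Matrix.one_mul,
    Matrix.mul_one, smul_smul]
  · rw [show (1 : Matrix (Fin m) (Fin m) F) = (1 : F) • 1 from (one_smul _ _).symm, smul_smul, ← add_smul]
    simp [hε, mul_comm (σ ε)]
  · rw [← add_smul]
    refine smul_eq_zero_of_left ?_ _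
    simp only [map_mul, hσa, hσζ]
    linear_combination (-(ζ * a * a) * (ε * σ ε)) * (inv_mul_cancel₀ hζ0) + (-(ζ * a * a)) * hε
  · simp only [mul_one, one_smul, ← add_smul]
    refine (congrArg (fun z : F => z • (1 : Matrix (Fin m) (Fin m) F)) (?_ : _ = (1 : F))).trans (one_smul _ _)
    linear_combination (ζ * a) * hε + inv_mul_cancel₀ h1
  · simp only [mul_one, one_smul, ← add_smul]
    refine (congrArg (fun z : F => z • (1 : Matrix (Fin m) (Fin m) F)) (?_ : _ = (1 : F))).trans (one_smul _ _)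
    simp only [map_mul, hσa, hσζ]
    linear_combination (-(a * (ε * σ ε))) * (inv_mul_cancel₀ hζ0) + (-a) * hε + inv_mul_cancel₀ h1
  · rw [← Matrix.submatrix_mul _ _ _ id _ Function.bijective_id, ← Matrix.submatrix_mul _ _ _ id _ Function.bijective_id,
      Matrix.fromRows_mul_fromCols, Matrix.fromRows_mul_fromCols]
    simp only [Matrix.smul_mul, Matrix.mul_smul, Matrix.one_mul, Matrix.mul_one, smul_smul]
    have hadd : ∀ (A B : Matrix (Fin m ⊕ Fin m) (Fin m ⊕ Fin m) F),
        A.submatrix finSumFinEquiv.symm finSumFinEquiv.symm + B.submatrix finSumFinEquiv.symm finSumFinEquiv.symm =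
          (A + B).submatrix (finSumFinEquiv.symm : Fin (m + m) → Fin m ⊕ Fin m) finSumFinEquiv.symm := fun _ _ => rfl
    rw [hadd, Matrix.fromBlocks_add]
    simp only [← add_smul, map_mul, hσa, hσζ]
    convert Matrix.submatrix_one_equiv (α := F) (finSumFinEquiv.symm : Fin (m + m) ≃ Fin m ⊕ Fin m) using 2
    rw [← Matrix.fromBlocks_one]
    have e1 : -(ζ * a) + a = 1 := by linear_combination inv_mul_cancel₀ h1
    congr 1
    · exact (congrArg (fun z : F => z • (1 : Matrix (Fin m) (Fin m) F)) e1).trans (one_smul _ _)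
    · refine smul_eq_zero_of_left ?_ _
      linear_combination (-(σ ε * a)) * (inv_mul_cancel₀ hζ0)
    · refine smul_eq_zero_of_left ?_ _
      ring
    · refine (congrArg (fun z : F => z • (1 : Matrix (Fin m) (Fin m) F)) (?_ : _ = (1 : F))).trans (one_smul _ _)
      linear_combination (-(a * (ε * σ ε))) * (inv_mul_cancel₀ hζ0) + (ζ * a - a) * hε + e1

variable (σ m) in
/-- Skew-Hermitian matrices. -/
def skewH : AddSubgroup (Matrix (Fin m) (Fin m) F) where
  carrier := {H | cT σ H = -H}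
  add_mem' := fun {a b} ha hb => by
    rw [Set.mem_setOf_eq] at *
    rw [cT_add, ha, hb, neg_add]
  zero_mem' := by simp [cT_zero]
  neg_mem' := fun {a} ha => by
    rw [Set.mem_setOf_eq] at *
    have h : cT σ (-a) + cT σ a = 0 := by rw [← cT_add, neg_add_cancel, cT_zero]
    rw [ha] at h
    exact eq_neg_of_add_eq_zero_left h

namespace HypSys

variable (hc : IsConjugation σ) (hσ : ∀ x, σ x = x ^ q) (P : HypSys σ n m)

/-- The Siegel matrix. -/
def sgM (H : Matrix (Fin m) (Fin m) F) : Matrix (Fin n) (Fin n) F := 1 + P.R * H * cT σ P.R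

theorem det_sgM (H : Matrix (Fin m) (Fin m) F) : (P.sgM H).det = 1 := by
  rw [sgM, Matrix.mul_assoc, Matrix.det_one_add_mul_comm, Matrix.mul_assoc, P.rr, Matrix.mul_zero,
    add_zero, det_one]

theorem sgM_mul (H K : Matrix (Fin m) (Fin m) F) : P.sgM H * P.sgM K = P.sgM (H + K) := by
  have e : P.R * H * cT σ P.R * (P.R * K * cT σ P.R) = 0 := by
    rw [show P.R * H * cT σ P.R * (P.R * K * cT σ P.R) = P.R * H * (cT σ P.R * P.R) * (K * cT σ P.R) by
      simp only [Matrix.mul_assoc], P.rr, Matrix.mul_zero, Matrix.zero_mul]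
  simp only [sgM, Matrix.add_mul, Matrix.mul_add, Matrix.one_mul, Matrix.mul_one, e, add_zero]
  abel

/-- The Siegel unipotent element of `SU`. -/
def sg (H : skewH σ m) : Cfsg.SU n F q :=
  ⟨⟨P.sgM H, P.det_sgM H⟩, mem_SU_of_cT hσ _ (by
    show cT σ (P.sgM H) * P.sgM H = 1
    have e : cT σ (P.sgM (H : Matrix (Fin m) (Fin m) F)) = P.sgM (-(H : Matrix (Fin m) (Fin m) F)) := by
      rw [sgM, cT_add, cT_one, cT_mul, cT_mul, cT_cT hc, show cT σ (H : Matrix (Fin m) (Fin m) F) = -H from H.2,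
        ← Matrix.mul_assoc]
      rfl
    rw [e, sgM_mul, neg_add_cancel, sgM, Matrix.mul_zero, Matrix.zero_mul, add_zero])⟩

theorem sg_add (H K : skewH σ m) : P.sg hc hσ (H + K) = P.sg hc hσ H * P.sg hc hσ K := by
  refine Subtype.ext (Subtype.ext ?_)
  exact (P.sgM_mul _ _).symm

/-- The Levi matrix. -/
def lvM (A : GL (Fin m) F) : Matrix (Fin n) (Fin n) F :=
  P.R * (A : Matrix (Fin m) (Fin m) F) * cT σ P.S + P.S * cT σ ((A⁻¹ : GL (Fin m) F) : Matrix (Fin m) (Fin m) F) * cT σ P.R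

theorem rT_lvM (A : GL (Fin m) F) :
    cT σ P.R * P.lvM A = cT σ ((A⁻¹ : GL (Fin m) F) : Matrix (Fin m) (Fin m) F) * cT σ P.R := by
  rw [lvM, Matrix.mul_add]
  simp only [← Matrix.mul_assoc, P.rr, P.rs, Matrix.zero_mul, Matrix.one_mul, zero_add]

theorem lvM_r (A : GL (Fin m) F) : P.lvM A * P.R = P.R * (A : Matrix (Fin m) (Fin m) F) := by
  rw [lvM, Matrix.add_mul]
  simp only [Matrix.mul_assoc, P.rr, P.sr, Matrix.mul_zero, Matrix.mul_one, add_zero]

theorem cT_lvM_mul (hc : IsConjugation σ) (A : GL (Fin m) F) : cT σ (P.lvM A) * P.lvM A = 1 := by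
  have e1 : cT σ (A : Matrix (Fin m) (Fin m) F) * cT σ ((A⁻¹ : GL (Fin m) F) : Matrix (Fin m) (Fin m) F) = 1 := by
    rw [← cT_mul, ← Units.val_mul, inv_mul_cancel, Units.val_one, cT_one]
  have e2 : ((A⁻¹ : GL (Fin m) F) : Matrix (Fin m) (Fin m) F) * (A : Matrix (Fin m) (Fin m) F) = 1 := by
    rw [← Units.val_mul, inv_mul_cancel, Units.val_one]
  rw [lvM, cT_add, cT_mul, cT_mul, cT_mul, cT_mul, cT_cT hc, cT_cT hc, cT_cT hc, Matrix.add_mul, Matrix.mul_add,
    Matrix.mul_add]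
  simp only [Matrix.mul_assoc, ← Matrix.mul_assoc (cT σ P.R) P.R, ← Matrix.mul_assoc (cT σ P.R) P.S,
    ← Matrix.mul_assoc (cT σ P.S) P.R, ← Matrix.mul_assoc (cT σ P.S) P.S, P.rr, P.rs, P.sr, P.ss,
    Matrix.zero_mul, Matrix.one_mul, Matrix.mul_zero, add_zero, zero_add,
    ← Matrix.mul_assoc (cT σ (A : Matrix (Fin m) (Fin m) F)), e1,
    ← Matrix.mul_assoc ((A⁻¹ : GL (Fin m) F) : Matrix (Fin m) (Fin m) F), e2]
  rw [add_comm]
  exact P.total

theorem det_lvM (hc : IsConjugation σ) (hn : n = m + m) (A : GL (Fin m) F)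
    (hA : σ (A : Matrix (Fin m) (Fin m) F).det = (A : Matrix (Fin m) (Fin m) F).det) :
    (P.lvM A).det = 1 := by
  classical
  subst hn
  set A' := cT σ ((A⁻¹ : GL (Fin m) F) : Matrix (Fin m) (Fin m) F) with hA'
  let T : Matrix (Fin (m + m)) (Fin (m + m)) F := (Matrix.fromCols P.R P.S).submatrix id finSumFinEquiv.symm
  let U : Matrix (Fin (m + m)) (Fin (m + m)) F :=
    (Matrix.fromRows (cT σ P.S) (cT σ P.R)).submatrix finSumFinEquiv.symm id
  let D : Matrix (Fin (m + m)) (Fin (m + m)) F :=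
    (Matrix.fromBlocks (A : Matrix (Fin m) (Fin m) F) 0 0 A').submatrix finSumFinEquiv.symm finSumFinEquiv.symm
  have h1 : U * T = 1 := by
    simp only [U, T]
    rw [← Matrix.submatrix_mul _ _ finSumFinEquiv.symm id finSumFinEquiv.symm Function.bijective_id,
      Matrix.fromRows_mul_fromCols, P.sr, P.ss, P.rr, P.rs, Matrix.fromBlocks_one, Matrix.submatrix_one_equiv]
  have h2 : P.lvM A = T * D * U := by
    simp only [T, D, U, Matrix.submatrix_mul_equiv, Matrix.fromCols_mul_fromBlocks,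
      Matrix.fromCols_mul_fromRows, Matrix.mul_zero, add_zero, zero_add, Matrix.submatrix_id_id]
    rfl
  have hdet : D.det = 1 := by
    simp only [D, Matrix.det_submatrix_equiv_self, Matrix.det_fromBlocks_zero₁₂, hA', det_cT]
    have e : ((A⁻¹ : GL (Fin m) F) : Matrix (Fin m) (Fin m) F).det * (A : Matrix (Fin m) (Fin m) F).det = 1 := by
      rw [← det_mul, ← Units.val_mul, inv_mul_cancel, Units.val_one, det_one]
    have e' := congrArg σ e
    rw [map_mul, map_one, hA] at e'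
    linear_combination e'
  rw [h2, det_mul, det_mul, hdet, mul_one, ← det_mul]
  rw [Matrix.det_mul_comm, h1, det_one]

/-- The Levi element of `SU`. -/
def lv (hn : n = m + m) (A : GL (Fin m) F)
    (hA : σ (A : Matrix (Fin m) (Fin m) F).det = (A : Matrix (Fin m) (Fin m) F).det) : Cfsg.SU n F q :=
  ⟨⟨P.lvM A, P.det_lvM hc hn A hA⟩, mem_SU_of_cT hσ _ (P.cT_lvM_mul hc A)⟩

/-- The action of the Levi element. -/
def congH (hc : IsConjugation σ) (A : Matrix (Fin m) (Fin m) F) (H : skewH σ m) : skewH σ m :=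
  ⟨A * (H : Matrix (Fin m) (Fin m) F) * cT σ A, by
    show cT σ _ = -_
    rw [cT_mul, cT_mul, cT_cT hc, show cT σ (H : Matrix (Fin m) (Fin m) F) = -H from H.2]
    simp [Matrix.mul_assoc]⟩

theorem lv_sg (hn : n = m + m) (A : GL (Fin m) F)
    (hA : σ (A : Matrix (Fin m) (Fin m) F).det = (A : Matrix (Fin m) (Fin m) F).det) (H : skewH σ m) :
    P.lv hc hσ hn A hA * P.sg hc hσ H =
      P.sg hc hσ (congH hc (A : Matrix (Fin m) (Fin m) F) H) * P.lv hc hσ hn A hA := by
  refine Subtype.ext (Subtype.ext ?_)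
  show P.lvM A * P.sgM H = P.sgM ((A : Matrix (Fin m) (Fin m) F) * (H : Matrix (Fin m) (Fin m) F) * cT σ (A : Matrix (Fin m) (Fin m) F)) * P.lvM A
  have e1 : cT σ (A : Matrix (Fin m) (Fin m) F) * cT σ ((A⁻¹ : GL (Fin m) F) : Matrix (Fin m) (Fin m) F) = 1 := by
    rw [← cT_mul, ← Units.val_mul, inv_mul_cancel, Units.val_one, cT_one]
  rw [sgM, sgM, Matrix.mul_add, Matrix.add_mul, Matrix.mul_one, Matrix.one_mul]
  congr 1
  rw [← Matrix.mul_assoc, ← Matrix.mul_assoc, P.lvM_r]
  simp only [Matrix.mul_assoc, P.rT_lvM, ← Matrix.mul_assoc (cT σ (A : Matrix (Fin m) (Fin m) F)), e1, Matrix.one_mul]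

theorem sg_injective : Function.Injective (P.sg hc hσ) := by
  intro H K h
  have h' : P.sgM (H : Matrix (Fin m) (Fin m) F) = P.sgM K :=
    congrArg (fun x : Cfsg.SU n F q => ((x.1 : Matrix.SpecialLinearGroup (Fin n) F) : Matrix (Fin n) (Fin n) F)) h
  have e : ∀ L : Matrix (Fin m) (Fin m) F, cT σ P.S * P.sgM L * P.S = L := fun L => by
    rw [sgM, Matrix.mul_add, Matrix.add_mul, Matrix.mul_one, P.ss, zero_add]
    simp only [Matrix.mul_assoc, P.rs, Matrix.mul_one]
    rw [← Matrix.mul_assoc, P.sr, Matrix.one_mul]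
  exact Subtype.ext (by rw [← e (H : Matrix (Fin m) (Fin m) F), h', e])

theorem sg_not_central (hn : n = m + m) (hm : 2 ≤ m) :
    ∃ H : skewH σ m, P.sg hc hσ H ∉ Subgroup.center (Cfsg.SU n F q) := by
  classical
  obtain ⟨y, hy⟩ := hc.exists_not_fixed
  let i : Fin m := ⟨0, by omega⟩
  let j : Fin m := ⟨1, by omega⟩
  have hij : j ≠ i := by simp [i, j, Fin.ext_iff]
  let H : skewH σ m := ⟨Matrix.single i i (y - σ y), by
    show cT σ _ = -_
    ext a b
    by_cases h : i = a ∧ i = b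
    · obtain ⟨rfl, rfl⟩ := h; simp [cT_apply, map_sub, hc.invol]
    · have h' : ¬(i = b ∧ i = a) := fun e => h ⟨e.2, e.1⟩
      simp [cT_apply, Matrix.single_apply, h, h']⟩
  refine ⟨H, fun hcen => ?_⟩
  have hd : (1 + Matrix.single j i (1 : F)).det = 1 := by
    have h := Matrix.det_transvection_of_ne j i hij (1 : F)
    simpa [Matrix.transvection] using h
  let A := Matrix.GeneralLinearGroup.mkOfDetNeZero (1 + Matrix.single j i (1 : F)) (by rw [hd]; exact one_ne_zero)
  have hA : σ (A : Matrix (Fin m) (Fin m) F).det = (A : Matrix (Fin m) (Fin m) F).det := by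
    show σ (1 + Matrix.single j i (1 : F)).det = (1 + Matrix.single j i (1 : F)).det
    rw [hd, map_one]
  have h := P.lv_sg hc hσ hn A hA H
  rw [Subgroup.mem_center_iff.1 hcen] at h
  have e := congrArg (fun z : skewH σ m => (z : Matrix (Fin m) (Fin m) F) j i)
    (P.sg_injective hc hσ (mul_right_cancel h))
  have hcT : cT σ (1 + Matrix.single j i (1 : F)) i i = 1 := by
    simp [cT_apply, Matrix.single_apply, hij]
  simp only [congH, H, A] at e
  change Matrix.single i i (y - σ y) j i =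
    ((1 + Matrix.single j i (1 : F)) * Matrix.single i i (y - σ y) * cT σ (1 + Matrix.single j i (1 : F)) : Matrix (Fin m) (Fin m) F) j i at e
  rw [Matrix.add_mul, Matrix.one_mul, Matrix.single_mul_single_same, one_mul] at e
  simp [Matrix.add_mul, Matrix.single_apply, Matrix.mul_apply, hij, hij.symm, hcT, ite_mul] at e
  exact hy (sub_eq_zero.1 e.symm).symm

end HypSys

variable [DecidableEq F]

/-- Every character of the skew-Hermitian matrices comes from a Hermitian matrix. -/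
theorem exists_herm_char (hc : IsConjugation σ) {ψ : AddChar F ℂ} {y₀ : F} (hψ : ψ (y₀ - σ y₀) ≠ 1) :
    (∀ D : Matrix (Fin m) (Fin m) F, cT σ D = D → D ≠ 0 → ∃ H : skewH σ m,
      ψ (Matrix.trace (D * (H : Matrix (Fin m) (Fin m) F))) ≠ 1) ∧
    ∀ χ : AddChar (skewH σ m) ℂ, ∃ B : Matrix (Fin m) (Fin m) F, cT σ B = B ∧ ∀ H : skewH σ m,
      χ H = ψ (Matrix.trace (B * (H : Matrix (Fin m) (Fin m) F))) := by
  classical
  have hsep : ∀ D : Matrix (Fin m) (Fin m) F, cT σ D = D → D ≠ 0 → ∃ H : skewH σ m,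
      ψ (Matrix.trace (D * (H : Matrix (Fin m) (Fin m) F))) ≠ 1 := by
    intro D hD hD0
    obtain ⟨i, hi⟩ := Function.ne_iff.1 hD0
    obtain ⟨j, hij⟩ := Function.ne_iff.1 hi
    have hij' : D i j ≠ 0 := hij
    let x := y₀ / D i j
    have hs : cT σ (Matrix.single j i x - Matrix.single i j (σ x)) = -(Matrix.single j i x - Matrix.single i j (σ x)) := by
      ext a b
      simp only [cT_apply, Matrix.sub_apply, Matrix.neg_apply, Matrix.single_apply, map_sub, apply_ite σ,
        map_zero, hc.invol]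
      simp only [and_comm (a := j = b), and_comm (a := i = b)]
      split_ifs <;> simp
    refine ⟨⟨_, hs⟩, ?_⟩
    show ψ (Matrix.trace (D * (Matrix.single j i x - Matrix.single i j (σ x)))) ≠ 1
    rw [Matrix.mul_sub, Matrix.trace_sub, Matrix.trace_mul_single, Matrix.trace_mul_single, op_smul_eq_mul,
      op_smul_eq_mul, show D j i = σ (D i j) by rw [← cT_apply (σ := σ) D j i, hD]]
    rw [← map_mul, mul_div_cancel₀ _ hij']
    exact hψ
  refine ⟨hsep, ?_⟩
  let Herm : AddSubgroup (Matrix (Fin m) (Fin m) F) :=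
    { carrier := {B | cT σ B = B}
      add_mem' := fun {a b} ha hb => by rw [Set.mem_setOf_eq] at *; rw [cT_add, ha, hb]
      zero_mem' := by simp [cT_zero]
      neg_mem' := fun {a} ha => by
        rw [Set.mem_setOf_eq] at *
        have h : cT σ (-a) + cT σ a = 0 := by rw [← cT_add, neg_add_cancel, cT_zero]
        rw [ha] at h
        exact eq_neg_of_add_eq_zero_left h }
  let Φ : Herm → AddChar (skewH σ m) ℂ := fun B =>
    ψ.compAddMonoidHom
      { toFun := fun H => Matrix.trace ((B : Matrix (Fin m) (Fin m) F) * (H : Matrix (Fin m) (Fin m) F))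
        map_zero' := by simp
        map_add' := fun S T => by simp [Matrix.mul_add] }
  suffices hb : Function.Bijective Φ by
    intro χ
    obtain ⟨B, hB⟩ := hb.2 χ
    exact ⟨B, B.2, fun S => by rw [← hB]; rfl⟩
  rw [Nat.bijective_iff_injective_and_card]
  refine ⟨fun B B' h => ?_, ?_⟩
  · refine Subtype.ext (sub_eq_zero.1 ?_)
    by_contra hne
    obtain ⟨H, hH⟩ := hsep _ (Herm.sub_mem B.2 B'.2) hne
    apply hH
    rw [Matrix.sub_mul, Matrix.trace_sub, sub_eq_add_neg, AddChar.map_add_eq_mul, AddChar.map_neg_eq_inv,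
      show ψ (Matrix.trace ((B : Matrix (Fin m) (Fin m) F) * (H : Matrix (Fin m) (Fin m) F))) =
        ψ (Matrix.trace ((B' : Matrix (Fin m) (Fin m) F) * (H : Matrix (Fin m) (Fin m) F))) from DFunLike.congr_fun h H,
      mul_inv_cancel₀]
    exact (ψ.val_isUnit _).ne_zero
  · cases nonempty_fintype (skewH σ m)
    rw [Nat.card_eq_fintype_card (α := AddChar _ _), AddChar.card_eq, ← Nat.card_eq_fintype_card]
    obtain ⟨δ, hδ0, hδ⟩ := hc.exists_trace_zero
    have hδ' : σ δ = -δ := by linear_combination hδ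
    refine Nat.card_congr ⟨fun B => ⟨δ • (B : Matrix (Fin m) (Fin m) F), ?_⟩,
      fun H => ⟨δ⁻¹ • (H : Matrix (Fin m) (Fin m) F), ?_⟩, fun B => ?_, fun H => ?_⟩
    · show cT σ _ = -_
      ext a b
      have hB : σ ((B : Matrix (Fin m) (Fin m) F) b a) = (B : Matrix (Fin m) (Fin m) F) a b :=
        congrFun (congrFun B.2 a) b
      simp [cT_apply, hδ', hB]
    · show cT σ _ = _
      ext a b
      have hH : σ ((H : Matrix (Fin m) (Fin m) F) b a) = -(H : Matrix (Fin m) (Fin m) F) a b :=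
        congrFun (congrFun H.2 a) b
      simp [cT_apply, hδ', hH]
    · exact Subtype.ext (inv_smul_smul₀ hδ0 _)
    · exact Subtype.ext (smul_inv_smul₀ hδ0 _)

/-- A representation of `SU(2m, q)` which is non-trivial has degree at least `(q ^ (2m) - 1) / (q + 1)`. -/
theorem su_degree_bound (hF : Fintype.card F = q ^ 2) (hm : 2 ≤ m) (hn : n = m + m) (hq : m = 2 → 4 ≤ q)
    {V : Type*} [AddCommGroup V] [Module ℂ V] [FiniteDimensional ℂ V]
    (ρ : Representation ℂ (Cfsg.SU n F q) V) (hnt : ρ.ker ≠ ⊤) :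
    (q ^ n - 1) / (q + 1) ≤ Module.finrank ℂ V := by
  classical
  obtain ⟨σ, hσ, hc⟩ := exists_frob hF
  obtain ⟨P⟩ := exists_hypSys (n := n) hF hσ hc hn
  obtain ⟨y₀, hy₀⟩ := hc.exists_not_fixed
  obtain ⟨ψ, hψ⟩ := AddChar.exists_apply_ne_zero.2 (sub_ne_zero.2 (Ne.symm hy₀))
  obtain ⟨hsep, hdual⟩ := exists_herm_char (m := m) hc hψ
  refine orbit_bound ρ (P.sg hc hσ) (P.sg_add hc hσ) ?_ _ fun χ hχ => ?_
  · by_contra hall
    push Not at hall
    obtain ⟨H, hH⟩ := P.sg_not_central hc hσ hn hm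
    have hsimple : IsSimpleGroup (Cfsg.PSU n F q) :=
      Cfsg.Agent.S0283.result hF n (by omega) (by omega)
    have hperf : commutator (Cfsg.SU n F q) = ⊤ := by
      have h := (stdHerm_isHermitian hc n).sIsom_perfect (stdHerm_sepRight (σ := σ) n)
        (Or.inr (by rw [Module.finrank_fin_fun]; omega))
      have h2 := congrArg (Subgroup.map (suEquiv (n := n) hσ).symm.toMonoidHom) h
      rw [map_commutator_eq, Subgroup.map_top_of_surjective _ (suEquiv (n := n) hσ).symm.surjective,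
        MonoidHom.range_eq_top.2 (suEquiv (n := n) hσ).symm.surjective] at h2
      exact h2
    have hmap : (ρ.ker.map (QuotientGroup.mk' (Subgroup.center (Cfsg.SU n F q)))).Normal :=
      Subgroup.Normal.map inferInstance _ (QuotientGroup.mk'_surjective _)
    rcases hsimple.eq_bot_or_eq_top_of_normal _ hmap with h | h
    · rw [Subgroup.map_eq_bot_iff, QuotientGroup.ker_mk'] at h
      exact hH (h (MonoidHom.mem_ker.2 (hall H)))
    · have hsup : ρ.ker ⊔ Subgroup.center (Cfsg.SU n F q) = ⊤ := by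
        have h2 := congrArg (Subgroup.comap (QuotientGroup.mk' (Subgroup.center (Cfsg.SU n F q)))) h
        rwa [Subgroup.comap_map_eq, Subgroup.comap_top, QuotientGroup.ker_mk'] at h2
      refine hnt (eq_top_iff.2 ?_)
      rw [← hperf, commutator_def, Subgroup.commutator_le]
      intro a _ b _
      have ha : a ∈ ρ.ker ⊔ Subgroup.center (Cfsg.SU n F q) := hsup ▸ Subgroup.mem_top a
      rw [← SetLike.mem_coe, Subgroup.normal_mul] at ha
      obtain ⟨k, hk, z, hz, rfl⟩ := ha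
      have hz' := Subgroup.mem_center_iff.1 hz
      have e : ⁅k * z, b⁆ = ⁅k, b⁆ := by
        rw [commutatorElement_def, commutatorElement_def, _root_.mul_inv_rev, mul_assoc k z b, ← hz' b,
          mul_assoc k, mul_assoc b z, ← mul_assoc z z⁻¹, mul_inv_cancel, one_mul]
        simp only [mul_assoc]
      rw [e, commutatorElement_def, mul_assoc k, mul_assoc k]
      have := Subgroup.mul_mem _ hk (MonoidHom.normal_ker ρ |>.conj_mem _ (Subgroup.inv_mem _ hk) b)
      simpa [mul_assoc] using this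
  obtain ⟨B, hBh, hB⟩ := hdual χ
  have hB0 : B ≠ 0 := fun h0 => hχ (by
    refine DFunLike.ext _ _ fun S => ?_
    rw [hB, h0]
    simp)
  obtain ⟨O, hO, hOA⟩ := herm_orbit hF hσ hc hm hq hBh hB0
  have hOh : ∀ B' ∈ O, cT σ B' = B' := fun B' hB' => by
    obtain ⟨A, -, rfl⟩ := hOA B' hB'
    rw [cT_mul, cT_mul, cT_cT hc, hBh, Matrix.mul_assoc]
  refine ⟨{χ' | ∃ B' ∈ O, ∀ S : skewH σ m,
    χ' S = ψ (Matrix.trace (B' * (S : Matrix (Fin m) (Fin m) F)))}, le_trans ?_ (hO.trans ?_), fun χ' hχ' => ?_⟩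
  · rw [hn, ← two_mul]
  · rw [← Nat.card_coe_set_eq, ← Nat.card_coe_set_eq]
    have hex : ∀ B' : O, ∃ χ' : AddChar (skewH σ m) ℂ, ∀ S : skewH σ m,
        χ' S = ψ (Matrix.trace ((B' : Matrix (Fin m) (Fin m) F) * (S : Matrix (Fin m) (Fin m) F))) :=
      fun B' => ⟨ψ.compAddMonoidHom
        { toFun := fun S => Matrix.trace ((B' : Matrix (Fin m) (Fin m) F) * (S : Matrix (Fin m) (Fin m) F))
          map_zero' := by simp
          map_add' := fun S T => by simp [Matrix.mul_add] }, fun S => rfl⟩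
    choose c hc' using hex
    refine Nat.card_le_card_of_injective (fun B' : O => ⟨c B', ⟨B'.1, B'.2, hc' B'⟩⟩) ?_
    intro B1 B2 h
    have h' : c B1 = c B2 := congrArg Subtype.val h
    refine Subtype.ext (sub_eq_zero.1 ?_)
    by_contra hne
    obtain ⟨S, hS⟩ := hsep _ (by
      have e : cT σ ((B1 : Matrix (Fin m) (Fin m) F) - (B2 : Matrix (Fin m) (Fin m) F)) + cT σ (B2 : Matrix (Fin m) (Fin m) F) =
          cT σ (B1 : Matrix (Fin m) (Fin m) F) := by rw [← cT_add, sub_add_cancel]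
      rw [hOh _ B1.2, hOh _ B2.2] at e
      exact eq_sub_of_add_eq e) hne
    apply hS
    rw [Matrix.sub_mul, Matrix.trace_sub, sub_eq_add_neg, AddChar.map_add_eq_mul, AddChar.map_neg_eq_inv,
      ← hc' B1 S, ← hc' B2 S, h', mul_inv_cancel₀]
    exact ((c B2).val_isUnit _).ne_zero
  · obtain ⟨B', hB', hχB'⟩ := hχ'
    obtain ⟨A, hA, rfl⟩ := hOA B' hB'
    refine ⟨P.lv hc hσ hn A hA, HypSys.congH hc (A : Matrix (Fin m) (Fin m) F),
      P.lv_sg hc hσ hn A hA, fun S => ?_⟩
    rw [hχB', hB]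
    congr 1
    simp only [HypSys.congH]
    rw [Matrix.mul_assoc, Matrix.mul_assoc, Matrix.trace_mul_comm]
    simp only [Matrix.mul_assoc]

end CfsgLib.MinDeg
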