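import Cfsg.Agent.Lib.KnownB.MinDeg.Heisenberg
import Cfsg.Agent.Lib.KnownB.MinDeg.SpSiegel
import Cfsg.Agent.Lib.CharDeep.IrrTools

/-!
# The odd part of the Weil representation of `Sp(2n, q)`, `q` odd

The intertwiners are unique up to a scalar and commute with the parity operator.  As the even part has
dimension one more than the odd part, dividing the odd determinant by the even one removes the scalar,
which yields a genuine representation on the odd functions.
-/

set_option autoImplicit false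

open Matrix CfsgLib.Classical

namespace CfsgLib.MinDeg

variable {F : Type*} [Field F] [Fintype F] {n : ℕ} {ψ : AddChar F ℂ}

variable (F n) in
/-- The parity operator. -/
def parity : Module.End ℂ ((Fin n → F) → ℂ) where
  toFun f x := f (-x)
  map_add' _ _ := rfl
  map_smul' _ _ := rfl

theorem parity_apply (f : (Fin n → F) → ℂ) (x : Fin n → F) : parity F n f x = f (-x) := rfl

theorem parity_mul_self : parity F n * parity F n = 1 :=
  LinearMap.ext fun f => funext fun x => by simp [parity_apply]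

theorem parity_schr (v : Fin n ⊕ Fin n → F) : parity F n * schr ψ v = schr ψ (-v) * parity F n := by
  refine LinearMap.ext fun f => funext fun x => ?_
  simp only [Module.End.mul_apply, parity_apply, schr_apply,
    show (-v) ∘ Sum.inl = -(v ∘ Sum.inl) from rfl, show (-v) ∘ Sum.inr = -(v ∘ Sum.inr) from rfl,
    dotProduct_neg, neg_dotProduct, neg_neg, neg_add, add_comm (-x)]

theorem trace_parity (h2 : (2 : F) ≠ 0) :
    LinearMap.trace ℂ ((Fin n → F) → ℂ) (parity F n) = 1 := by
  classical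
  rw [LinearMap.trace_eq_matrix_trace ℂ (Pi.basisFun ℂ (Fin n → F)), Matrix.trace]
  simp only [Matrix.diag_apply, LinearMap.toMatrix_apply, Pi.basisFun_repr, Pi.basisFun_apply,
    parity_apply, Pi.single_apply]
  rw [Finset.sum_eq_single 0 (fun x _ hx => if_neg fun h => hx ?_) (by simp)]
  · simp
  · funext i
    have h' := congrFun h i
    rw [Pi.neg_apply] at h'
    have e : (2 : F) * x i = 0 := by linear_combination -h'
    exact (mul_eq_zero.1 e).resolve_left h2

theorem intertwiner_unique (hψ : ψ ≠ 0) {g : symplecticGroup (Fin n) F}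
    {T U : Module.End ℂ ((Fin n → F) → ℂ)} (hT : IsUnit T) (hTi : Intertwines ψ g T)
    (hU : Intertwines ψ g U) : ∃ c : ℂ, U = c • T := by
  obtain ⟨T, rfl⟩ := hT
  obtain ⟨c, hc⟩ := schr_commutant hψ ((↑T⁻¹ : Module.End ℂ _) * U) fun v => by
    calc (↑T⁻¹ : Module.End ℂ _) * U * schr ψ v
        = ↑T⁻¹ * (schr ψ _ * U) := by rw [mul_assoc, hU v]
      _ = ↑T⁻¹ * (schr ψ ((g : Matrix _ _ F) *ᵥ v) * ↑T) * (↑T⁻¹ * U) := by simp [mul_assoc]
      _ = schr ψ v * (↑T⁻¹ * U) := by rw [← hTi v]; simp [← mul_assoc]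
  refine ⟨c, ?_⟩
  calc U = ↑T * ((↑T⁻¹ : Module.End ℂ _) * U) := by simp [← mul_assoc]
    _ = c • (↑T : Module.End ℂ _) := by rw [hc]; simp

theorem parity_commute (hodd : Odd (Fintype.card F)) (hψ : ψ ≠ 0) {g : symplecticGroup (Fin n) F}
    {T : Module.End ℂ ((Fin n → F) → ℂ)} (hT : IsUnit T) (hTi : Intertwines ψ g T) :
    parity F n * T = T * parity F n := by
  classical
  have h2 := two_ne_zero_of_odd hodd
  have hi : Intertwines ψ g (parity F n * T * parity F n) := fun v => by
    rw [mul_assoc, parity_schr, ← mul_assoc, mul_assoc (parity F n), hTi, ← mul_assoc, parity_schr,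
      Matrix.mulVec_neg, neg_neg]
    simp only [mul_assoc]
  obtain ⟨μ, hμ⟩ := intertwiner_unique hψ hT hTi hi
  have hPT : parity F n * T = μ • (T * parity F n) := by
    rw [← smul_mul_assoc, ← hμ, mul_assoc, parity_mul_self, mul_one]
  obtain ⟨T, rfl⟩ := hT
  have e : parity F n = μ • ((↑T : Module.End ℂ _) * parity F n * (↑T⁻¹ : Module.End ℂ _)) := by
    rw [← smul_mul_assoc, ← hPT, mul_assoc, Units.mul_inv, mul_one]
  have htr := congrArg (LinearMap.trace ℂ ((Fin n → F) → ℂ)) e
  rw [map_smul, LinearMap.trace_mul_comm, ← mul_assoc, Units.inv_mul, one_mul, trace_parity h2,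
    smul_eq_mul, mul_one] at htr
  rw [hPT, ← htr, one_smul]

variable (F n) in
/-- The functions of the given parity. -/
def parSpace (ε : ℂ) : Submodule ℂ ((Fin n → F) → ℂ) := (parity F n).eigenspace ε

theorem mem_parSpace {ε : ℂ} {f : (Fin n → F) → ℂ} : f ∈ parSpace F n ε ↔ parity F n f = ε • f :=
  Module.End.mem_eigenspace_iff

theorem finrank_parSpace (h2 : (2 : F) ≠ 0) :
    2 * Module.finrank ℂ (parSpace F n (-1)) + 1 = Fintype.card F ^ n ∧
      Module.finrank ℂ (parSpace F n 1) = Module.finrank ℂ (parSpace F n (-1)) + 1 := by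
  classical
  have hproj : ∀ ε : ℂ, ε * ε = 1 →
      (2 : ℂ) * (Module.finrank ℂ (parSpace F n ε) : ℂ) = Fintype.card F ^ n + ε := by
    intro ε hε
    have hp : LinearMap.IsProj (parSpace F n ε) ((1 / 2 : ℂ) • (1 + ε • parity F n)) := by
      constructor
      · intro f
        rw [mem_parSpace]
        have e : parity F n (parity F n f) = f := by
          rw [← Module.End.mul_apply, parity_mul_self, Module.End.one_apply]
        simp only [LinearMap.smul_apply, LinearMap.add_apply, Module.End.one_apply, map_smul,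
          map_add, e, smul_add, smul_smul]
        match_scalars <;> grind
      · intro f hf
        rw [mem_parSpace] at hf
        simp only [LinearMap.smul_apply, LinearMap.add_apply, Module.End.one_apply, hf, smul_smul, hε,
          one_smul]
        rw [← two_smul ℂ f, smul_smul]
        norm_num
    have h := hp.trace
    rw [map_smul, map_add, map_smul, LinearMap.trace_one, trace_parity h2,
      Module.finrank_fintype_fun_eq_card, Fintype.card_pi_const, smul_eq_mul, smul_eq_mul] at h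
    rw [← h]
    push_cast
    ring
  have h1 := hproj 1 (by ring)
  have h3 := hproj (-1) (by ring)
  constructor
  · have : ((2 * Module.finrank ℂ (parSpace F n (-1)) + 1 : ℕ) : ℂ) = ((Fintype.card F ^ n : ℕ) : ℂ) := by
      push_cast
      linear_combination h3
    exact_mod_cast this
  · have : ((Module.finrank ℂ (parSpace F n 1) : ℕ) : ℂ) =
        ((Module.finrank ℂ (parSpace F n (-1)) + 1 : ℕ) : ℂ) := by
      push_cast
      linear_combination (h1 - h3) / 2
    exact_mod_cast this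

variable (hodd : Odd (Fintype.card F)) (hψ : ψ ≠ 0)

/-- A chosen intertwiner. -/
noncomputable def wT (g : symplecticGroup (Fin n) F) : Module.End ℂ ((Fin n → F) → ℂ) :=
  Classical.choose (exists_intertwiner hodd hψ g)

theorem wT_unit (g : symplecticGroup (Fin n) F) : IsUnit (wT hodd hψ g) :=
  (Classical.choose_spec (exists_intertwiner hodd hψ g)).1

theorem wT_intertwines (g : symplecticGroup (Fin n) F) : Intertwines ψ g (wT hodd hψ g) :=
  (Classical.choose_spec (exists_intertwiner hodd hψ g)).2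

theorem wT_maps (g : symplecticGroup (Fin n) F) {ε : ℂ} :
    ∀ f ∈ parSpace F n ε, wT hodd hψ g f ∈ parSpace F n ε := fun f hf => by
  rw [mem_parSpace] at hf ⊢
  rw [← Module.End.mul_apply, parity_commute hodd hψ (wT_unit hodd hψ g) (wT_intertwines hodd hψ g),
    Module.End.mul_apply, hf, map_smul]

/-- The intertwiner on the functions of a parity. -/
noncomputable def wRes (ε : ℂ) (g : symplecticGroup (Fin n) F) :
    Module.End ℂ (parSpace F n ε) :=
  (wT hodd hψ g).restrict (wT_maps hodd hψ g)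

theorem wRes_apply (ε : ℂ) (g : symplecticGroup (Fin n) F) (f : parSpace F n ε) :
    (wRes hodd hψ ε g f : (Fin n → F) → ℂ) = wT hodd hψ g f := rfl

theorem det_wRes_ne_zero (ε : ℂ) (g : symplecticGroup (Fin n) F) :
    LinearMap.det (wRes hodd hψ ε g) ≠ 0 := by
  refine IsUnit.ne_zero (LinearMap.isUnit_det _ ((LinearMap.isUnit_iff_ker_eq_bot _).2 ?_))
  rw [LinearMap.ker_eq_bot]
  intro a b h
  refine Subtype.ext ?_
  obtain ⟨T, hT⟩ := wT_unit hodd hψ g
  have h' := congrArg (fun z : parSpace F n ε => (↑T⁻¹ : Module.End ℂ _) (z : (Fin n → F) → ℂ)) h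
  simp only [wRes_apply, ← hT, ← Module.End.mul_apply, Units.inv_mul] at h'
  simpa using h'

theorem wT_mul (g h : symplecticGroup (Fin n) F) :
    ∃ c : ℂ, c ≠ 0 ∧ wT hodd hψ g * wT hodd hψ h = c • wT hodd hψ (g * h) := by
  obtain ⟨c, hc⟩ := intertwiner_unique hψ (wT_unit hodd hψ (g * h)) (wT_intertwines hodd hψ (g * h))
    ((wT_intertwines hodd hψ g).mul (wT_intertwines hodd hψ h))
  refine ⟨c, fun h0 => ?_, hc⟩
  rw [h0, zero_smul] at hc
  exact ((wT_unit hodd hψ g).mul (wT_unit hodd hψ h)).ne_zero hc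

/-- The factor removing the scalar. -/
noncomputable def wRatio (g : symplecticGroup (Fin n) F) : ℂ :=
  LinearMap.det (wRes hodd hψ (-1) g) / LinearMap.det (wRes hodd hψ 1 g)

theorem wRatio_ne_zero (g : symplecticGroup (Fin n) F) : wRatio hodd hψ g ≠ 0 :=
  div_ne_zero (det_wRes_ne_zero hodd hψ _ g) (det_wRes_ne_zero hodd hψ _ g)

theorem weil_mul (g h : symplecticGroup (Fin n) F) :
    wRatio hodd hψ (g * h) • wRes hodd hψ (-1) (g * h) =
      (wRatio hodd hψ g • wRes hodd hψ (-1) g) * (wRatio hodd hψ h • wRes hodd hψ (-1) h) := by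
  obtain ⟨c, hc0, hc⟩ := wT_mul hodd hψ g h
  have hres : ∀ ε : ℂ, wRes hodd hψ ε g * wRes hodd hψ ε h = c • wRes hodd hψ ε (g * h) := by
    intro ε
    refine LinearMap.ext fun f => Subtype.ext ?_
    simp only [Module.End.mul_apply, LinearMap.smul_apply, Submodule.coe_smul, wRes_apply]
    rw [← Module.End.mul_apply, hc, LinearMap.smul_apply]
  have hd : ∀ ε : ℂ, LinearMap.det (wRes hodd hψ ε g) * LinearMap.det (wRes hodd hψ ε h) =
      c ^ Module.finrank ℂ (parSpace F n ε) * LinearMap.det (wRes hodd hψ ε (g * h)) := fun ε => by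
    rw [← map_mul, hres ε, LinearMap.det_smul]
  have hr : wRatio hodd hψ g * wRatio hodd hψ h = wRatio hodd hψ (g * h) / c := by
    simp only [wRatio, div_mul_div_comm, hd]
    rw [(finrank_parSpace (two_ne_zero_of_odd hodd)).2, pow_succ]
    have := det_wRes_ne_zero hodd hψ (n := n) 1 (g * h)
    field_simp
  rw [smul_mul_assoc, mul_smul_comm, hres, smul_smul, smul_smul, hr, div_mul_cancel₀ _ hc0]

theorem weil_one :
    wRatio hodd hψ (1 : symplecticGroup (Fin n) F) • wRes hodd hψ (-1) (1 : symplecticGroup (Fin n) F) = 1 := by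
  have hu : IsUnit (wRatio hodd hψ (1 : symplecticGroup (Fin n) F) •
      wRes hodd hψ (-1) (1 : symplecticGroup (Fin n) F)) := by
    refine (LinearMap.isUnit_iff_isUnit_det _).2 ?_
    rw [LinearMap.det_smul]
    exact (mul_ne_zero (pow_ne_zero _ (wRatio_ne_zero hodd hψ _)) (det_wRes_ne_zero hodd hψ _ _)).isUnit
  have h := weil_mul hodd hψ (1 : symplecticGroup (Fin n) F) 1
  rw [mul_one] at h
  exact (hu.mul_eq_left.1 h.symm)

/-- The representation on the odd functions. -/
noncomputable def weilOdd :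
    Representation ℂ (symplecticGroup (Fin n) F) (parSpace F n (-1)) where
  toFun g := wRatio hodd hψ g • wRes hodd hψ (-1) g
  map_one' := weil_one hodd hψ
  map_mul' g h := weil_mul hodd hψ g h

/-- Multiplication by a quadratic phase. -/
noncomputable def phaseOp (ψ : AddChar F ℂ) (S : symMat F n) : Module.End ℂ ((Fin n → F) → ℂ) where
  toFun f x := ψ (-(x ⬝ᵥ (S : Matrix (Fin n) (Fin n) F) *ᵥ x) / 2) * f x
  map_add' f g := by funext x; simp [mul_add]
  map_smul' c f := by funext x; simp [mul_left_comm]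

include hodd in
theorem phaseOp_intertwines (S : symMat F n) :
    Intertwines ψ (siegel S) (phaseOp ψ S) := fun v => by
  have h2 := two_ne_zero_of_odd hodd
  refine LinearMap.ext fun f => funext fun x => ?_
  obtain ⟨b, a, rfl⟩ : ∃ b a : Fin n → F, v = Sum.elim b a :=
    ⟨v ∘ Sum.inl, v ∘ Sum.inr, (Sum.elim_comp_inl_inr v).symm⟩
  rw [siegel_coe, Matrix.fromBlocks_mulVec]
  simp only [Module.End.mul_apply, phaseOp, LinearMap.coe_mk, AddHom.coe_mk, schr_apply,
    Sum.elim_comp_inl, Sum.elim_comp_inr, Matrix.one_mulVec, Matrix.zero_mulVec, zero_add,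
    ← mul_assoc, ← AddChar.map_add_eq_mul]
  congr 2
  have hs : ∀ u w : Fin n → F, ((S : Matrix (Fin n) (Fin n) F) *ᵥ u) ⬝ᵥ w = u ⬝ᵥ (S : Matrix (Fin n) (Fin n) F) *ᵥ w :=
    fun u w => by
      rw [Matrix.dotProduct_mulVec u, ← Matrix.mulVec_transpose, symMat_eq]
  simp only [Matrix.mulVec_add, dotProduct_add, add_dotProduct, hs]
  rw [show x ⬝ᵥ (S : Matrix (Fin n) (Fin n) F) *ᵥ a = a ⬝ᵥ (S : Matrix (Fin n) (Fin n) F) *ᵥ x by
    rw [← hs x a, dotProduct_comm]]
  field_simp
  ring

omit hodd hψ in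
theorem levi_intertwines (A : GL (Fin n) F) :
    Intertwines ψ (levi A)
      (LinearMap.funLeft ℂ ℂ fun x => (A : Matrix (Fin n) (Fin n) F)ᵀ *ᵥ x) := fun v => by
  refine LinearMap.ext fun f => funext fun x => ?_
  obtain ⟨b, a, rfl⟩ : ∃ b a : Fin n → F, v = Sum.elim b a :=
    ⟨v ∘ Sum.inl, v ∘ Sum.inr, (Sum.elim_comp_inl_inr v).symm⟩
  rw [levi_coe, Matrix.fromBlocks_mulVec]
  simp only [Module.End.mul_apply, LinearMap.funLeft_apply, schr_apply, Sum.elim_comp_inl,
    Sum.elim_comp_inr, Matrix.zero_mulVec, zero_add, add_zero, Matrix.mulVec_add, Matrix.mulVec_mulVec,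
    gl_inv_mul_transpose, Matrix.one_mulVec]
  congr 2
  have e : ∀ z : Fin n → F, z ⬝ᵥ ((A : Matrix (Fin n) (Fin n) F) *ᵥ b) =
      ((A : Matrix (Fin n) (Fin n) F)ᵀ *ᵥ z) ⬝ᵥ b := fun z => by
    rw [Matrix.dotProduct_mulVec, ← Matrix.mulVec_transpose]
  rw [dotProduct_comm ((A : Matrix (Fin n) (Fin n) F) *ᵥ b) x, e, e, Matrix.mulVec_mulVec,
    gl_inv_mul_transpose, Matrix.one_mulVec, dotProduct_comm b]

theorem no_common_eigenvector (hn : 2 ≤ n) (f : parSpace F n (-1))
    (hf : ∀ g, weilOdd hodd hψ g f = f) : f = 0 := by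
  classical
  have h2 := two_ne_zero_of_odd hodd
  by_contra hf0
  have heig : ∀ (g : symplecticGroup (Fin n) F) (U : Module.End ℂ ((Fin n → F) → ℂ)),
      Intertwines ψ g U → ∃ l : ℂ, U (f : (Fin n → F) → ℂ) = l • (f : (Fin n → F) → ℂ) := by
    intro g U hU
    obtain ⟨c, hc⟩ := intertwiner_unique hψ (wT_unit hodd hψ g) (wT_intertwines hodd hψ g) hU
    refine ⟨c / wRatio hodd hψ g, ?_⟩
    have h := congrArg Subtype.val (hf g)
    rw [hc, LinearMap.smul_apply]
    conv_rhs => rw [← h]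
    simp only [weilOdd, MonoidHom.coe_mk, OneHom.coe_mk, LinearMap.smul_apply, Submodule.coe_smul,
      wRes_apply, smul_smul]
    rw [div_mul_cancel₀ _ (wRatio_ne_zero hodd hψ g)]
  obtain ⟨x₀, hx₀⟩ := Function.ne_iff.1 (fun h => hf0 (Subtype.ext h) : (f : (Fin n → F) → ℂ) ≠ 0)
  have hx0 : x₀ ≠ 0 := by
    rintro rfl
    apply hx₀
    have h := congrFun (mem_parSpace.1 f.2) 0
    rw [parity_apply, neg_zero, Pi.smul_apply, smul_eq_mul] at h
    show (f : (Fin n → F) → ℂ) 0 = 0
    linear_combination h / 2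
  obtain ⟨i, hi⟩ := Function.ne_iff.1 hx0
  have : Nontrivial (Fin n) := Fin.nontrivial_iff_two_le.2 hn
  obtain ⟨j, hji⟩ := exists_ne i
  set y := x₀ + Pi.single j 1 with hy
  have hy0 : y ≠ 0 := fun h => hi (by simpa [hy, Pi.single_eq_of_ne hji.symm] using congrFun h i)
  obtain ⟨M, hM⟩ := exists_gl_mulVec hy0 hx0
  let A : GL (Fin n) F := ⟨(M : Matrix (Fin n) (Fin n) F)ᵀ, ((M⁻¹ : GL (Fin n) F) : Matrix (Fin n) (Fin n) F)ᵀ,
    gl_inv_mul_transpose M, gl_transpose_mul_inv M⟩
  obtain ⟨l, hl⟩ := heig _ _ (levi_intertwines (ψ := ψ) A)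
  have hfy : (f : (Fin n → F) → ℂ) y ≠ 0 := by
    intro h0
    have := congrFun hl y
    rw [LinearMap.funLeft_apply, Pi.smul_apply, h0, smul_zero] at this
    apply hx₀
    show (f : (Fin n → F) → ℂ) x₀ = 0
    rw [← this]
    simp [A, hM]
  have key : ∀ S : symMat F n,
      x₀ ⬝ᵥ (S : Matrix (Fin n) (Fin n) F) *ᵥ x₀ - y ⬝ᵥ (S : Matrix (Fin n) (Fin n) F) *ᵥ y = 0 := by
    intro S
    by_contra hd
    obtain ⟨t, ht⟩ := AddChar.ne_zero_iff.1 hψ
    set d := x₀ ⬝ᵥ (S : Matrix (Fin n) (Fin n) F) *ᵥ x₀ - y ⬝ᵥ (S : Matrix (Fin n) (Fin n) F) *ᵥ y with hd'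
    let S' : symMat F n := ⟨(-(2 * t) / d) • (S : Matrix (Fin n) (Fin n) F), by
      show (_)ᵀ = _; rw [transpose_smul, symMat_eq]⟩
    obtain ⟨l, hl⟩ := heig _ _ (phaseOp_intertwines hodd (ψ := ψ) S')
    have e1 := mul_right_cancel₀ hx₀ (congrFun hl x₀ : ψ _ * _ = l * _)
    have e2 := mul_right_cancel₀ hfy (congrFun hl y : ψ _ * _ = l * _)
    rw [← e2] at e1
    apply ht
    have e3 : t = -(x₀ ⬝ᵥ (S' : Matrix (Fin n) (Fin n) F) *ᵥ x₀) / 2 +
        -(-(y ⬝ᵥ (S' : Matrix (Fin n) (Fin n) F) *ᵥ y) / 2) := by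
      simp only [S', Matrix.smul_mulVec, dotProduct_smul, smul_eq_mul]
      field_simp
      rw [hd']; ring
    rw [e3, AddChar.map_add_eq_mul, AddChar.map_neg_eq_inv, e1, mul_inv_cancel₀]
    exact (ψ.val_isUnit _).ne_zero
  have h1 := key ⟨Matrix.single i j 1 + Matrix.single j i 1, by
    show (_)ᵀ = _
    rw [transpose_add, transpose_single, transpose_single, add_comm]⟩
  simp [Matrix.mulVec, dotProduct, Matrix.single_apply, hy, Pi.single_apply, hji, hji.symm,
    Finset.sum_add_distrib, add_mul, mul_add] at h1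
  exact hi (by
    have : (2 : F) * x₀ i = 0 := by linear_combination -h1
    exact (mul_eq_zero.1 this).resolve_left h2)

theorem weilOdd_irreducible (hn : 2 ≤ n) : (weilOdd hodd hψ (n := n)).IsIrreducible := by
  classical
  have hfr := (finrank_parSpace (n := n) (two_ne_zero_of_odd hodd)).1
  have h4 : 4 ≤ Fintype.card F ^ n := by
    calc 4 = 2 ^ 2 := rfl
      _ ≤ Fintype.card F ^ 2 := Nat.pow_le_pow_left Fintype.one_lt_card 2
      _ ≤ Fintype.card F ^ n := Nat.pow_le_pow_right (Fintype.card_pos) hn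
  have : Nontrivial (parSpace F n (-1)) := Module.nontrivial_of_finrank_pos (R := ℂ) (by omega)
  refine CfsgLib.CharDeep.IrrTools.isIrreducible_of_forall _ fun U hU => ?_
  by_cases h0 : U = ⊥
  · exact Or.inl h0
  right
  let ρU : Representation ℂ (symplecticGroup (Fin n) F) U :=
    { toFun := fun g => (weilOdd hodd hψ g).restrict (hU g)
      map_one' := LinearMap.ext fun u => Subtype.ext (by simp)
      map_mul' := fun g h => LinearMap.ext fun u => Subtype.ext (by simp) }
  have hnt : ρU.ker ≠ ⊤ := by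
    intro hker
    obtain ⟨f, hf, hf0⟩ := Submodule.exists_mem_ne_zero_of_ne_bot h0
    refine hf0 (no_common_eigenvector hodd hψ hn f fun g => ?_)
    have h : ρU g = 1 := MonoidHom.mem_ker.1 (hker ▸ Subgroup.mem_top g)
    exact congrArg Subtype.val (LinearMap.congr_fun h ⟨f, hf⟩)
  refine Submodule.eq_top_of_finrank_eq (le_antisymm (Submodule.finrank_le U) ?_)
  have h1 := sp_degree_bound (F := F) (n := n) (V := ↥U) (by omega) hodd ρU
  have := h1 hnt
  omega

end CfsgLib.MinDeg
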